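import Groth.Agent.Zeta.K468.Count
import Mathlib.RingTheory.Localization.Away.Basic
import Mathlib.Analysis.SpecialFunctions.Pow.Real

/-!
# Operations on the counting function
-/

set_option autoImplicit false
universe u v w w'

open scoped TensorProduct nonZeroDivisors

namespace K468.Cnt

section Ops

variable {R : Type*} {F : Type*} [CommRing R] [Field F] (φ : R →+* F)

theorem N_congr {A B : Type*} [CommRing A] [CommRing B] [Algebra R A] [Algebra R B] (e : A ≃ₐ[R] B) :
    N A φ = N B φ := by
  refine Nat.card_congr ?_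
  exact
    { toFun := fun ψ => ⟨ψ.1.comp e.symm.toRingEquiv.toRingHom, by
        refine Eq.trans ?_ ψ.2; ext x; simp⟩
      invFun := fun ψ => ⟨ψ.1.comp e.toRingEquiv.toRingHom, by
        refine Eq.trans ?_ ψ.2; ext x; simp⟩
      left_inv := fun ψ => by
        apply Subtype.ext; ext x; simp
      right_inv := fun ψ => by
        apply Subtype.ext; ext x; simp }

theorem N_le_of_surjective [Finite F] {A B : Type*} [CommRing A] [CommRing B] [Algebra R A] [Algebra R B]
    [Algebra.FiniteType R A] (g : A →ₐ[R] B) (hg : Function.Surjective g) :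
    N B φ ≤ N A φ := by
  have := finite_homs (A := A) φ
  refine Nat.card_le_card_of_injective
    (fun ψ : {ψ : B →+* F // ψ.comp (algebraMap R B) = φ} =>
      (⟨ψ.1.comp g.toRingHom, by
        refine Eq.trans ?_ ψ.2; ext x; simp⟩ : {ψ : A →+* F // ψ.comp (algebraMap R A) = φ})) ?_
  intro ψ ψ' h
  apply Subtype.ext
  ext b
  obtain ⟨a, rfl⟩ := hg b
  exact RingHom.congr_fun (congrArg Subtype.val h) a

/-- Counting homomorphisms by whether they kill an element. -/
theorem N_eq_add [Finite F] (A : Type*) [CommRing A] [Algebra R A] [Algebra.FiniteType R A] (g : A)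
    (Ag : Type*) [CommRing Ag] [Algebra A Ag] [Algebra R Ag] [IsScalarTower R A Ag]
    [IsLocalization.Away g Ag] :
    N A φ = N Ag φ + N (A ⧸ Ideal.span {g}) φ := by
  classical
  have := finite_homs (A := A) φ
  let H := {ψ : A →+* F // ψ.comp (algebraMap R A) = φ}
  have h1 : Nat.card H = Nat.card {ψ : H // ψ.1 g ≠ 0} + Nat.card {ψ : H // ¬ ψ.1 g ≠ 0} := by
    rw [← Nat.card_sum]
    exact Nat.card_congr (Equiv.sumCompl fun ψ : H => ψ.1 g ≠ 0).symm
  rw [N, h1]
  congr 1
  · symm
    refine Nat.card_congr ?_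
    exact
      { toFun := fun ψ => ⟨⟨ψ.1.comp (algebraMap A Ag), by
            rw [RingHom.comp_assoc, ← IsScalarTower.algebraMap_eq]; exact ψ.2⟩, by
            have h2 := (IsLocalization.Away.algebraMap_isUnit (S := Ag) g).map ψ.1
            exact h2.ne_zero⟩
        invFun := fun ψ => ⟨IsLocalization.Away.lift (S := Ag) g (g := ψ.1.1)
            (isUnit_iff_ne_zero.mpr ψ.2), by
            rw [IsScalarTower.algebraMap_eq R A Ag, ← RingHom.comp_assoc,
              IsLocalization.Away.lift_comp (S := Ag) g (isUnit_iff_ne_zero.mpr ψ.2)]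
            exact ψ.1.2⟩
        left_inv := fun ψ => by
          have h2 : ψ.1 (algebraMap A Ag g) ≠ 0 :=
            ((IsLocalization.Away.algebraMap_isUnit (S := Ag) g).map ψ.1).ne_zero
          apply Subtype.ext
          apply IsLocalization.ringHom_ext (Submonoid.powers g)
          exact IsLocalization.Away.lift_comp (S := Ag) g
            (g := ψ.1.comp (algebraMap A Ag)) (isUnit_iff_ne_zero.mpr h2)
        right_inv := fun ψ => by
          apply Subtype.ext
          apply Subtype.ext
          exact IsLocalization.Away.lift_comp (S := Ag) g (isUnit_iff_ne_zero.mpr ψ.2) }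
  · symm
    refine Nat.card_congr ?_
    exact
      { toFun := fun ψ => ⟨⟨ψ.1.comp (Ideal.Quotient.mk _), ψ.2⟩, by
            simp only [ne_eq, not_not, RingHom.comp_apply]
            rw [Ideal.Quotient.eq_zero_iff_mem.mpr (Ideal.mem_span_singleton_self g), map_zero]⟩
        invFun := fun ψ => ⟨Ideal.Quotient.lift _ ψ.1.1 (fun a ha => by
            obtain ⟨b, rfl⟩ := Ideal.mem_span_singleton'.mp ha
            rw [map_mul, not_not.mp ψ.2, mul_zero]), by
            refine Eq.trans ?_ ψ.1.2; rfl⟩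
        left_inv := fun ψ => by
          apply Subtype.ext
          apply Ideal.Quotient.ringHom_ext
          rfl
        right_inv := fun ψ => by
          apply Subtype.ext
          apply Subtype.ext
          rfl }

theorem N_away_le [Finite F] (A : Type*) [CommRing A] [Algebra R A] [Algebra.FiniteType R A] (g : A)
    (Ag : Type*) [CommRing Ag] [Algebra A Ag] [Algebra R Ag] [IsScalarTower R A Ag]
    [IsLocalization.Away g Ag] : N Ag φ ≤ N A φ := by
  rw [N_eq_add φ A g Ag]
  exact Nat.le_add_right _ _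

/-- Counting along a tower `R → B → A`. -/
theorem N_tower [Finite F] (B A : Type*) [CommRing B] [CommRing A] [Algebra R B] [Algebra R A]
    [Algebra B A] [IsScalarTower R B A] [Algebra.FiniteType R B] [Algebra.FiniteType R A] :
    N A φ = ∑ᶠ ψ : {ψ : B →+* F // ψ.comp (algebraMap R B) = φ}, N A ψ.1 := by
  classical
  have := finite_homs (A := A) φ
  have := finite_homs (A := B) φ
  have := Fintype.ofFinite {ψ : B →+* F // ψ.comp (algebraMap R B) = φ}
  have hfin : ∀ ψ : {ψ : B →+* F // ψ.comp (algebraMap R B) = φ},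
      Finite {χ : A →+* F // χ.comp (algebraMap B A) = ψ.1} := by
    intro ψ
    refine Finite.of_injective (fun χ : {χ : A →+* F // χ.comp (algebraMap B A) = ψ.1} =>
      (⟨χ.1, by rw [IsScalarTower.algebraMap_eq R B A, ← RingHom.comp_assoc, χ.2, ψ.2]⟩ :
        {ψ : A →+* F // ψ.comp (algebraMap R A) = φ})) ?_
    intro χ χ' h
    exact Subtype.ext (congrArg (fun z => z.1) h)
  rw [finsum_eq_sum_of_fintype]
  simp only [N]
  rw [← Nat.card_sigma]
  refine Nat.card_congr ?_
  exact
    { toFun := fun χ => ⟨⟨χ.1.comp (algebraMap B A), by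
          rw [RingHom.comp_assoc, ← IsScalarTower.algebraMap_eq]; exact χ.2⟩, ⟨χ.1, rfl⟩⟩
      invFun := fun p => ⟨p.2.1, by
          rw [IsScalarTower.algebraMap_eq R B A, ← RingHom.comp_assoc, p.2.2, p.1.2]⟩
      left_inv := fun χ => rfl
      right_inv := fun p => by
        obtain ⟨⟨ψ, hψ⟩, ⟨χ, hχ⟩⟩ := p
        have hχ' : χ.comp (algebraMap B A) = ψ := hχ
        subst hχ'
        rfl }

end Ops

/-- The counting function is `O(q ^ r)` generically on `Spec R`. -/
def UBd (R : Type u) (A : Type v) [CommRing R] [CommRing A] [Algebra R A] (r : ℕ) : Prop :=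
  ∃ h : R, h ≠ 0 ∧ ∃ C : ℝ, 0 ≤ C ∧ ∀ (F : Type w) [Field F] [Finite F] (φ : R →+* F), φ h ≠ 0 →
    (N A φ : ℝ) ≤ C * (Nat.card F : ℝ) ^ r

/-- The Lang–Weil estimate holds generically on `Spec R`. -/
def LW (R : Type u) (A : Type v) [CommRing R] [CommRing A] [Algebra R A] (r : ℕ) : Prop :=
  ∃ h : R, h ≠ 0 ∧ ∃ C : ℝ, 0 ≤ C ∧ ∀ (F : Type w) [Field F] [Finite F] (φ : R →+* F), φ h ≠ 0 →
    |(N A φ : ℝ) - (Nat.card F : ℝ) ^ r| ≤ C * ((Nat.card F : ℝ) ^ r / Real.sqrt (Nat.card F))

theorem UBd.of_dim {R : Type u} {A : Type v} [CommRing R] [IsDomain R] [CommRing A] [Algebra R A]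
    [Algebra.FiniteType R A] (K : Type*) [Field K] [Algebra R K]
    [IsFractionRing R K] {r : ℕ} (hr : ringKrullDim (K ⊗[R] A) ≤ r) : UBd.{u, v, w} R A r := by
  obtain ⟨h, hh, C, hC⟩ := upper_bound.{u, v, _, w} K r hr
  refine ⟨h, hh, C, Nat.cast_nonneg C, fun F _ _ φ hφ => ?_⟩
  exact_mod_cast hC F φ hφ

end K468.Cnt
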