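import Groth.Agent.Zeta.K468.Euler3
import Groth.Agent.Zeta.K468.CountOps
import Groth.Agent.UnramA.MonoEndo
import Mathlib.FieldTheory.Finite.GaloisField

/-!
# Maximal ideals of finitely generated rings and homomorphisms to finite fields
-/

set_option autoImplicit false
universe u v w

open Filter Topology

namespace K468.Arith

open K468.EP

section Hom

/-- The number of embeddings between finite fields. -/
theorem card_hom (κ F : Type*) [Field κ] [Finite κ] [Field F] [Finite F] (p m : ℕ)
    [hp : Fact p.Prime] (hF : Nat.card F = p ^ m) :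
    (Nat.card (κ →+* F) : ℝ) = w (Nat.card κ) (Nat.card F) * m := by
  have hFp : CharP F p := by
    obtain ⟨q, hq⟩ := CharP.exists F
    have hq' : q.Prime := (CharP.char_is_prime_or_zero F q).resolve_right fun h => by
      subst h
      have := CharP.charP_to_charZero F
      exact not_finite F
    have : Fact q.Prime := ⟨hq'⟩
    let _ : Algebra (ZMod q) F := ZMod.algebra F q
    have h1 : Nat.card F = q ^ Module.finrank (ZMod q) F := by
      rw [Module.natCard_eq_pow_finrank (K := ZMod q), Nat.card_zmod]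
    have h2 : q ∣ p ^ m := by
      rw [← hF, h1]
      exact dvd_pow_self q Module.finrank_pos.ne'
    have h3 : q = p := (Nat.prime_dvd_prime_iff_eq hq' hp.out).mp (hq'.dvd_of_dvd_pow h2)
    exact h3 ▸ hq
  have hcκ : 1 < Nat.card κ := Finite.one_lt_card
  let _ : Algebra (ZMod p) F := ZMod.algebra F p
  have hm : m = Module.finrank (ZMod p) F := by
    have h1 : Nat.card F = p ^ Module.finrank (ZMod p) F := by
      rw [Module.natCard_eq_pow_finrank (K := ZMod p), Nat.card_zmod]
    exact Nat.pow_right_injective hp.out.two_le (hF.symm.trans h1)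
  have hm0 : 0 < m := hm ▸ Module.finrank_pos
  by_cases hj : ∃ j : ℕ, Nat.card κ ^ (j + 1) = Nat.card F
  · obtain ⟨j, hj⟩ := hj
    have hκp : CharP κ p := by
      obtain ⟨q, hq⟩ := CharP.exists κ
      have hq' : q.Prime := (CharP.char_is_prime_or_zero κ q).resolve_right fun h => by
        subst h
        have := CharP.charP_to_charZero κ
        exact not_finite κ
      have : Fact q.Prime := ⟨hq'⟩
      let _ : Algebra (ZMod q) κ := ZMod.algebra κ q
      have h1 : Nat.card κ = q ^ Module.finrank (ZMod q) κ := by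
        rw [Module.natCard_eq_pow_finrank (K := ZMod q), Nat.card_zmod]
      have h2 : q ∣ p ^ m := by
        rw [← hF, ← hj, h1, ← pow_mul]
        exact dvd_pow_self q (mul_ne_zero Module.finrank_pos.ne' (Nat.succ_ne_zero j))
      have h3 : q = p := (Nat.prime_dvd_prime_iff_eq hq' hp.out).mp (hq'.dvd_of_dvd_pow h2)
      exact h3 ▸ hq
    let _ : Algebra (ZMod p) κ := ZMod.algebra κ p
    have hκ : Nat.card κ = p ^ Module.finrank (ZMod p) κ := by
      rw [Module.natCard_eq_pow_finrank (K := ZMod p), Nat.card_zmod]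
    have hmd : m = Module.finrank (ZMod p) κ * (j + 1) := by
      apply Nat.pow_right_injective hp.out.two_le
      change p ^ m = p ^ (Module.finrank (ZMod p) κ * (j + 1))
      rw [← hF, ← hj, hκ, ← pow_mul]
    have hcard : Nat.card (κ →+* F) = Module.finrank (ZMod p) κ := by
      rw [← FiniteField.natCard_algHom_of_finrank_dvd (F := ZMod p) (K := κ) (L := F)
        (by rw [← hm, hmd]; exact dvd_mul_right _ _)]
      refine Nat.card_congr ?_
      exact
        { toFun := fun f => { f with
            commutes' := fun x => RingHom.congr_fun (Subsingleton.elim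
              (f.comp (algebraMap (ZMod p) κ)) (algebraMap (ZMod p) F)) x }
          invFun := fun f => f.toRingHom
          left_inv := fun f => rfl
          right_inv := fun f => rfl }
    rw [← hj, w_pow hcκ, hcard, hmd]
    push_cast
    field_simp
  · push Not at hj
    rw [w_eq_zero hj, zero_mul]
    have : IsEmpty (κ →+* F) := by
      refine ⟨fun f => ?_⟩
      let _ := f.toAlgebra
      have h1 : Nat.card F = Nat.card κ ^ Module.finrank κ F := Module.natCard_eq_pow_finrank
      have h2 : 0 < Module.finrank κ F := Module.finrank_pos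
      refine hj (Module.finrank κ F - 1) ?_
      rw [Nat.sub_add_cancel h2, h1]
    rw [Nat.card_of_isEmpty, Nat.cast_zero]

end Hom

section Ring

variable (A : Type u) [CommRing A]

/-- The norm of a maximal ideal. -/
noncomputable def nm (𝔪 : MaximalSpectrum A) : ℕ := Nat.card (A ⧸ 𝔪.asIdeal)

theorem finite_of_isField (K : Type*) [CommRing K] (hK : IsField K) [inst : Algebra ℤ K]
    [h : Algebra.FiniteType ℤ K] : Finite K := by
  obtain rfl : inst = Ring.toIntAlgebra K := Subsingleton.elim _ _
  let _ : Field K := hK.toField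
  exact @Groth.Agent.UnramA.MonoEndo.finite_of_finiteType_int K _ h

theorem finite_quot [Algebra.FiniteType ℤ A] (𝔪 : Ideal A) [h𝔪 : 𝔪.IsMaximal] :
    Finite (A ⧸ 𝔪) := by
  have : Algebra.FiniteType ℤ (A ⧸ 𝔪) := Algebra.FiniteType.of_surjective
    (Ideal.Quotient.mkₐ ℤ 𝔪) Ideal.Quotient.mk_surjective
  exact finite_of_isField (A ⧸ 𝔪) ((Ideal.Quotient.maximal_ideal_iff_isField_quotient 𝔪).mp h𝔪)

theorem two_le_nm [Algebra.FiniteType ℤ A] (𝔪 : MaximalSpectrum A) : 2 ≤ nm A 𝔪 := by
  have := 𝔪.isMaximal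
  have := finite_quot A 𝔪.asIdeal
  exact Finite.one_lt_card

theorem isMaximal_ker {F : Type*} [Field F] [Finite F] (χ : A →+* F) : (RingHom.ker χ).IsMaximal := by
  have hP : (RingHom.ker χ).IsPrime := RingHom.ker_isPrime χ
  have h1 : Finite (A ⧸ RingHom.ker χ) := Finite.of_injective _ (RingHom.kerLift_injective χ)
  have h2 : IsDomain (A ⧸ RingHom.ker χ) := (Ideal.Quotient.isDomain_iff_prime _).mpr hP
  exact Ideal.Quotient.maximal_of_isField _ (Finite.isField_of_domain _)

/-- Homomorphisms with a given kernel. -/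
noncomputable def homEquiv {F : Type*} [Field F] [Finite F] (𝔪 : MaximalSpectrum A) :
    {χ : A →+* F // (⟨RingHom.ker χ, isMaximal_ker A χ⟩ : MaximalSpectrum A) = 𝔪} ≃
      (A ⧸ 𝔪.asIdeal →+* F) where
  toFun χ := Ideal.Quotient.lift 𝔪.asIdeal χ.1 fun a ha => by
    have h1 : RingHom.ker χ.1 = 𝔪.asIdeal := congrArg MaximalSpectrum.asIdeal χ.2
    rw [← h1] at ha
    exact ha
  invFun ψ := ⟨ψ.comp (Ideal.Quotient.mk _), by
    have := 𝔪.isMaximal
    let _ := Ideal.Quotient.field 𝔪.asIdeal
    ext a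
    simp only [RingHom.mem_ker, RingHom.comp_apply]
    rw [map_eq_zero_iff ψ ψ.injective, Ideal.Quotient.eq_zero_iff_mem]⟩
  left_inv χ := by
    apply Subtype.ext
    ext a
    rfl
  right_inv ψ := by
    apply Ideal.Quotient.ringHom_ext
    rfl

/-- The coefficients of `log ζ` count homomorphisms to finite fields. -/
theorem cN_nm [Algebra.FiniteType ℤ A] (F : Type*) [Field F] [Finite F] (p m : ℕ)
    [hp : Fact p.Prime] (hF : Nat.card F = p ^ m) :
    cN (nm A) (Nat.card F) * m = Nat.card (A →+* F) := by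
  have hfin : Finite (A →+* F) :=
    Groth.Agent.UnramA.MonoEndo.finite_ringHom_of_finiteType_int A F
  have := Fintype.ofFinite (A →+* F)
  have h1 : HasSum (fun _ : A →+* F => (1 : ℝ)) (Nat.card (A →+* F)) := by
    have := hasSum_fintype (fun _ : A →+* F => (1 : ℝ))
    simpa [Nat.card_eq_fintype_card] using this
  let g : (A →+* F) → MaximalSpectrum A := fun χ => ⟨RingHom.ker χ, isMaximal_ker A χ⟩
  have h2 := (h1.tsum_fiberwise g).tsum_eq
  rw [← h2, cN, ← tsum_mul_right]
  refine tsum_congr fun 𝔪 => ?_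
  have := 𝔪.isMaximal
  have := finite_quot A 𝔪.asIdeal
  let _ := Ideal.Quotient.field 𝔪.asIdeal
  rw [tsum_const, nsmul_eq_mul, mul_one]
  have h3 : Nat.card (g ⁻¹' {𝔪} : Set (A →+* F)) = Nat.card (A ⧸ 𝔪.asIdeal →+* F) :=
    Nat.card_congr (homEquiv A 𝔪)
  rw [h3]
  exact (card_hom (A ⧸ 𝔪.asIdeal) F p m hF).symm

theorem isPrimePow_nm [Algebra.FiniteType ℤ A] (𝔪 : MaximalSpectrum A) : IsPrimePow (nm A 𝔪) := by
  have := 𝔪.isMaximal
  have := finite_quot A 𝔪.asIdeal
  let _ := Ideal.Quotient.field 𝔪.asIdeal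
  have := Fintype.ofFinite (A ⧸ 𝔪.asIdeal)
  rw [nm, Nat.card_eq_fintype_card]
  exact FiniteField.isPrimePow_card _

theorem cN_nm_eq_zero [Algebra.FiniteType ℤ A] {n : ℕ} (hn : ¬ IsPrimePow n) :
    cN (nm A) n = 0 := by
  have h1 : ∀ 𝔪 : MaximalSpectrum A, w (nm A 𝔪) n = 0 := fun 𝔪 => w_eq_zero fun j hj => by
    rw [← hj] at hn
    exact hn ((isPrimePow_nm A 𝔪).pow (Nat.succ_ne_zero j))
  simp [cN, h1]

end Ring

end K468.Arith
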