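import Groth.Agent.Fdesc.IntegralFib
import Groth.Agent.Fdesc.SepCount
import Groth.Agent.Fdesc.GenTop
import Mathlib.AlgebraicGeometry.Morphisms.Preimmersion
import Mathlib.AlgebraicGeometry.PullbackCarrier
import Mathlib.AlgebraicGeometry.Morphisms.Flat

/-!
# Geometric irreducible components over one component
-/

set_option autoImplicit false
universe u

open CategoryTheory AlgebraicGeometry Limits

namespace K468.Comp

/-- The irreducible components of the preimage of an irreducible closed set, for a generizing map
with discrete fibres. -/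
theorem natCard_components_preimage {Y X : Type u} [TopologicalSpace Y] [TopologicalSpace X]
    [QuasiSober Y] [T0Space Y] [T0Space X] {p : Y → X} (hc : Continuous p)
    (hg : GeneralizingMap p) (hfib : ∀ y y' : Y, y' ⤳ y → p y' = p y → y' = y) (η : X) :
    Nat.card (irreducibleComponents ↥(p ⁻¹' closure {η})) = Nat.card ↥(p ⁻¹' {η}) := by
  have hcl : IsClosed (p ⁻¹' closure {η}) := isClosed_closure.preimage hc
  have qs : QuasiSober ↥(p ⁻¹' closure {η}) := hcl.isClosedEmbedding_subtypeVal.quasiSober
  have hmem : ∀ y : Y, y ∈ p ⁻¹' {η} → y ∈ p ⁻¹' closure {η} := fun y hy => subset_closure hy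
  rw [← Nat.card_congr (genericPoints.equiv (α := ↥(p ⁻¹' closure {η})))]
  refine Nat.card_congr ?_
  refine
    { toFun := fun x => ⟨x.1.1, ?_⟩
      invFun := fun y => ⟨⟨y.1, hmem _ y.2⟩, ?_⟩
      left_inv := fun x => rfl
      right_inv := fun y => rfl }
  · have h1 : η ⤳ p x.1.1 := specializes_iff_mem_closure.mpr x.1.2
    obtain ⟨y', hy', he⟩ := hg h1
    have hx := (Groth.Agent.Fdesc.GenTop.mem_genericPoints_iff.mp x.2) ⟨y', hmem y' he⟩
      (Topology.IsInducing.subtypeVal.specializes_iff.mp hy')
    have h2 : y' = x.1.1 := congrArg Subtype.val hx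
    change p x.1.1 = η
    rw [← h2]
    exact he
  · rw [Groth.Agent.Fdesc.GenTop.mem_genericPoints_iff]
    intro z hz
    have hz' : z.1 ⤳ y.1 := Topology.IsInducing.subtypeVal.specializes_iff.mpr hz
    have h3 : p y.1 = η := y.2
    have h1 : p z.1 ⤳ p y.1 := hz'.map hc
    have h2 : η ⤳ p z.1 := specializes_iff_mem_closure.mpr z.2
    rw [h3] at h1
    exact Subtype.ext (hfib _ _ hz' ((h1.antisymm h2).eq.trans h3.symm))

/-- The number of geometric irreducible components over the component with generic point `η`. -/
theorem natCard_components (k : Type u) [Field k] [PerfectField k] {X : Scheme.{u}}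
    (f : X ⟶ Spec (CommRingCat.of k)) (η : X) (L : Type u) [Field L] [Algebra k L]
    (q : Spec (CommRingCat.of L) ⟶ X) [IsPreimmersion q]
    (hq : q ≫ f = Spec.map (CommRingCat.ofHom (algebraMap k L))) (hη : Set.range q = {η})
    [FiniteDimensional k (separableClosure k L)] :
    Nat.card (irreducibleComponents ↥((pullback.fst f (Spec.map (CommRingCat.ofHom
      (algebraMap k (AlgebraicClosure k))))).base ⁻¹' closure {η})) =
      Module.finrank k (separableClosure k L) := by
  let a : Spec (CommRingCat.of (AlgebraicClosure k)) ⟶ Spec (CommRingCat.of k) :=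
    Spec.map (CommRingCat.ofHom (algebraMap k (AlgebraicClosure k)))
  have hint : IsIntegralHom a := by
    rw [IsIntegralHom.SpecMap_iff]
    exact algebraMap_isIntegral_iff.2 inferInstance
  let p := pullback.fst f a
  have hgen : GeneralizingMap p.base := Flat.generalizingMap _
  have hfib : ∀ y y' : ↥(pullback f a), y' ⤳ y → p.base y' = p.base y → y' = y := fun y y' h1 h2 =>
    Groth.Agent.Fdesc.IntegralFib.eq_of_specializes_of_isIntegralHom p h1 h2
  change Nat.card (irreducibleComponents ↥(p.base ⁻¹' closure {η})) = _
  rw [natCard_components_preimage p.continuous hgen hfib η]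
  have hpb : IsPullback (pullback.snd p q) (pullback.fst p q ≫ pullback.snd f a) (q ≫ f) a :=
    ((IsPullback.of_hasPullback p q).paste_horiz (IsPullback.of_hasPullback f a).flip).flip
  rw [hq] at hpb
  have e : pullback p q ≅ Spec (CommRingCat.of (TensorProduct k L (AlgebraicClosure k))) :=
    hpb.isoPullback ≪≫ pullbackSpecIso k L (AlgebraicClosure k)
  have h2 : Nat.card ↥(p.base ⁻¹' {η}) =
      Nat.card (PrimeSpectrum (TensorProduct k L (AlgebraicClosure k))) := by
    have hr : Set.range (pullback.fst p q) = p ⁻¹' {η} := by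
      rw [Scheme.Pullback.range_fst, hη]
    have e1 : ↥(pullback p q) ≃ ↥(p.base ⁻¹' {η}) :=
      (Equiv.ofInjective _ (pullback.fst p q).isEmbedding.injective).trans (Equiv.setCongr hr)
    exact (Nat.card_congr e1).symm.trans (Nat.card_congr e.hom.homeomorph.toEquiv)
  rw [h2]
  have σ₀ : separableClosure k L →ₐ[k] AlgebraicClosure k := IsAlgClosed.lift
  exact Groth.Agent.Fdesc.SepCount.natCard_primeSpectrum
    (separableClosure.separableClosure_eq_bot k L) σ₀

end K468.Comp
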