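import Mathlib.Topology.KrullDimension
import Mathlib.Topology.Irreducible
import Mathlib.Topology.NoetherianSpace

/-!
# Closed subsets containing no irreducible component have smaller dimension
-/

set_option autoImplicit false
universe u

open TopologicalSpace Topology Order

namespace K468.Comp

theorem dim_compl_le {X : Type u} [TopologicalSpace X] (C : Set X) (hC : IsClosed C)
    (h : ∀ Z ∈ irreducibleComponents X, ¬ Z ⊆ C) (r : ℕ) (hr : topologicalKrullDim X ≤ r) :
    C = ∅ ∨ ∃ r', r = r' + 1 ∧ topologicalKrullDim C ≤ (r' : ℕ) := by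
  -- a chain in `C` extends to a longer chain in `X`
  have key : ∀ p : LTSeries (IrreducibleCloseds C), p.length + 1 ≤ r := by
    intro p
    let q : LTSeries (IrreducibleCloseds X) := p.map
      (IrreducibleCloseds.map (Subtype.val : C → X) continuous_subtype_val)
      (IrreducibleCloseds.map_strictMono_of_isInducing IsInducing.subtypeVal)
    have hq : (q.last : Set X) ⊆ C := by
      change closure (Subtype.val '' (p.last : Set C)) ⊆ C
      refine hC.closure_subset_iff.mpr ?_
      rintro _ ⟨x, _, rfl⟩
      exact x.2
    obtain ⟨Z, hZ, hqZ⟩ := exists_mem_irreducibleComponents_subset_of_isIrreducible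
      (q.last : Set X) q.last.isIrreducible
    let Z' : IrreducibleCloseds X := ⟨Z, hZ.1, isClosed_of_mem_irreducibleComponents Z hZ⟩
    have hlt : q.last < Z' := by
      refine lt_of_le_of_ne hqZ fun he => h Z hZ ?_
      have : (Z : Set X) = q.last := congrArg (fun W : IrreducibleCloseds X => (W : Set X)) he.symm
      rw [this]
      exact hq
    have h1 := Order.LTSeries.length_le_krullDim (q.snoc Z' hlt)
    have h2 : ((q.snoc Z' hlt).length : WithBot ℕ∞) ≤ r := h1.trans hr
    have h3 : (q.snoc Z' hlt).length = p.length + 1 := rfl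
    rw [h3] at h2
    exact_mod_cast h2
  rcases C.eq_empty_or_nonempty with h0 | ⟨x, hx⟩
  · exact Or.inl h0
  · right
    have hirr : IsIrreducible (closure {(⟨x, hx⟩ : C)}) := isIrreducible_singleton.closure
    let p₀ : LTSeries (IrreducibleCloseds C) :=
      RelSeries.singleton _ ⟨closure {(⟨x, hx⟩ : C)}, hirr, isClosed_closure⟩
    have h1 := key p₀
    refine ⟨r - 1, by omega, ?_⟩
    refine iSup_le fun p => ?_
    have h2 := key p
    have h3 : p.length ≤ r - 1 := by omega
    exact_mod_cast h3

end K468.Comp
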