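import Groth.Agent.CycB.RelDim2
import Groth.Agent.Fdesc.GenTop
import Mathlib.AlgebraicGeometry.Morphisms.FiniteType
import Mathlib.AlgebraicGeometry.Morphisms.ClosedImmersion
import Mathlib.AlgebraicGeometry.Morphisms.Preimmersion
import Mathlib.AlgebraicGeometry.Noetherian
import Mathlib.RingTheory.Spectrum.Prime.Topology

/-!
# An integral affine open piece of an irreducible component
-/

set_option autoImplicit false
universe u

open CategoryTheory AlgebraicGeometry Limits

namespace K468.Comp

variable {k : Type u} [Field k] {X : Scheme.{u}} (f : X ⟶ Spec (CommRingCat.of k))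

/-- The dimension of the closure of a point does not change along preimmersions. -/
theorem dim_closure_eq [LocallyOfFiniteType f] {W : Scheme.{u}} (g : W ⟶ X) [IsPreimmersion g]
    [LocallyOfFiniteType (g ≫ f)] (w : W) :
    topologicalKrullDim ↥(closure ({g w} : Set X)) = topologicalKrullDim ↥(closure ({w} : Set W)) := by
  have hF : IsField Γ(Spec (CommRingCat.of k), ⊤) :=
    (Scheme.ΓSpecIso (CommRingCat.of k)).commRingCatIsoToRingEquiv.toMulEquiv.isField
      (Field.toIsField k)
  obtain ⟨n, h1, h2⟩ := Groth.Agent.CycB.RelDim.exists_dim_closure f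
    (isAffineOpen_top (Spec (CommRingCat.of k))) hF (g w)
  obtain ⟨m, h3, h4⟩ := Groth.Agent.CycB.RelDim.exists_dim_closure (g ≫ f)
    (isAffineOpen_top (Spec (CommRingCat.of k))) hF w
  have h5 := Groth.Agent.CycB.RelDim.rtd_comp g f w
  rw [Groth.Agent.CycB.RelDim.rtd_eq_zero_of_isPreimmersion g, add_zero, h1, h3] at h5
  have h6 : m = n := by exact_mod_cast h5
  rw [h2, h4, h6]

theorem exists_piece [LocallyOfFiniteType f] (hfin : (irreducibleComponents X).Finite) (Z : Set X)
    (hZ : Z ∈ irreducibleComponents X) :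
    ∃ (B : Type u) (_ : CommRing B) (_ : IsDomain B) (_ : Algebra k B)
      (g : Spec (CommRingCat.of B) ⟶ X), Algebra.FiniteType k B ∧ IsPreimmersion g ∧
      g ≫ f = Spec.map (CommRingCat.ofHom (algebraMap k B)) ∧ IsOpen (Set.range g) ∧
      Set.range g ⊆ Z ∧ (∀ Z' ∈ irreducibleComponents X, Z' ≠ Z → Disjoint (Set.range g) Z') ∧
      closure {g (⊥ : PrimeSpectrum B)} = Z ∧ ringKrullDim B = topologicalKrullDim Z := by
  obtain ⟨η, hη, hηZ⟩ := Groth.Agent.Fdesc.GenTop.exists_genericPoints_of_component hZ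
  have hηmem : η ∈ Z := hηZ ▸ subset_closure rfl
  -- the complement of the other components
  have hcl : IsClosed (⋃₀ (irreducibleComponents X \ {Z})) := by
    rw [Set.sUnion_eq_biUnion]
    exact (hfin.subset Set.sdiff_subset).isClosed_biUnion fun Z' hZ' =>
      isClosed_of_mem_irreducibleComponents Z' hZ'.1
  let U : X.Opens := ⟨(⋃₀ (irreducibleComponents X \ {Z}))ᶜ, hcl.isOpen_compl⟩
  have hηU : η ∈ U := by
    rintro ⟨Z', ⟨hZ', hne⟩, hmem⟩
    apply hne
    have h1 : Z ⊆ Z' := by
      rw [← hηZ]
      exact (isClosed_of_mem_irreducibleComponents Z' hZ').closure_subset_iff.mpr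
        (Set.singleton_subset_iff.mpr hmem)
    exact ((hZ.2 hZ'.1 h1).antisymm h1)
  obtain ⟨V, hV, hηV, hVU⟩ := exists_isAffineOpen_mem_and_subset hηU
  have hdisj : ∀ Z' ∈ irreducibleComponents X, Z' ≠ Z → Disjoint (V : Set X) Z' := by
    intro Z' hZ' hne
    rw [Set.disjoint_left]
    intro x hx hx'
    exact hVU hx ⟨Z', ⟨hZ', hne⟩, hx'⟩
  have hVZ : (V : Set X) ⊆ Z := by
    intro x hx
    have h1 := irreducibleComponent_mem_irreducibleComponents x
    by_cases h2 : irreducibleComponent x = Z
    · rw [← h2]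
      exact mem_irreducibleComponent
    · exact absurd mem_irreducibleComponent (Set.disjoint_left.mp (hdisj _ h1 h2) hx)
  let R := Γ(X, V)
  -- irreducibility
  have hpre : IsPreirreducible (hV.fromSpec ⁻¹' Z) :=
    hZ.1.isPreirreducible.preimage hV.fromSpec.isOpenEmbedding
  have huniv : hV.fromSpec ⁻¹' Z = Set.univ := by
    rw [Set.eq_univ_iff_forall]
    intro x
    exact hVZ (hV.range_fromSpec ▸ Set.mem_range_self x)
  rw [huniv] at hpre
  have hnon : Nonempty (PrimeSpectrum R) := by
    have : η ∈ Set.range hV.fromSpec := by rw [hV.range_fromSpec]; exact hηV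
    exact ⟨this.choose⟩
  have hirr : IrreducibleSpace (PrimeSpectrum R) :=
    { isPreirreducible_univ := hpre, toNonempty := hnon }
  have hprime : (nilradical R).IsPrime :=
    PrimeSpectrum.irreducibleSpace_iff_isPrime_nilradical.mp hirr
  let B := R ⧸ nilradical R
  have hB : IsDomain B := Ideal.Quotient.isDomain _
  let π : CommRingCat.of R ⟶ CommRingCat.of B := CommRingCat.ofHom (Ideal.Quotient.mk (nilradical R))
  have hπ : Function.Surjective π.hom := Ideal.Quotient.mk_surjective
  have hci : IsClosedImmersion (Spec.map π) := IsClosedImmersion.spec_of_surjective π hπ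
  let g : Spec (CommRingCat.of B) ⟶ X := Spec.map π ≫ hV.fromSpec
  let φ : k →+* B := (Spec.preimage (g ≫ f)).hom
  let alg : Algebra k B := φ.toAlgebra
  have hφ : g ≫ f = Spec.map (CommRingCat.ofHom (algebraMap k B)) := by
    change g ≫ f = Spec.map (Spec.preimage (g ≫ f))
    rw [Spec.map_preimage]
  have hft : Algebra.FiniteType k B := by
    have h1 : LocallyOfFiniteType (Spec.map (CommRingCat.ofHom (algebraMap k B))) := by
      rw [← hφ]; infer_instance
    rw [HasRingHomProperty.Spec_iff (P := @LocallyOfFiniteType)] at h1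
    exact h1
  have hsurj : Set.range (Spec.map π) = Set.univ := by
    rw [Set.eq_univ_iff_forall]
    intro x
    have h1 : Set.range (PrimeSpectrum.comap π.hom) =
        PrimeSpectrum.zeroLocus (RingHom.ker π.hom : Set R) :=
      range_comap_of_surjective _ π.hom hπ
    have h2 : RingHom.ker π.hom = nilradical R := Ideal.mk_ker
    have h3 : (x : PrimeSpectrum R) ∈ Set.range (PrimeSpectrum.comap π.hom) := by
      rw [h1, h2]
      exact fun a ha => nilradical_le_prime x.asIdeal ha
    exact h3
  have hrange : Set.range g = V := by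
    change Set.range (Spec.map π ≫ hV.fromSpec) = V
    rw [Scheme.Hom.comp_base, TopCat.coe_comp, Set.range_comp, hsurj, Set.image_univ,
      hV.range_fromSpec]
  have hgη : g (⊥ : PrimeSpectrum B) = η := by
    have h1 : g (⊥ : PrimeSpectrum B) ∈ Z := hVZ (hrange ▸ Set.mem_range_self _)
    rw [← hηZ] at h1
    obtain ⟨b, hb⟩ : η ∈ Set.range g := hrange ▸ hηV
    have h2 : (⊥ : PrimeSpectrum B) ⤳ b := (PrimeSpectrum.le_iff_specializes _ _).mp bot_le
    have h3 : g (⊥ : PrimeSpectrum B) ⤳ η := by
      rw [← hb]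
      exact h2.map g.continuous
    exact (h3.antisymm (specializes_iff_mem_closure.mpr h1)).eq
  refine ⟨B, inferInstance, hB, alg, g, hft, inferInstance, hφ, hrange ▸ V.isOpen, hrange ▸ hVZ,
    hrange ▸ hdisj, ?_, ?_⟩
  · rw [hgη, hηZ]
  · have h1 := dim_closure_eq f g (⊥ : PrimeSpectrum B)
    rw [hgη, hηZ] at h1
    rw [h1, ← PrimeSpectrum.topologicalKrullDim_eq_ringKrullDim]
    have h2 : closure {(⊥ : PrimeSpectrum B)} = Set.univ := by
      rw [Set.eq_univ_iff_forall]
      intro b
      exact specializes_iff_mem_closure.mp ((PrimeSpectrum.le_iff_specializes _ _).mp bot_le)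
    change _ = topologicalKrullDim ↥(closure {(⊥ : PrimeSpectrum B)})
    rw [h2]
    exact (IsHomeomorph.topologicalKrullDim_eq _ (Homeomorph.Set.univ _).isHomeomorph).symm

end K468.Comp
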