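import Groth.Agent.Zeta.K468.Const
import Groth.Agent.Zeta.K468.CompCount
import Groth.Agent.Zeta.K468.Piece
import Groth.Agent.Zeta.K468.DimCompl
import Groth.Agent.Zeta.K466.Count
import Groth.Agent.S13062
import Mathlib.FieldTheory.Finite.Extension

/-!
# Lang–Weil by components: the pieces
-/

set_option autoImplicit false
universe u

open CategoryTheory AlgebraicGeometry Limits Module K468.Cnt

namespace K468.Comp

theorem rpow_half (q : ℝ) (hq : 0 < q) (e r : ℕ) :
    q ^ ((e : ℝ) * ((r : ℝ) - 1 / 2)) = (q ^ e) ^ r / Real.sqrt (q ^ e) := by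
  have h1 : Real.sqrt (q ^ e) = q ^ ((e : ℝ) * (1 / 2)) := by
    rw [Real.sqrt_eq_rpow, ← Real.rpow_natCast, ← Real.rpow_mul hq.le]
  have h2 : (q ^ e) ^ r = q ^ ((e : ℝ) * r) := by
    rw [← pow_mul, ← Real.rpow_natCast]
    push_cast
    rfl
  rw [h1, h2, ← Real.rpow_sub hq]
  congr 1
  ring

theorem rpow_one (q : ℝ) (hq : 0 < q) (e r : ℕ) :
    q ^ ((e : ℝ) * ((r : ℝ) - 1)) = (q ^ e) ^ r / q ^ e := by
  have h2 : (q ^ e) ^ r = q ^ ((e : ℝ) * r) := by
    rw [← pow_mul, ← Real.rpow_natCast]
    push_cast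
    rfl
  rw [h2, ← Real.rpow_natCast, ← Real.rpow_sub hq]
  congr 1
  ring

/-- There is an extension of each degree in the same universe. -/
theorem exists_ext (k : Type u) [Field k] [Finite k] (e : ℕ) (he : 1 ≤ e) :
    ∃ (F : Type u) (_ : Field F) (_ : Finite F) (_ : Algebra k F), finrank k F = e ∧
      Nat.card F = Nat.card k ^ e := by
  obtain ⟨p, hp⟩ := CharP.exists k
  have : Fact p.Prime := ⟨CharP.char_is_prime k p⟩
  have : NeZero e := ⟨by omega⟩
  refine ⟨ULift.{u} (FiniteField.Extension k p e), inferInstance, inferInstance, inferInstance,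
    ?_, ?_⟩
  · rw [ULift.moduleEquiv.finrank_eq]
    exact FiniteField.finrank_extension k p e
  · rw [Nat.card_ulift]
    exact FiniteField.natCard_extension k p e

section

variable {k : Type u} [Field k] [Finite k]

/-- The number of points of an affine scheme. -/
theorem nPts_spec {B : Type u} [CommRing B] [Algebra k B] [Algebra.FiniteType k B]
    (h : Spec (CommRingCat.of B) ⟶ Spec (CommRingCat.of k))
    (hh : h = Spec.map (CommRingCat.ofHom (algebraMap k B))) (F : Type u) [Field F] [Finite F]
    [Algebra k F] : Zeta.nPts h (finrank k F) = N B (algebraMap k F) := by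
  have h1 : LocallyOfFiniteType h := by
    rw [hh, HasRingHomProperty.Spec_iff (P := @LocallyOfFiniteType)]
    exact RingHom.finiteType_algebraMap.mpr inferInstance
  rw [← K466.Basic.pointCount_eq_nPts h F]
  refine Nat.card_congr ?_
  exact
    { toFun := fun g => ⟨(Spec.preimage g.1).hom, by
        have h2 : Spec.map (CommRingCat.ofHom (algebraMap k B) ≫ Spec.preimage g.1) =
            Spec.map (CommRingCat.ofHom (algebraMap k F)) := by
          rw [Spec.map_comp, Spec.map_preimage, ← hh, g.2]
        exact congrArg (fun t => t.hom) (Spec.map_injective h2)⟩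
      invFun := fun ψ => ⟨Spec.map (CommRingCat.ofHom ψ.1), by
        rw [hh, ← Spec.map_comp, ← CommRingCat.ofHom_comp, ψ.2]⟩
      left_inv := fun g => by
        apply Subtype.ext
        simp
      right_inv := fun ψ => by
        apply Subtype.ext
        simp }

/-- The number of geometric components over a component, in terms of an affine piece. -/
theorem natCard_components_piece {X : Scheme.{u}} (f : X ⟶ Spec (CommRingCat.of k))
    (B : Type u) [CommRing B] [IsDomain B] [Algebra k B] [Algebra.FiniteType k B]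
    (g : Spec (CommRingCat.of B) ⟶ X) [IsPreimmersion g]
    (hg : g ≫ f = Spec.map (CommRingCat.ofHom (algebraMap k B))) (Z : Set X)
    (hZ : closure {g (⊥ : PrimeSpectrum B)} = Z) :
    Nat.card (irreducibleComponents ↥((pullback.fst f (Spec.map (CommRingCat.ofHom
      (algebraMap k (AlgebraicClosure k))))).base ⁻¹' Z)) =
      finrank k (separableClosure k (FractionRing B)) := by
  have hfd := finite_const k B (FractionRing B)
  let L := FractionRing B
  let q : Spec (CommRingCat.of L) ⟶ X := Spec.map (CommRingCat.ofHom (algebraMap B L)) ≫ g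
  have h1 : IsPreimmersion (Spec.map (CommRingCat.ofHom (algebraMap B L))) :=
    IsPreimmersion.of_isLocalization (nonZeroDivisors B)
  have h2 : q ≫ f = Spec.map (CommRingCat.ofHom (algebraMap k L)) := by
    rw [Category.assoc, hg, ← Spec.map_comp, ← CommRingCat.ofHom_comp,
      ← IsScalarTower.algebraMap_eq]
  have h3 : ∀ x : Spec (CommRingCat.of L), Spec.map (CommRingCat.ofHom (algebraMap B L)) x =
      (⊥ : PrimeSpectrum B) := by
    intro x
    have hx : x = (⊥ : PrimeSpectrum L) := Subsingleton.elim (α := PrimeSpectrum L) _ _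
    rw [hx]
    apply PrimeSpectrum.ext
    change Ideal.comap (algebraMap B L) ⊥ = ⊥
    exact Ideal.comap_bot_of_injective _ (IsFractionRing.injective B L)
  have h4 : Set.range q = {g (⊥ : PrimeSpectrum B)} := by
    ext y
    constructor
    · rintro ⟨x, rfl⟩
      change g (Spec.map (CommRingCat.ofHom (algebraMap B L)) x) = _
      rw [h3]
    · rintro rfl
      refine ⟨(⊥ : PrimeSpectrum L), ?_⟩
      change g (Spec.map (CommRingCat.ofHom (algebraMap B L)) _) = _
      rw [h3]
  rw [← hZ]
  exact natCard_components k f (g (⊥ : PrimeSpectrum B)) L q h2 h4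

/-- The count on one affine piece. -/
theorem piece_bound (B : Type u) [CommRing B] [IsDomain B] [Algebra k B] [Algebra.FiniteType k B]
    (h : Spec (CommRingCat.of B) ⟶ Spec (CommRingCat.of k))
    (hh : h = Spec.map (CommRingCat.ofHom (algebraMap k B))) (r : ℕ)
    (hr : ringKrullDim B ≤ r) (m : ℕ)
    (hm : m = finrank k (separableClosure k (FractionRing B))) :
    0 < m ∧ ∃ C : ℝ, 0 ≤ C ∧ ∀ e : ℕ, 1 ≤ e →
      ((ringKrullDim B = r ∧ m ∣ e) → |(Zeta.nPts h e : ℝ) - m * (Nat.card k : ℝ) ^ (e * r)| ≤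
        C * (Nat.card k : ℝ) ^ ((e : ℝ) * ((r : ℝ) - 1 / 2))) ∧
      (¬ (ringKrullDim B = r ∧ m ∣ e) → (Zeta.nPts h e : ℝ) ≤
        C * (Nat.card k : ℝ) ^ ((e : ℝ) * ((r : ℝ) - 1))) := by
  have hfd := finite_const k B (FractionRing B)
  have hm0 : 0 < m := by rw [hm]; exact finrank_pos
  refine ⟨hm0, ?_⟩
  have hq : (0 : ℝ) < Nat.card k := by exact_mod_cast Nat.card_pos
  have hq1 : (1 : ℝ) ≤ Nat.card k := by exact_mod_cast Nat.card_pos
  obtain ⟨n, -, hn⟩ := Groth.Agent.Ega4B.DimFT.exists_dim k B
  obtain ⟨C, hC, H⟩ := N_const k B (FractionRing B) hn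
  have hnr : n ≤ r := by
    rw [hn] at hr
    exact_mod_cast hr
  by_cases hnr' : n = r
  · subst hnr'
    refine ⟨C, hC, fun e he => ⟨fun ⟨_, hme⟩ => ?_, fun hne => ?_⟩⟩
    · obtain ⟨F, _, _, _, hF1, hF2⟩ := exists_ext k e he
      have h1 := (H F).1 (by rw [hF1, ← hm]; exact hme)
      rw [← nPts_spec h hh F, hF1, hF2, ← hm] at h1
      push_cast at h1
      rw [rpow_half _ hq, pow_mul]
      exact h1
    · obtain ⟨F, _, _, _, hF1, hF2⟩ := exists_ext k e he
      have h1 := (H F).2 (by
        rw [hF1, ← hm]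
        exact fun h => hne ⟨hn, h⟩)
      rw [← nPts_spec h hh F, hF1, hF2] at h1
      push_cast at h1
      rw [rpow_one _ hq, ← mul_div_assoc, le_div_iff₀ (by positivity)]
      exact h1
  · refine ⟨m + C, by positivity, fun e he => ⟨fun ⟨h1, _⟩ => ?_, fun _ => ?_⟩⟩
    · rw [hn] at h1
      exact absurd (by exact_mod_cast h1) hnr'
    · obtain ⟨F, _, _, _, hF1, hF2⟩ := exists_ext k e he
      have hF0 : (1 : ℝ) ≤ Nat.card F := by exact_mod_cast Nat.card_pos
      have hsq : 1 ≤ Real.sqrt (Nat.card F) := Real.one_le_sqrt.mpr hF0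
      have h2 : (Zeta.nPts h e : ℝ) ≤ (m + C) * (Nat.card F : ℝ) ^ n := by
        by_cases hme : m ∣ e
        · have h1 := (H F).1 (by rw [hF1, ← hm]; exact hme)
          rw [← nPts_spec h hh F, hF1, ← hm] at h1
          have h3 := (abs_le.mp h1).2
          have h4 : (Nat.card F : ℝ) ^ n / Real.sqrt (Nat.card F) ≤ (Nat.card F : ℝ) ^ n :=
            div_le_self (by positivity) hsq
          have h5 := mul_le_mul_of_nonneg_left h4 hC
          linarith
        · have h1 := (H F).2 (by rw [hF1, ← hm]; exact hme)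
          rw [← nPts_spec h hh F, hF1] at h1
          have h3 : (Zeta.nPts h e : ℝ) ≤ Zeta.nPts h e * Nat.card F :=
            le_mul_of_one_le_right (Nat.cast_nonneg _) hF0
          have h4 : (0 : ℝ) ≤ m * (Nat.card F : ℝ) ^ n := by positivity
          linarith
      refine h2.trans ?_
      refine mul_le_mul_of_nonneg_left ?_ (by positivity)
      rw [hF2, rpow_one _ hq, le_div_iff₀ (by positivity)]
      push_cast
      rw [← pow_succ]
      exact pow_le_pow_right₀ (one_le_pow₀ hq1) (by omega)

end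

end K468.Comp
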