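import Mathlib.FieldTheory.IsAlgClosed.Basic
import Mathlib.RingTheory.Ideal.GoingUp
import Mathlib.RingTheory.Localization.Away.Basic
import Mathlib.RingTheory.Algebraic.Integral

/-!
# Generic extension of homomorphisms into algebraically closed fields
-/

set_option autoImplicit false

namespace K468.Ext

/-- Homomorphisms into algebraically closed fields extend along integral injections. -/
theorem exists_extend_of_isIntegral {R S E : Type*} [CommRing R] [CommRing S] [Algebra R S]
    [Algebra.IsIntegral R S] (hinj : Function.Injective (algebraMap R S)) [Field E] [IsAlgClosed E]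
    (φ : R →+* E) : ∃ χ : S →+* E, χ.comp (algebraMap R S) = φ := by
  let P := RingHom.ker φ
  have hP : P.IsPrime := RingHom.ker_isPrime φ
  obtain ⟨Q, -, hQ, hQP⟩ := Ideal.exists_ideal_over_prime_of_isIntegral (S := S) P ⊥
    (by
      rw [← RingHom.ker_eq_comap_bot, (RingHom.injective_iff_ker_eq_bot _).mp hinj]
      exact bot_le)
  let j : R ⧸ P →+* S ⧸ Q := Ideal.quotientMap Q (algebraMap R S) hQP.ge
  have hj : Function.Injective j := Ideal.quotientMap_injective' hQP.le
  let _ : Algebra (R ⧸ P) (S ⧸ Q) := j.toAlgebra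
  let ψ : R ⧸ P →+* E := RingHom.kerLift φ
  have hψ : Function.Injective ψ := RingHom.kerLift_injective φ
  let _ : Algebra (R ⧸ P) E := ψ.toAlgebra
  have int : Algebra.IsIntegral (R ⧸ P) (S ⧸ Q) := by
    refine ⟨fun y => ?_⟩
    obtain ⟨x, rfl⟩ := Ideal.Quotient.mk_surjective y
    obtain ⟨p, hp, hpx⟩ := Algebra.IsIntegral.isIntegral (R := R) x
    refine ⟨p.map (Ideal.Quotient.mk P), hp.map _, ?_⟩
    rw [Polynomial.eval₂_map]
    have h1 : (algebraMap (R ⧸ P) (S ⧸ Q)).comp (Ideal.Quotient.mk P) =
        (Ideal.Quotient.mk Q).comp (algebraMap R S) := rfl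
    rw [h1, ← Polynomial.hom_eval₂, hpx, map_zero]
  have alg : Algebra.IsAlgebraic (R ⧸ P) (S ⧸ Q) := inferInstance
  have fs : FaithfulSMul (R ⧸ P) E := (faithfulSMul_iff_algebraMap_injective _ _).mpr hψ
  have fs' : FaithfulSMul (R ⧸ P) (S ⧸ Q) := (faithfulSMul_iff_algebraMap_injective _ _).mpr hj
  let l : S ⧸ Q →ₐ[R ⧸ P] E := IsAlgClosed.lift
  refine ⟨l.toRingHom.comp (Ideal.Quotient.mk Q), ?_⟩
  ext r
  exact l.commutes (Ideal.Quotient.mk P r)

/-- For a finitely generated subalgebra `S` of an algebraic extension of `R`, every homomorphism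
from `R` to an algebraically closed field which does not kill `h` extends to `S`. -/
theorem exists_hom_extend {R Ω : Type*} [CommRing R] [IsDomain R] [Field Ω] [Algebra R Ω]
    [FaithfulSMul R Ω] [Algebra.IsAlgebraic R Ω] (s : Finset Ω) :
    ∃ h : R, h ≠ 0 ∧ ∀ (E : Type*) [Field E] [IsAlgClosed E] (φ : R →+* E), φ h ≠ 0 →
      ∃ χ : Algebra.adjoin R (s : Set Ω) →+* E, χ.comp (algebraMap R _) = φ := by
  obtain ⟨h, hh, hs⟩ := Algebra.IsAlgebraic.exists_integral_multiples R s
  refine ⟨h, hh, fun E _ _ φ hφ => ?_⟩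
  let R' := Localization.Away h
  have hinj := FaithfulSMul.algebraMap_injective R Ω
  let ι : R' →+* Ω := IsLocalization.Away.lift h (g := algebraMap R Ω)
    (isUnit_iff_ne_zero.mpr ((map_ne_zero_iff _ hinj).mpr hh))
  have hι : ∀ r, ι (algebraMap R R' r) = algebraMap R Ω r := fun r =>
    IsLocalization.Away.lift_eq _ _ r
  have hιinj : Function.Injective ι := by
    rw [injective_iff_map_eq_zero]
    intro z hz
    obtain ⟨n, c, hc⟩ := IsLocalization.Away.surj h z
    have h1 := congrArg ι hc
    rw [map_mul, hz, zero_mul, hι] at h1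
    have h2 : c = 0 := (map_eq_zero_iff _ hinj).mp h1.symm
    rw [h2, map_zero] at hc
    have h3 : IsUnit (algebraMap R R' h ^ n) := (IsLocalization.Away.algebraMap_isUnit h).pow n
    exact (h3.mul_left_eq_zero).mp hc
  let _ : Algebra R' Ω := ι.toAlgebra
  have tow : IsScalarTower R R' Ω := IsScalarTower.of_algebraMap_eq fun r => (hι r).symm
  let S' : Subalgebra R' Ω := Algebra.adjoin R' (s : Set Ω)
  have int : Algebra.IsIntegral R' S' := by
    refine Algebra.IsIntegral.adjoin fun t ht => ?_
    have h1 : IsIntegral R' (h • t) := (hs t ht).tower_top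
    have h2 : t = (IsLocalization.Away.invSelf h : R') • (h • t) := by
      rw [← algebraMap_smul R' h t, smul_smul, mul_comm, IsLocalization.Away.mul_invSelf, one_smul]
    rw [h2]
    exact h1.smul _
  have hS'inj : Function.Injective (algebraMap R' S') := fun x y hxy =>
    hιinj (congrArg (fun z : S' => (z : Ω)) hxy)
  let φ' : R' →+* E := IsLocalization.Away.lift h (g := φ) (isUnit_iff_ne_zero.mpr hφ)
  obtain ⟨χ, hχ⟩ := exists_extend_of_isIntegral hS'inj φ'
  have hle : Algebra.adjoin R (s : Set Ω) ≤ S'.restrictScalars R := by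
    rw [Algebra.adjoin_le_iff]
    exact Algebra.subset_adjoin
  refine ⟨χ.comp (Subalgebra.inclusion hle).toRingHom, ?_⟩
  ext r
  have h1 : χ (algebraMap R' S' (algebraMap R R' r)) = φ' (algebraMap R R' r) :=
    RingHom.congr_fun hχ _
  rw [IsLocalization.Away.lift_eq] at h1
  rw [← h1]
  simp only [RingHom.comp_apply]
  congr 1
  apply Subtype.ext
  exact (hι r).symm

end K468.Ext
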