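import Groth.Agent.Zeta.K468.Geom
import Groth.Agent.Zeta.K468.Extend
import Groth.Agent.S0209

/-!
# Uniform point bounds for absolutely irreducible hypersurfaces of bounded degree
-/

set_option autoImplicit false
universe u v w

open scoped TensorProduct

namespace K468.Cnt

section Aux

/-- Base change of a hypersurface algebra. -/
theorem exists_equiv_tensor_quotient {B Ω σ : Type*} [CommRing B] [CommRing Ω] [Algebra B Ω]
    (f : MvPolynomial σ B) :
    Nonempty ((Ω ⊗[B] (MvPolynomial σ B ⧸ Ideal.span {f})) ≃+*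
      (MvPolynomial σ Ω ⧸ Ideal.span {MvPolynomial.map (algebraMap B Ω) f})) := by
  let e := Algebra.TensorProduct.tensorQuotientEquiv (R := B) Ω (MvPolynomial σ B) Ω (Ideal.span {f})
  let e' := (MvPolynomial.algebraTensorAlgEquiv (σ := σ) B Ω).toRingEquiv
  refine ⟨e.toRingEquiv.trans (Ideal.quotientEquiv _ _ e' ?_)⟩
  rw [Ideal.map_span, Set.image_singleton, Ideal.map_span, Set.image_singleton]
  congr 2
  change _ = MvPolynomial.algebraTensorAlgEquiv B Ω
    (Algebra.TensorProduct.includeRight (A := Ω) (R := B) f)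
  rw [Algebra.TensorProduct.includeRight_apply, MvPolynomial.algebraTensorAlgEquiv_tmul, one_smul]

theorem isDomain_tensor_of_irreducible {B Ω σ : Type*} [CommRing B] [Field Ω] [Algebra B Ω]
    (f : MvPolynomial σ B) (hf : Irreducible (MvPolynomial.map (algebraMap B Ω) f)) :
    IsDomain (Ω ⊗[B] (MvPolynomial σ B ⧸ Ideal.span {f})) := by
  obtain ⟨e⟩ := exists_equiv_tensor_quotient (Ω := Ω) f
  have h1 : Prime (MvPolynomial.map (algebraMap B Ω) f) := hf.prime
  have h2 : (Ideal.span {MvPolynomial.map (algebraMap B Ω) f}).IsPrime :=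
    (Ideal.span_singleton_prime h1.ne_zero).mpr h1
  have h3 : IsDomain (MvPolynomial σ Ω ⧸ Ideal.span {MvPolynomial.map (algebraMap B Ω) f}) :=
    (Ideal.Quotient.isDomain_iff_prime _).mpr h2
  exact e.toMulEquiv.isDomain _

theorem ringKrullDim_hypersurface (K : Type*) [Field K] (n : ℕ)
    (f : MvPolynomial (Fin (n + 1)) K) (hf0 : f ≠ 0) (hf : ¬ IsUnit f) :
    ringKrullDim (MvPolynomial (Fin (n + 1)) K ⧸ Ideal.span {f}) = n := by
  obtain ⟨p, hp, hfp⟩ := exists_max_ideal_of_mem_nonunits hf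
  have h1 : (p.height : WithBot ℕ∞) = ringKrullDim (MvPolynomial (Fin (n + 1)) K) := by
    rw [Groth.Agent.S0209.height_eq_of_isMaximal, MvPolynomial.ringKrullDim_of_isNoetherianRing]
    simp
  have h2 := Module.ringKrullDim_quotient_add_one_of_mem_nonZeroDivisors
    (mem_nonZeroDivisors_of_ne_zero hf0) h1 hfp
  rw [MvPolynomial.ringKrullDim_of_isNoetherianRing, ringKrullDim_eq_zero_of_field] at h2
  have h3 : ringKrullDim (MvPolynomial (Fin (n + 1)) K ⧸ Ideal.span {f}) + 1 =
      (n : WithBot ℕ∞) + 1 := by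
    rw [h2]; simp
  exact ENat.WithBot.add_one_cancel.mp h3

theorem not_irreducible_C {σ E : Type*} [Field E] (c : E) :
    ¬ Irreducible (MvPolynomial.C c : MvPolynomial σ E) := by
  intro h
  by_cases hc : c = 0
  · rw [hc, map_zero] at h
    exact h.ne_zero rfl
  · exact h.not_isUnit ((isUnit_iff_ne_zero.mpr hc).map MvPolynomial.C)

theorem not_isUnit_of_coeff_ne_zero {σ E : Type*} [Field E] (g : MvPolynomial σ E) (α : σ →₀ ℕ)
    (hα : α ≠ 0) (h : MvPolynomial.coeff α g ≠ 0) : ¬ IsUnit g := by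
  classical
  intro hu
  rw [MvPolynomial.isUnit_iff_eq_C_of_isReduced] at hu
  obtain ⟨c, -, rfl⟩ := hu
  rw [MvPolynomial.coeff_C, if_neg hα.symm] at h
  exact h rfl

theorem exists_coeff_ne_zero_of_not_isUnit {σ E : Type*} [Field E] (g : MvPolynomial σ E)
    (hg : g ≠ 0) (h : ¬ IsUnit g) : ∃ α, α ≠ 0 ∧ MvPolynomial.coeff α g ≠ 0 := by
  classical
  by_contra! hcon
  apply h
  have h1 : g = MvPolynomial.C (MvPolynomial.coeff 0 g) := by
    ext α
    rw [MvPolynomial.coeff_C]
    split_ifs with h2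
    · rw [h2]
    · exact hcon α (Ne.symm h2)
  rw [h1]
  refine (isUnit_iff_ne_zero.mpr fun h2 => hg ?_).map MvPolynomial.C
  rw [h1, h2, map_zero]

/-- Generic reducibility: if `f` is not absolutely irreducible over `Frac R`, then neither are its
specializations outside a hypersurface of `Spec R`. -/
theorem generic_not_irreducible {R Ω σ : Type*} [CommRing R] [IsDomain R] [Field Ω] [Algebra R Ω]
    [FaithfulSMul R Ω] [Algebra.IsAlgebraic R Ω] (f : MvPolynomial σ R)
    (hf : ¬ Irreducible (MvPolynomial.map (algebraMap R Ω) f)) :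
    ∃ h : R, h ≠ 0 ∧ ∀ (E : Type*) [Field E] [IsAlgClosed E] (φ : R →+* E), φ h ≠ 0 →
      ¬ Irreducible (MvPolynomial.map φ f) := by
  classical
  have hinj : Function.Injective (algebraMap R Ω) := FaithfulSMul.algebraMap_injective R Ω
  set g := MvPolynomial.map (algebraMap R Ω) f with hg
  by_cases hg0 : g = 0
  · have hf0 : f = 0 := MvPolynomial.map_injective _ hinj (by rw [← hg, hg0, map_zero])
    refine ⟨1, one_ne_zero, fun E _ _ φ _ h => h.ne_zero ?_⟩
    rw [hf0, map_zero]
  by_cases hu : IsUnit g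
  · have h1 : f = MvPolynomial.C (MvPolynomial.coeff 0 f) := by
      ext α
      rw [MvPolynomial.coeff_C]
      split_ifs with h2
      · rw [h2]
      · by_contra h3
        refine not_isUnit_of_coeff_ne_zero g α (Ne.symm h2) ?_ hu
        rw [hg, MvPolynomial.coeff_map]
        exact (map_ne_zero_iff _ hinj).mpr h3
    refine ⟨1, one_ne_zero, fun E _ _ φ _ => ?_⟩
    rw [h1, MvPolynomial.map_C]
    exact not_irreducible_C _
  · rw [irreducible_iff] at hf
    push Not at hf
    obtain ⟨a, b, hab, ha, hb⟩ := hf hu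
    have ha0 : a ≠ 0 := by rintro rfl; rw [zero_mul] at hab; exact hg0 hab
    have hb0 : b ≠ 0 := by rintro rfl; rw [mul_zero] at hab; exact hg0 hab
    obtain ⟨α, hα, hαa⟩ := exists_coeff_ne_zero_of_not_isUnit a ha0 ha
    obtain ⟨β, hβ, hβb⟩ := exists_coeff_ne_zero_of_not_isUnit b hb0 hb
    let s : Finset Ω := (a.support.image fun γ => MvPolynomial.coeff γ a) ∪
      (b.support.image fun γ => MvPolynomial.coeff γ b) ∪
      {(MvPolynomial.coeff α a)⁻¹, (MvPolynomial.coeff β b)⁻¹}
    obtain ⟨h, hh, H⟩ := K468.Ext.exists_hom_extend (R := R) s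
    refine ⟨h, hh, fun E _ _ φ hφ hirr => ?_⟩
    obtain ⟨χ, hχ⟩ := H E φ hφ
    let S := Algebra.adjoin R (s : Set Ω)
    have hs : ∀ z ∈ s, z ∈ S := fun z hz => Algebra.subset_adjoin hz
    have hSinj : Function.Injective (algebraMap S Ω) := Subtype.val_injective
    -- lifts
    have lift : ∀ p : MvPolynomial σ Ω, (∀ γ ∈ p.support, MvPolynomial.coeff γ p ∈ S) →
        ∃ p' : MvPolynomial σ S, MvPolynomial.map (algebraMap S Ω) p' = p := by
      intro p hp
      have : p ∈ (MvPolynomial.map (algebraMap S Ω)).range := by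
        rw [← MvPolynomial.support_sum_monomial_coeff p]
        refine Subring.sum_mem _ fun γ hγ => ?_
        exact ⟨MvPolynomial.monomial γ ⟨_, hp γ hγ⟩, by rw [MvPolynomial.map_monomial]; rfl⟩
      exact this
    obtain ⟨a', ha'⟩ := lift a fun γ hγ => hs _ (Finset.mem_union_left _
      (Finset.mem_union_left _ (Finset.mem_image_of_mem _ hγ)))
    obtain ⟨b', hb'⟩ := lift b fun γ hγ => hs _ (Finset.mem_union_left _
      (Finset.mem_union_right _ (Finset.mem_image_of_mem _ hγ)))
    have hf' : MvPolynomial.map (algebraMap R S) f = a' * b' := by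
      apply MvPolynomial.map_injective _ hSinj
      rw [map_mul, ha', hb', MvPolynomial.map_map, ← IsScalarTower.algebraMap_eq, ← hg, hab]
    have hu1 : ∀ (p : MvPolynomial σ Ω) (p' : MvPolynomial σ S) (γ : σ →₀ ℕ),
        MvPolynomial.map (algebraMap S Ω) p' = p → MvPolynomial.coeff γ p ≠ 0 →
        (MvPolynomial.coeff γ p)⁻¹ ∈ s → MvPolynomial.coeff γ (MvPolynomial.map χ p') ≠ 0 := by
      intro p p' γ h1 h2 h3
      rw [MvPolynomial.coeff_map]
      have h4 : IsUnit (MvPolynomial.coeff γ p') := by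
        refine IsUnit.of_mul_eq_one (⟨_, hs _ h3⟩ : S) ?_
        apply hSinj
        rw [map_mul, ← MvPolynomial.coeff_map, h1, map_one]
        exact mul_inv_cancel₀ h2
      exact (h4.map χ).ne_zero
    have hα' := hu1 a a' α ha' hαa (by simp [s])
    have hβ' := hu1 b b' β hb' hβb (by simp [s])
    have hφf : MvPolynomial.map φ f = MvPolynomial.map χ a' * MvPolynomial.map χ b' := by
      rw [← map_mul, ← hf', MvPolynomial.map_map, hχ]
    rcases hirr.isUnit_or_isUnit hφf with h1 | h1
    · exact not_isUnit_of_coeff_ne_zero _ α hα hα' h1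
    · exact not_isUnit_of_coeff_ne_zero _ β hβ hβ' h1

end Aux

/-- The hypersurface bound, generically on `Spec R`. -/
theorem NS_generic (hPC : PCB.{u}) (n : ℕ) {R : Type u} [CommRing R] [IsDomain R]
    [IsNoetherianRing R] (K : Type u) [Field K] [Algebra R K] [IsFractionRing R K]
    (f : MvPolynomial (Fin (n + 1)) R) :
    ∃ h : R, h ≠ 0 ∧ ∃ C : ℝ, 0 ≤ C ∧ ∀ (F : Type u) [Field F] [Finite F] (φ : R →+* F),
      φ h ≠ 0 → Irreducible (MvPolynomial.map (algebraMap F (AlgebraicClosure F))
        (MvPolynomial.map φ f)) →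
      |(Nat.card {x : Fin (n + 1) → F // MvPolynomial.eval x (MvPolynomial.map φ f) = 0} : ℝ) -
        (Nat.card F : ℝ) ^ n| ≤ C * ((Nat.card F : ℝ) ^ n / Real.sqrt (Nat.card F)) := by
  have inj : Function.Injective (algebraMap R (AlgebraicClosure K)) := by
    rw [IsScalarTower.algebraMap_eq R K (AlgebraicClosure K)]
    exact (algebraMap K _).injective.comp (IsFractionRing.injective R K)
  have fs : FaithfulSMul R (AlgebraicClosure K) :=
    (faithfulSMul_iff_algebraMap_injective _ _).mpr inj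
  have alg1 : Algebra.IsAlgebraic R K := IsLocalization.isAlgebraic _ (nonZeroDivisors R)
  have alg : Algebra.IsAlgebraic R (AlgebraicClosure K) := Algebra.IsAlgebraic.trans R K _
  by_cases hirr : Irreducible (MvPolynomial.map (algebraMap R (AlgebraicClosure K)) f)
  · have dom := isDomain_tensor_of_irreducible f hirr
    have hK0 : MvPolynomial.map (algebraMap R K) f ≠ 0 := by
      intro h0
      apply hirr.ne_zero
      rw [IsScalarTower.algebraMap_eq R K (AlgebraicClosure K), ← MvPolynomial.map_map, h0,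
        map_zero]
    have hKu : ¬ IsUnit (MvPolynomial.map (algebraMap R K) f) := by
      intro h0
      apply hirr.not_isUnit
      rw [IsScalarTower.algebraMap_eq R K (AlgebraicClosure K), ← MvPolynomial.map_map]
      exact h0.map _
    have hdim : ringKrullDim (K ⊗[R] (MvPolynomial (Fin (n + 1)) R ⧸ Ideal.span {f})) = n := by
      obtain ⟨e⟩ := exists_equiv_tensor_quotient (Ω := K) f
      rw [ringKrullDim_eq_of_ringEquiv e]
      exact ringKrullDim_hypersurface K n _ hK0 hKu
    obtain ⟨h, hh, C, hC, H⟩ := LW_of_geom hPC K (MvPolynomial (Fin (n + 1)) R ⧸ Ideal.span {f})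
      n hdim
    refine ⟨h, hh, C, hC, fun F _ _ φ hφ _ => ?_⟩
    have h1 := H F φ hφ
    rwa [N_quot] at h1
  · obtain ⟨h, hh, H⟩ := generic_not_irreducible f hirr
    refine ⟨h, hh, 0, le_rfl, fun F _ _ φ hφ hirr' => absurd ?_
      (H (AlgebraicClosure F) ((algebraMap F (AlgebraicClosure F)).comp φ) ?_)⟩
    · rwa [MvPolynomial.map_map] at hirr'
    · exact (map_ne_zero (algebraMap F (AlgebraicClosure F))).mpr hφ

/-- The hypersurface bound for the specializations killing an ideal, by Noetherian induction. -/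
theorem NS_aux (hPC : PCB.{u}) (n : ℕ) {R₀ : Type u} [CommRing R₀] [IsNoetherianRing R₀]
    (f : MvPolynomial (Fin (n + 1)) R₀) (I : Ideal R₀) :
    ∃ C : ℝ, 0 ≤ C ∧ ∀ (F : Type u) [Field F] [Finite F] (φ : R₀ →+* F), (∀ a ∈ I, φ a = 0) →
      Irreducible (MvPolynomial.map (algebraMap F (AlgebraicClosure F)) (MvPolynomial.map φ f)) →
      |(Nat.card {x : Fin (n + 1) → F // MvPolynomial.eval x (MvPolynomial.map φ f) = 0} : ℝ) -
        (Nat.card F : ℝ) ^ n| ≤ C * ((Nat.card F : ℝ) ^ n / Real.sqrt (Nat.card F)) := by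
  induction I using WellFoundedGT.induction with
  | _ I ih =>
  by_cases hI : I.IsPrime
  · -- the generic point of `V(I)`
    have dom : IsDomain (R₀ ⧸ I) := (Ideal.Quotient.isDomain_iff_prime I).mpr hI
    obtain ⟨h, hh, C, hC, H⟩ := NS_generic hPC n (FractionRing (R₀ ⧸ I))
      (MvPolynomial.map (Ideal.Quotient.mk I) f)
    obtain ⟨h₀, rfl⟩ := Ideal.Quotient.mk_surjective h
    have hh₀ : h₀ ∉ I := fun hmem => hh (Ideal.Quotient.eq_zero_iff_mem.mpr hmem)
    obtain ⟨C', hC', H'⟩ := ih (I ⊔ Ideal.span {h₀}) (by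
      refine lt_of_le_of_ne le_sup_left fun heq => hh₀ ?_
      rw [heq]
      exact Ideal.mem_sup_right (Ideal.mem_span_singleton_self h₀))
    refine ⟨max C C', le_max_of_le_left hC, fun F _ _ φ hφ hirr => ?_⟩
    have hpos : 0 ≤ (Nat.card F : ℝ) ^ n / Real.sqrt (Nat.card F) := by positivity
    by_cases hφ0 : φ h₀ = 0
    · refine (H' F φ ?_ hirr).trans (mul_le_mul_of_nonneg_right (le_max_right _ _) hpos)
      intro a ha
      have hle : I ⊔ Ideal.span {h₀} ≤ RingHom.ker φ := sup_le (fun a ha => hφ a ha)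
        ((Ideal.span_singleton_le_iff_mem _).mpr hφ0)
      exact hle ha
    · let φ' : R₀ ⧸ I →+* F := Ideal.Quotient.lift I φ hφ
      have h1 : MvPolynomial.map φ' (MvPolynomial.map (Ideal.Quotient.mk I) f) =
          MvPolynomial.map φ f := by
        rw [MvPolynomial.map_map]
        rfl
      have h2 := H F φ' hφ0
      rw [h1] at h2
      exact (h2 hirr).trans (mul_le_mul_of_nonneg_right (le_max_left _ _) hpos)
  · by_cases htop : I = ⊤
    · refine ⟨0, le_rfl, fun F _ _ φ hφ _ => ?_⟩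
      exact absurd (hφ 1 (htop ▸ Submodule.mem_top)) (by rw [map_one]; exact one_ne_zero)
    · rw [Ideal.isPrime_iff] at hI
      push Not at hI
      obtain ⟨a, b, hab, ha, hb⟩ := hI htop
      have hlt : ∀ c, c ∉ I → I < I ⊔ Ideal.span {c} := fun c hc =>
        lt_of_le_of_ne le_sup_left fun heq => hc (heq ▸
          Ideal.mem_sup_right (Ideal.mem_span_singleton_self c))
      obtain ⟨C, hC, H⟩ := ih _ (hlt a ha)
      obtain ⟨C', hC', H'⟩ := ih _ (hlt b hb)
      refine ⟨max C C', le_max_of_le_left hC, fun F _ _ φ hφ hirr => ?_⟩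
      have hpos : 0 ≤ (Nat.card F : ℝ) ^ n / Real.sqrt (Nat.card F) := by positivity
      have hle : ∀ c, φ c = 0 → ∀ z ∈ I ⊔ Ideal.span {c}, φ z = 0 := by
        intro c hc z hz
        have hle : I ⊔ Ideal.span {c} ≤ RingHom.ker φ := sup_le (fun a ha => hφ a ha)
          ((Ideal.span_singleton_le_iff_mem _).mpr hc)
        exact hle hz
      have h1 : φ a * φ b = 0 := by rw [← map_mul]; exact hφ _ hab
      rcases mul_eq_zero.mp h1 with h2 | h2
      · exact (H F φ (hle a h2) hirr).trans (mul_le_mul_of_nonneg_right (le_max_left _ _) hpos)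
      · exact (H' F φ (hle b h2) hirr).trans (mul_le_mul_of_nonneg_right (le_max_right _ _) hpos)

/-- **(NS)**: uniform Lang–Weil bound for absolutely irreducible hypersurfaces of bounded degree
(relative to the plane curve bound). -/
theorem NS (hPC : PCB.{u}) (n d : ℕ) : ∃ C : ℝ, 0 ≤ C ∧ ∀ (F : Type u) [Field F] [Finite F]
    (f : MvPolynomial (Fin (n + 1)) F), f.totalDegree ≤ d →
      Irreducible (MvPolynomial.map (algebraMap F (AlgebraicClosure F)) f) →
      |(Nat.card {x : Fin (n + 1) → F // MvPolynomial.eval x f = 0} : ℝ) - (Nat.card F : ℝ) ^ n| ≤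
        C * ((Nat.card F : ℝ) ^ n / Real.sqrt (Nat.card F)) := by
  classical
  let T : Finset (Fin (n + 1) →₀ ℕ) := Finset.Iic (Finsupp.equivFunOnFinite.symm fun _ => d)
  let R₀ := MvPolynomial T (ULift.{u} ℤ)
  have nZ : IsNoetherianRing (ULift.{u} ℤ) := isNoetherianRing_of_ringEquiv ℤ ULift.ringEquiv.symm
  let f₀ : MvPolynomial (Fin (n + 1)) R₀ :=
    ∑ α : T, MvPolynomial.monomial (α : Fin (n + 1) →₀ ℕ) (MvPolynomial.X α)
  obtain ⟨C, hC, H⟩ := NS_aux hPC n f₀ ⊥
  refine ⟨C, hC, fun F _ _ f hf hirr => ?_⟩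
  let φ : R₀ →+* F := MvPolynomial.eval₂Hom ((Int.castRingHom F).comp ULift.ringEquiv.toRingHom)
    fun α : T => MvPolynomial.coeff (α : Fin (n + 1) →₀ ℕ) f
  have hφ : MvPolynomial.map φ f₀ = f := by
    rw [map_sum]
    have h1 : ∀ α : T, MvPolynomial.map φ (MvPolynomial.monomial (α : Fin (n + 1) →₀ ℕ)
        (MvPolynomial.X α)) = MvPolynomial.monomial (α : Fin (n + 1) →₀ ℕ)
          (MvPolynomial.coeff (α : Fin (n + 1) →₀ ℕ) f) := by
      intro α
      rw [MvPolynomial.map_monomial]
      congr 1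
      exact MvPolynomial.eval₂_X _ _ _
    simp only [h1]
    rw [Finset.sum_coe_sort T (fun α => MvPolynomial.monomial α (MvPolynomial.coeff α f))]
    conv_rhs => rw [← MvPolynomial.support_sum_monomial_coeff f]
    symm
    refine Finset.sum_subset ?_ ?_
    · intro α hα
      rw [Finset.mem_Iic]
      intro i
      have h2 : α i ≤ f.totalDegree :=
        (MvPolynomial.monomial_le_degreeOf i hα).trans (MvPolynomial.degreeOf_le_totalDegree f i)
      exact h2.trans hf
    · intro α _ hα
      rw [MvPolynomial.notMem_support_iff.mp hα, map_zero]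
  have h1 := H F φ (fun a ha => by rw [Ideal.mem_bot.mp ha, map_zero])
  rw [hφ] at h1
  exact h1 hirr

end K468.Cnt
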