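import Groth.Agent.Zeta.K468.Tower

/-!
# The Lang–Weil estimate in families, in ring language
-/

set_option autoImplicit false
universe u v w

open IntermediateField
open scoped TensorProduct

namespace K468.Cnt

section Misc

variable {R : Type*} {F : Type*} [CommRing R] [Field F] (φ : R →+* F)

theorem card_ne_eq_N_away (A : Type*) [CommRing A] [Algebra R A] (g : A)
    (Ag : Type*) [CommRing Ag] [Algebra A Ag] [Algebra R Ag] [IsScalarTower R A Ag]
    [IsLocalization.Away g Ag] :
    Nat.card {ψ : {ψ : A →+* F // ψ.comp (algebraMap R A) = φ} // ψ.1 g ≠ 0} = N Ag φ := by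
  symm
  refine Nat.card_congr ?_
  exact
    { toFun := fun ψ => ⟨⟨ψ.1.comp (algebraMap A Ag), by
          rw [RingHom.comp_assoc, ← IsScalarTower.algebraMap_eq]; exact ψ.2⟩, by
          have h2 := (IsLocalization.Away.algebraMap_isUnit (S := Ag) g).map ψ.1
          exact h2.ne_zero⟩
      invFun := fun ψ => ⟨IsLocalization.Away.lift (S := Ag) g (g := ψ.1.1)
          (isUnit_iff_ne_zero.mpr ψ.2), by
          rw [IsScalarTower.algebraMap_eq R A Ag, ← RingHom.comp_assoc,
            IsLocalization.Away.lift_comp (S := Ag) g (isUnit_iff_ne_zero.mpr ψ.2)]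
          exact ψ.1.2⟩
      left_inv := fun ψ => by
        have h2 : ψ.1 (algebraMap A Ag g) ≠ 0 :=
          ((IsLocalization.Away.algebraMap_isUnit (S := Ag) g).map ψ.1).ne_zero
        apply Subtype.ext
        apply IsLocalization.ringHom_ext (Submonoid.powers g)
        exact IsLocalization.Away.lift_comp (S := Ag) g
          (g := ψ.1.comp (algebraMap A Ag)) (isUnit_iff_ne_zero.mpr h2)
      right_inv := fun ψ => by
        apply Subtype.ext
        apply Subtype.ext
        exact IsLocalization.Away.lift_comp (S := Ag) g (isUnit_iff_ne_zero.mpr ψ.2) }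

theorem N_le_N_quotient [Finite F] (A : Type*) [CommRing A] [Algebra R A] [Algebra.FiniteType R A]
    (I : Ideal A) (hI : ∀ ψ : A →+* F, ψ.comp (algebraMap R A) = φ → ∀ a ∈ I, ψ a = 0) :
    N A φ ≤ N (A ⧸ I) φ := by
  have := finite_homs (A := A ⧸ I) φ
  refine Nat.card_le_card_of_injective
    (fun ψ : {ψ : A →+* F // ψ.comp (algebraMap R A) = φ} =>
      (⟨Ideal.Quotient.lift I ψ.1 (hI ψ.1 ψ.2), by
        refine Eq.trans ?_ ψ.2; ext x; rfl⟩ :
          {ψ : A ⧸ I →+* F // ψ.comp (algebraMap R (A ⧸ I)) = φ})) ?_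
  intro ψ ψ' h
  apply Subtype.ext
  ext a
  exact RingHom.congr_fun (congrArg Subtype.val h) (Ideal.Quotient.mk I a)

end Misc

theorem trdeg_of_frac {R A L : Type u} [CommRing R] [CommRing A] [Nontrivial R] [Field L]
    [Algebra R A] [Algebra R L] [Algebra A L] [IsScalarTower R A L] [FaithfulSMul R A]
    [IsDomain A] [IsFractionRing A L] : Algebra.trdeg R A = Algebra.trdeg R L := by
  have h1 : FaithfulSMul A L := (faithfulSMul_iff_algebraMap_injective _ _).mpr
    (IsFractionRing.injective A L)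
  have h2 : Algebra.IsAlgebraic A L := IsLocalization.isAlgebraic _ (nonZeroDivisors A)
  have h3 := _root_.trdeg_add_eq R A (A := L)
  rw [_root_.trdeg_eq_zero (R := A) (A := L), add_zero] at h3
  exact h3

/-- Lang–Weil for birational covers of degree one. -/
theorem LW_zero {R K : Type u} [CommRing R] [IsDomain R] [Field K] [Algebra R K]
    [IsFractionRing R K] (A : Subalgebra R K) (hA : A.FG) : LW.{u, u, w} R A 0 := by
  classical
  obtain ⟨s, hs⟩ := hA
  -- common denominators of generators
  obtain ⟨b, hb⟩ := IsLocalization.exist_integer_multiples_of_finset (nonZeroDivisors R) s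
  have hb0 : (b : R) ≠ 0 := nonZeroDivisors.coe_ne_zero b
  refine ⟨b, hb0, 0, le_rfl, fun F _ _ φ hφ => ?_⟩
  have hden : ∀ x ∈ A, ∃ (n : ℕ) (c : R), algebraMap R K b ^ n * x = algebraMap R K c := by
    intro x hx
    rw [← hs] at hx
    induction hx using Algebra.adjoin_induction with
    | mem x hx =>
      obtain ⟨c, hc⟩ := hb x hx
      refine ⟨1, c, ?_⟩
      rw [pow_one, hc, Algebra.smul_def]
    | algebraMap r => exact ⟨0, r, by rw [pow_zero, one_mul]⟩
    | add x y _ _ ihx ihy =>
      obtain ⟨n, c, hc⟩ := ihx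
      obtain ⟨m, d, hd⟩ := ihy
      refine ⟨n + m, (b : R) ^ m * c + (b : R) ^ n * d, ?_⟩
      rw [map_add, map_mul, map_mul, map_pow, map_pow, ← hc, ← hd]
      ring
    | mul x y _ _ ihx ihy =>
      obtain ⟨n, c, hc⟩ := ihx
      obtain ⟨m, d, hd⟩ := ihy
      refine ⟨n + m, c * d, ?_⟩
      rw [map_mul, ← hc, ← hd]
      ring
  have hN : N A φ = 1 := by
    rw [N, Nat.card_eq_one_iff_unique]
    constructor
    · constructor
      intro ψ ψ'
      apply Subtype.ext
      ext x
      obtain ⟨n, c, hc⟩ := hden x x.2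
      have h1 : algebraMap R A b ^ n * x = algebraMap R A c := Subtype.ext (by simpa using hc)
      have h2 : ∀ χ : {ψ : A →+* F // ψ.comp (algebraMap R A) = φ}, φ b ^ n * χ.1 x = φ c := by
        intro χ
        have h3 := congrArg χ.1 h1
        rw [map_mul, map_pow] at h3
        have h4 : ∀ r, χ.1 (algebraMap R A r) = φ r := fun r => RingHom.congr_fun χ.2 r
        rwa [h4, h4] at h3
      exact mul_left_cancel₀ (pow_ne_zero n hφ) ((h2 ψ).trans (h2 ψ').symm)
    · -- existence: factor through `R[1/b]`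
      let Rb := Localization.Away (b : R)
      have hle : Submonoid.powers (b : R) ≤ nonZeroDivisors R := by
        rw [Submonoid.powers_le]; exact b.2
      let ι : Rb →+* K := IsLocalization.Away.lift (b : R) (g := algebraMap R K)
        (isUnit_iff_ne_zero.mpr ((map_ne_zero_iff _ (IsFractionRing.injective R K)).mpr hb0))
      have hι : ∀ r, ι (algebraMap R Rb r) = algebraMap R K r := fun r =>
        IsLocalization.Away.lift_eq _ _ r
      have hιinj : Function.Injective ι := by
        rw [injective_iff_map_eq_zero]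
        intro z hz
        obtain ⟨n, c, hc⟩ := IsLocalization.Away.surj (b : R) z
        have h1 := congrArg ι hc
        rw [map_mul, hz, zero_mul, hι] at h1
        have h2 : c = 0 := (map_eq_zero_iff _ (IsFractionRing.injective R K)).mp h1.symm
        rw [h2, map_zero] at hc
        have h3 : IsUnit (algebraMap R Rb b ^ n) :=
          (IsLocalization.Away.algebraMap_isUnit (b : R)).pow n
        exact (h3.mul_left_eq_zero).mp hc
      have hAι : ∀ x : A, ∃ z : Rb, ι z = x := by
        intro x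
        obtain ⟨n, c, hc⟩ := hden x x.2
        refine ⟨IsLocalization.mk' Rb c (⟨(b : R) ^ n, n, rfl⟩ : Submonoid.powers (b : R)), ?_⟩
        have h1 : algebraMap R K b ^ n ≠ 0 :=
          pow_ne_zero n ((map_ne_zero_iff _ (IsFractionRing.injective R K)).mpr hb0)
        apply mul_left_cancel₀ h1
        rw [hc, ← hι, ← hι, ← map_pow, ← map_pow, ← map_mul, mul_comm]
        congr 1
        exact IsLocalization.mk'_spec Rb c (⟨(b : R) ^ n, n, rfl⟩ : Submonoid.powers (b : R))
      choose z hz using hAι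
      let j : A →+* Rb :=
        { toFun := z
          map_one' := hιinj (by rw [hz, map_one]; rfl)
          map_mul' := fun x y => hιinj (by rw [hz, map_mul, hz, hz]; rfl)
          map_zero' := hιinj (by rw [hz, map_zero]; rfl)
          map_add' := fun x y => hιinj (by rw [hz, map_add, hz, hz]; rfl) }
      refine ⟨⟨(IsLocalization.Away.lift (S := Rb) (b : R) (g := φ)
        (isUnit_iff_ne_zero.mpr hφ)).comp j, ?_⟩⟩
      ext r
      have h1 : j (algebraMap R A r) = algebraMap R Rb r := hιinj (by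
        rw [hι]; exact hz _)
      rw [RingHom.comp_apply, RingHom.comp_apply, h1, IsLocalization.Away.lift_eq]
  rw [hN]
  simp

theorem isFractionRing_of_frac {R L : Type*} [CommRing R] [Field L] [Algebra R L]
    (A : Subalgebra R L) (hAL : ∀ x : L, ∃ a ∈ A, ∃ b ∈ A, b ≠ 0 ∧ x = a / b) :
    IsFractionRing A L := by
  have : FaithfulSMul A L := (faithfulSMul_iff_algebraMap_injective _ _).mpr Subtype.val_injective
  exact IsFractionRing.of_field A L fun z => by
    obtain ⟨a, ha, b, hb, _, h⟩ := hAL z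
    exact ⟨⟨a, ha⟩, ⟨b, hb⟩, h⟩

/-- The inductive step: a relative curve over `B`. -/
theorem LW_step (hPC : PCB.{u}) {R M L : Type u} [CommRing R] [IsDomain R] [Field M] [Field L]
    [Algebra R M] [Algebra R L] [Algebra M L] [IsScalarTower R M L] [FaithfulSMul R M] (r : ℕ)
    (B : Subalgebra R M) (hB : B.FG) (hBM : ∀ x : M, ∃ a ∈ B, ∃ b ∈ B, b ≠ 0 ∧ x = a / b)
    (IH : ∀ B' : Subalgebra R M, B'.FG → B ≤ B' → LW.{u, u, u} R B' r)
    (hM : ∀ a : L, IsSeparable M a → a ∈ (algebraMap M L).range) (x : L) (hx : Transcendental M x)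
    [FiniteDimensional M⟮x⟯ L] [Algebra.IsSeparable M⟮x⟯ L]
    (htr : Algebra.trdeg R L = (r + 1 : ℕ))
    (A : Subalgebra R L) (hA : A.FG) (hAL : ∀ x : L, ∃ a ∈ A, ∃ b ∈ A, b ≠ 0 ∧ x = a / b) :
    LW.{u, u, u} R A (r + 1) := by
  classical
  have frB : IsFractionRing B M := isFractionRing_of_frac B hBM
  obtain ⟨s, hs⟩ := id hA
  let A' : Subalgebra B L := Algebra.adjoin B (s : Set L)
  have hA' : A'.FG := ⟨s, rfl⟩
  have hle : A ≤ A'.restrictScalars R := by
    rw [← hs, Algebra.adjoin_le_iff]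
    exact fun z hz => Algebra.subset_adjoin hz
  have hA'L : ∀ x : L, ∃ a ∈ A', ∃ b ∈ A', b ≠ 0 ∧ x = a / b := by
    intro z
    obtain ⟨a, ha, b, hb, hb0, h⟩ := hAL z
    exact ⟨a, hle ha, b, hle hb, hb0, h⟩
  have ftB : Algebra.FiniteType R B := B.fg_iff_finiteType.mp hB
  have ftA' : Algebra.FiniteType B A' := A'.fg_iff_finiteType.mp hA'
  have ftRA' : Algebra.FiniteType R A' := Algebra.FiniteType.trans ftB ftA'
  have frA' : IsFractionRing A' L := isFractionRing_of_frac A' hA'L
  have injL : Function.Injective (algebraMap R L) := by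
    rw [IsScalarTower.algebraMap_eq R M L]
    exact (algebraMap M L).injective.comp (FaithfulSMul.algebraMap_injective R M)
  have fsL : FaithfulSMul R L := (faithfulSMul_iff_algebraMap_injective _ _).mpr injL
  have fsA' : FaithfulSMul R A' := by
    rw [faithfulSMul_iff_algebraMap_injective]
    intro y z h
    exact injL (congrArg (algebraMap A' L) h)
  have fsB : FaithfulSMul R B := by
    rw [faithfulSMul_iff_algebraMap_injective]
    intro y z h
    exact FaithfulSMul.algebraMap_injective R M (congrArg (fun t : B => (t : M)) h)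
  have htrA' : Algebra.trdeg R A' = (r + 1 : ℕ) := by rw [trdeg_of_frac (L := L), htr]
  -- the relative curve
  obtain ⟨b, hb0, C₁, hC₁, H₁⟩ := RD1 hPC (B := B) (M := M) hM x hx A' hA' hA'L
  -- the base, with `b` inverted
  have hBb : (awaySub B b).FG := by
    let alg : Algebra B (awaySub B b) := (Subalgebra.inclusion (le_awaySub B b)).toRingHom.toAlgebra
    have t : IsScalarTower R B (awaySub B b) := IsScalarTower.of_algebraMap_eq fun x => rfl
    have l : IsLocalization.Away b (awaySub B b) := isLocalization_awaySub B b hb0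
    have ft : Algebra.FiniteType B (awaySub B b) := IsLocalization.finiteType_of_monoid_fg
      (Submonoid.powers b) _
    rw [Subalgebra.fg_iff_finiteType]
    exact Algebra.FiniteType.trans ftB ft
  obtain ⟨h₂, hh₂, C₂, hC₂, H₂⟩ := IH (awaySub B b) hBb (le_awaySub B b)
  -- the divisor `b = 0`
  have hb'0 : algebraMap B A' b ≠ 0 := by
    intro h
    have h1 := congrArg (algebraMap A' L) h
    rw [← IsScalarTower.algebraMap_apply, map_zero] at h1
    have h2 : algebraMap B L b = algebraMap M L (b : M) := rfl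
    rw [h2] at h1
    exact hb0 (Subtype.ext ((map_eq_zero _).mp h1))
  obtain ⟨h₃, hh₃, C₃, hC₃, H₃⟩ := UBd_quotient.{u, u} htrA' hb'0
  have hA'R : (A'.restrictScalars R).FG := by
    rw [Subalgebra.fg_iff_finiteType]
    exact ftRA'
  obtain ⟨h₄, hh₄, C₄, hC₄, H₄⟩ := bir_le.{u, u} hA hA'R hle hAL htr
  refine ⟨h₂ * h₃ * h₄, mul_ne_zero (mul_ne_zero hh₂ hh₃) hh₄, (1 + C₂) * C₁ + C₂ + C₃ + C₄,
    by positivity, ?_⟩
  intro F _ _ φ hφ
  rw [map_mul, map_mul] at hφ
  have hφ4 := right_ne_zero_of_mul hφ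
  have hφ3 := right_ne_zero_of_mul (left_ne_zero_of_mul hφ)
  have hφ2 := left_ne_zero_of_mul (left_ne_zero_of_mul hφ)
  replace H₂ := H₂ F φ hφ2
  replace H₃ := H₃ F φ hφ3
  replace H₄ := H₄ F φ hφ4
  have hAA' : N (A'.restrictScalars R) φ = N A' φ := rfl
  rw [hAA'] at H₄
  set q : ℝ := (Nat.card F : ℝ) with hq
  have hq1 : 1 ≤ q := by
    rw [hq]; exact_mod_cast Nat.card_pos
  have hs0 : 0 < Real.sqrt q := Real.sqrt_pos.mpr (by linarith)
  have hs1 : 1 ≤ Real.sqrt q := Real.one_le_sqrt.mpr hq1
  have hqs : q / Real.sqrt q = Real.sqrt q := Real.div_sqrt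
  have hqs' : Real.sqrt q * Real.sqrt q = q := Real.mul_self_sqrt (by linarith)
  -- sum over the base
  let H := {ψ : B →+* F // ψ.comp (algebraMap R B) = φ}
  have finH : Finite H := finite_homs (A := B) φ
  have := Fintype.ofFinite H
  have T1 : N A' φ = ∑ ψ : H, N A' ψ.1 := by
    rw [N_tower φ B A', finsum_eq_sum_of_fintype]
  have T2 : N (A' ⧸ Ideal.span {algebraMap B A' b}) φ =
      ∑ ψ : H, N (A' ⧸ Ideal.span {algebraMap B A' b}) ψ.1 := by
    rw [N_tower φ B, finsum_eq_sum_of_fintype]
  let S := Finset.univ.filter fun ψ : H => ψ.1 b ≠ 0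
  have hS : (S.card : ℝ) = N (awaySub B b) φ := by
    let alg : Algebra B (awaySub B b) := (Subalgebra.inclusion (le_awaySub B b)).toRingHom.toAlgebra
    have t : IsScalarTower R B (awaySub B b) := IsScalarTower.of_algebraMap_eq fun x => rfl
    have l : IsLocalization.Away b (awaySub B b) := isLocalization_awaySub B b hb0
    rw [← card_ne_eq_N_away φ B b (awaySub B b)]
    rw [Nat.card_eq_fintype_card, Fintype.card_subtype]
  have T3 : ∑ ψ ∈ Finset.univ.filter (fun ψ : H => ¬ ψ.1 b ≠ 0), (N A' ψ.1 : ℝ) ≤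
      N (A' ⧸ Ideal.span {algebraMap B A' b}) φ := by
    rw [T2]
    push_cast
    refine (Finset.sum_le_sum fun ψ hψ => ?_).trans
      (Finset.sum_le_sum_of_subset_of_nonneg (Finset.filter_subset _ _) fun _ _ _ => by positivity)
    have hψb : ψ.1 b = 0 := by simpa using hψ
    exact_mod_cast N_le_N_quotient ψ.1 A' _ (fun χ hχ a ha => by
      obtain ⟨c, rfl⟩ := Ideal.mem_span_singleton'.mp ha
      rw [map_mul]
      have : χ (algebraMap B A' b) = ψ.1 b := RingHom.congr_fun hχ b
      rw [this, hψb, mul_zero])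
  have T4 : |∑ ψ ∈ S, ((N A' ψ.1 : ℝ) - q)| ≤ S.card * (C₁ * Real.sqrt q) := by
    refine (Finset.abs_sum_le_sum_abs _ _).trans ?_
    rw [← nsmul_eq_mul]
    refine Finset.sum_le_card_nsmul _ _ _ fun ψ hψ => ?_
    have h1 := H₁ F ψ.1 (Finset.mem_filter.mp hψ).2
    rw [pow_one, ← hq, hqs] at h1
    exact h1
  have T5 : (N A' φ : ℝ) = ∑ ψ ∈ S, (N A' ψ.1 : ℝ) +
      ∑ ψ ∈ Finset.univ.filter (fun ψ : H => ¬ ψ.1 b ≠ 0), (N A' ψ.1 : ℝ) := by
    rw [T1]
    push_cast
    exact (Finset.sum_filter_add_sum_filter_not _ _ _).symm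
  have T6 : ∑ ψ ∈ S, (N A' ψ.1 : ℝ) = ∑ ψ ∈ S, ((N A' ψ.1 : ℝ) - q) + S.card * q := by
    rw [Finset.sum_sub_distrib]
    simp
  rw [hS] at T4 T6
  have T7 : 0 ≤ ∑ ψ ∈ Finset.univ.filter (fun ψ : H => ¬ ψ.1 b ≠ 0), (N A' ψ.1 : ℝ) :=
    Finset.sum_nonneg fun _ _ => Nat.cast_nonneg _
  generalize hX : ∑ ψ ∈ Finset.univ.filter (fun ψ : H => ¬ ψ.1 b ≠ 0), (N A' ψ.1 : ℝ) = X at *
  generalize hY : ∑ ψ ∈ S, ((N A' ψ.1 : ℝ) - q) = Y at *
  rw [T6] at T5
  generalize (N (awaySub B b) φ : ℝ) = n at *
  generalize (N A' φ : ℝ) = NA' at *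
  have hpr : 0 < q ^ r := by positivity
  -- n ≤ (1 + C₂) q ^ r
  have n1 : n ≤ (1 + C₂) * q ^ r := by
    have h1 := (abs_le.mp H₂).2
    have h2 : q ^ r / Real.sqrt q ≤ q ^ r := div_le_self hpr.le hs1
    nlinarith
  have key : q ^ (r + 1) / Real.sqrt q = q ^ r * Real.sqrt q := by
    rw [pow_succ, mul_div_assoc, hqs]
  rw [key]
  have e1 : q ^ r ≤ q ^ r * Real.sqrt q := le_mul_of_one_le_right hpr.le hs1
  have e2 : |n * q - q ^ (r + 1)| ≤ C₂ * (q ^ r * Real.sqrt q) := by
    have h1 : n * q - q ^ (r + 1) = (n - q ^ r) * q := by ring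
    rw [h1, abs_mul, abs_of_nonneg (by linarith : (0 : ℝ) ≤ q)]
    refine (mul_le_mul_of_nonneg_right H₂ (by linarith)).trans (le_of_eq ?_)
    rw [← key, pow_succ]
    ring
  have e3 : |Y| ≤ (1 + C₂) * C₁ * (q ^ r * Real.sqrt q) := by
    refine T4.trans ?_
    have h1 : 0 ≤ C₁ * Real.sqrt q := by positivity
    calc n * (C₁ * Real.sqrt q) ≤ ((1 + C₂) * q ^ r) * (C₁ * Real.sqrt q) :=
          mul_le_mul_of_nonneg_right n1 h1
      _ = _ := by ring
  have e4 : X ≤ C₃ * (q ^ r * Real.sqrt q) :=
    T3.trans (H₃.trans (mul_le_mul_of_nonneg_left e1 hC₃))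
  have e5 : |(N A φ : ℝ) - NA'| ≤ C₄ * (q ^ r * Real.sqrt q) :=
    H₄.trans (mul_le_mul_of_nonneg_left e1 hC₄)
  rw [abs_le] at e2 e3 e5 ⊢
  constructor
  · nlinarith
  · nlinarith

/-- A finitely generated model of a finitely generated field extension. -/
theorem exists_fg_model {R K L : Type*} [CommRing R] [IsDomain R] [Field K] [Field L] [Algebra R K]
    [IsFractionRing R K] [Algebra R L] [Algebra K L] [IsScalarTower R K L]
    [Algebra.EssFiniteType K L] :
    ∃ B : Subalgebra R L, B.FG ∧ ∀ x : L, ∃ a ∈ B, ∃ b ∈ B, b ≠ 0 ∧ x = a / b := by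
  classical
  obtain ⟨s, hs⟩ := IntermediateField.fg_top K L
  refine ⟨Algebra.adjoin R (s : Set L), ⟨s, rfl⟩, ?_⟩
  rw [frac_iff]
  set T := Subfield.closure ((Algebra.adjoin R (s : Set L) : Subalgebra R L) : Set L) with hT
  have hK : ∀ k : K, algebraMap K L k ∈ T := by
    intro k
    obtain ⟨a, b, _, rfl⟩ := IsFractionRing.div_surjective (A := R) k
    rw [map_div₀, ← IsScalarTower.algebraMap_apply, ← IsScalarTower.algebraMap_apply]
    exact div_mem (Subfield.subset_closure (Subalgebra.algebraMap_mem _ _))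
      (Subfield.subset_closure (Subalgebra.algebraMap_mem _ _))
  let T' : IntermediateField K L := T.toIntermediateField hK
  have h1 : adjoin K (s : Set L) ≤ T' := by
    rw [adjoin_le_iff]
    exact fun x hx => Subfield.subset_closure (Algebra.subset_adjoin hx)
  rw [hs, top_le_iff] at h1
  rw [eq_top_iff]
  intro z _
  have h2 : z ∈ T' := h1 ▸ mem_top
  exact h2

/-- **Lang–Weil in families** (relative to the plane curve bound): a finitely generated domain over
a domain `R`, whose fraction field is separably generated over, and contains no separable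
extension of, the fraction field of `R`. -/
theorem LW_of_sepGen (hPC : PCB.{u}) (r : ℕ) : ∀ {R K L : Type u} [CommRing R] [IsDomain R]
    [Field K] [Field L] [Algebra R K] [IsFractionRing R K] [Algebra R L] [Algebra K L]
    [IsScalarTower R K L] (_ : ∀ a : L, IsSeparable K a → a ∈ (algebraMap K L).range)
    (v : Fin r → L) (_ : AlgebraicIndependent K v)
    [FiniteDimensional (adjoin K (Set.range v)) L] [Algebra.IsSeparable (adjoin K (Set.range v)) L]
    (A : Subalgebra R L) (_ : A.FG) (_ : ∀ x : L, ∃ a ∈ A, ∃ b ∈ A, b ≠ 0 ∧ x = a / b),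
    LW.{u, u, u} R A r := by
  induction r with
  | zero =>
    intro R K L _ _ _ _ _ _ _ _ _ hK v hv _ sep A hA hAL
    have h0 : adjoin K (Set.range v) = ⊥ := by
      rw [Set.range_eq_empty, adjoin_empty]
    rw [h0] at sep
    have s1 : Algebra.IsSeparable K (⊥ : IntermediateField K L) :=
      (AlgEquiv.Algebra.isSeparable_iff (botEquiv K L)).mpr inferInstance
    have s2 : Algebra.IsSeparable K L := Algebra.IsSeparable.trans K (⊥ : IntermediateField K L) L
    have hsurj : Function.Surjective (algebraMap K L) := fun a =>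
      hK a (Algebra.IsSeparable.isSeparable K a)
    have frL : IsFractionRing R L := by
      let e : K ≃ₐ[R] L := AlgEquiv.ofBijective (IsScalarTower.toAlgHom R K L)
        ⟨(algebraMap K L).injective, hsurj⟩
      exact IsLocalization.isLocalization_of_algEquiv (nonZeroDivisors R) e
    exact LW_zero A hA
  | succ r ih =>
    intro R K L _ _ _ _ _ _ _ _ _ hK v hv _ _ A hA hAL
    obtain ⟨M, v', hv', fM, sM, hM, x, hx, fx, sx⟩ := exists_tower v hv
    have essM : Algebra.EssFiniteType K M := by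
      have h1 : Algebra.EssFiniteType K (adjoin K (Set.range v')) :=
        essFiniteType_iff.mpr (fg_adjoin_of_finite (Set.finite_range v'))
      exact .comp K (adjoin K (Set.range v')) M
    obtain ⟨B, hB, hBM⟩ := exists_fg_model (R := R) (K := K) (L := M)
    have injM : Function.Injective (algebraMap R M) := by
      rw [IsScalarTower.algebraMap_eq R K M]
      exact (algebraMap K M).injective.comp (IsFractionRing.injective R K)
    have fsM : FaithfulSMul R M := (faithfulSMul_iff_algebraMap_injective _ _).mpr injM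
    have tML : IsScalarTower R M L := IsScalarTower.of_algebraMap_eq fun _ => rfl
    refine LW_step hPC r B hB hBM ?_ hM x hx
      (trdeg_of_basis (isTranscendenceBasis_of_isAlgebraic_adjoin hv)) A hA hAL
    intro B' hB' hBB'
    refine ih (K := K) ?_ v' hv' B' hB' ?_
    · intro a ha
      have h1 : IsSeparable K (a : L) := by
        have h2 : minpoly K (a : L) = minpoly K a :=
          minpoly.algebraMap_eq (algebraMap M L).injective a
        unfold IsSeparable at ha ⊢
        rw [h2]
        exact ha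
      obtain ⟨k, hk⟩ := hK _ h1
      exact ⟨k, Subtype.ext hk⟩
    · intro z
      obtain ⟨a, ha, b, hb, hb0, h⟩ := hBM z
      exact ⟨a, hBB' ha, b, hBB' hb, hb0, h⟩

end K468.Cnt
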