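import Groth.Agent.Zeta.K468.Uncond
import Groth.Agent.Zeta.K468.LangWeil
import Groth.Agent.Flat2E.FinSepClosure
import Mathlib.FieldTheory.Finite.GaloisField
import Mathlib.FieldTheory.SeparablyGenerated

/-!
# The number of points of a variety over a finite field: the field of constants
-/

set_option autoImplicit false
universe u v w

open IntermediateField Module
open scoped TensorProduct

namespace K468.Cnt

theorem N_eq_card_algHom {k A F : Type*} [Field k] [CommRing A] [Algebra k A] [Field F]
    [Algebra k F] : N A (algebraMap k F) = Nat.card (A →ₐ[k] F) :=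
  Nat.card_congr
    { toFun := fun ψ => { ψ.1 with commutes' := fun x => RingHom.congr_fun ψ.2 x }
      invFun := fun ψ => ⟨ψ.toRingHom, by ext x; exact ψ.commutes x⟩
      left_inv := fun ψ => rfl
      right_inv := fun ψ => rfl }

/-- The number of embeddings of a finite extension in a finite field. -/
theorem card_embeddings (k K F : Type*) [Field k] [Field K] [Field F] [Algebra k K] [Algebra k F]
    [Finite F] : Nat.card {ψ : K →+* F // ψ.comp (algebraMap k K) = algebraMap k F} =
      if finrank k K ∣ finrank k F then finrank k K else 0 := by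
  have h1 : Nat.card {ψ : K →+* F // ψ.comp (algebraMap k K) = algebraMap k F} =
      Nat.card (K →ₐ[k] F) := N_eq_card_algHom
  rw [h1]
  split_ifs with h
  · exact FiniteField.natCard_algHom_of_finrank_dvd h
  · have : IsEmpty (K →ₐ[k] F) := by
      rw [← not_nonempty_iff, FiniteField.nonempty_algHom_iff_finrank_dvd]
      exact h
    exact Nat.card_of_isEmpty

section

variable (k : Type u) [Field k] [Finite k] (A L : Type u) [CommRing A] [IsDomain A] [Algebra k A]
  [Algebra.FiniteType k A] [Field L] [Algebra k L] [Algebra A L] [IsScalarTower k A L]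
  [IsFractionRing A L]

omit [Finite k] in
include A in
theorem trdeg_frac_of_dim {r : ℕ} (hr : ringKrullDim A = r) : Algebra.trdeg k L = r := by
  obtain ⟨n, h1, h2⟩ := Groth.Agent.Ega4B.DimFT.exists_dim k A
  have h3 : n = r := by
    rw [h2] at hr
    exact_mod_cast hr
  rw [← trdeg_of_frac (A := A), h1, h3]

omit [Finite k] [IsDomain A] in
include A in
/-- The function field is finitely generated over an algebraically closed (in it) finite field of
constants. -/
theorem finite_const : FiniteDimensional k (separableClosure k L) := by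
  have : Algebra.EssFiniteType k L :=
    have : Algebra.EssFiniteType A L := .of_isLocalization _ (nonZeroDivisors A)
    .comp k A L
  exact Groth.Agent.Flat2E.FinSepClosure.finiteDimensional_separableClosure

omit [Finite k] [IsDomain A] [Algebra.FiniteType k A] [IsFractionRing A L] in
theorem mem_adjoin_const (s : Finset A) (hsA : Algebra.adjoin k (s : Set A) = ⊤) (a : A) :
    algebraMap A L a ∈ Algebra.adjoin (separableClosure k L) (algebraMap A L '' (s : Set A)) := by
  let K := separableClosure k L
  have h1 : a ∈ Algebra.adjoin k (s : Set A) := hsA ▸ Algebra.mem_top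
  have h2 : (IsScalarTower.toAlgHom k A L) a ∈ Algebra.adjoin k (algebraMap A L '' (s : Set A)) := by
    have h3 : (Algebra.adjoin k (s : Set A)).map (IsScalarTower.toAlgHom k A L) =
        Algebra.adjoin k (algebraMap A L '' (s : Set A)) := by
      rw [AlgHom.map_adjoin]; rfl
    rw [← h3]
    exact ⟨a, h1, rfl⟩
  have h4 : Algebra.adjoin k (algebraMap A L '' (s : Set A)) ≤
      (Algebra.adjoin K (algebraMap A L '' (s : Set A))).restrictScalars k :=
    Algebra.adjoin_le (Algebra.subset_adjoin (R := K))
  exact h4 h2

/-- Lang–Weil over the field of constants. -/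
theorem LW_const {r : ℕ} (hr : ringKrullDim A = r) (s : Finset A)
    (hsA : Algebra.adjoin k (s : Set A) = ⊤) :
    LW.{u, u, u} (separableClosure k L)
      (Algebra.adjoin (separableClosure k L) (algebraMap A L '' (s : Set A))) r := by
  classical
  let K := separableClosure k L
  have fK : FiniteDimensional k K := finite_const k A L
  have : Finite K := Module.finite_of_finite k
  have ess : Algebra.EssFiniteType K L :=
    have : Algebra.EssFiniteType A L := .of_isLocalization _ (nonZeroDivisors A)
    have : Algebra.EssFiniteType k L := .comp k A L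
    .of_comp k K L
  have htr : Algebra.trdeg K L = r := by
    have e1 := trdeg_add_eq k K (A := L)
    rw [trdeg_eq_zero (R := k) (A := K), zero_add] at e1
    rw [e1, trdeg_frac_of_dim k A L hr]
  have hK : ∀ a : L, IsSeparable K a → a ∈ (algebraMap K L).range := by
    intro a ha
    have h1 : a ∈ separableClosure K L := mem_separableClosure_iff.mpr ha
    rw [separableClosure.separableClosure_eq_bot] at h1
    exact mem_bot.mp h1
  obtain ⟨t, ht, hsep⟩ := exists_isTranscendenceBasis_and_isSeparable_of_perfectField (k := K)
    (K := L)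
  have hcard : t.card = r := by
    have h4 := ht.lift_cardinalMk_eq_trdeg
    rw [htr] at h4
    have h5 : (t.card : Cardinal.{u}) = r := by simpa using h4
    exact_mod_cast h5
  let e : Fin r ≃ t := (finCongr hcard.symm).trans t.equivFin.symm
  let v : Fin r → L := fun i => (e i : L)
  have hv : AlgebraicIndependent K v := ht.1.comp e e.injective
  have hrange : Set.range v = (t : Set L) := by
    ext z
    constructor
    · rintro ⟨i, rfl⟩
      exact (e i).2
    · intro hz
      exact ⟨e.symm ⟨z, hz⟩, by simp [v]⟩
  have sep : Algebra.IsSeparable (adjoin K (Set.range v)) L := by rw [hrange]; exact hsep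
  have fin : FiniteDimensional (adjoin K (Set.range v)) L := by
    have : Algebra.EssFiniteType (adjoin K (Set.range v)) L := .of_comp K _ _
    exact Algebra.finite_of_essFiniteType_of_isAlgebraic
  have hle := mem_adjoin_const k A L s hsA
  refine LW_of_sepGen pcb r (R := K) (K := K) hK v hv _
    (by
    rw [← Finset.coe_image]; exact Subalgebra.fg_adjoin_finset _) ?_
  intro x
  obtain ⟨a, b, hb, rfl⟩ := IsFractionRing.div_surjective (A := A) x
  exact ⟨_, hle a, _, hle b, (map_ne_zero_iff _ (IsFractionRing.injective A L)).mpr
    (nonZeroDivisors.ne_zero hb), rfl⟩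

/-- **The number of points of a variety over a finite field.** -/
theorem N_const {r : ℕ} (hr : ringKrullDim A = r) :
    ∃ C : ℝ, 0 ≤ C ∧ ∀ (F : Type u) [Field F] [Finite F] [Algebra k F],
      (finrank k (separableClosure k L) ∣ finrank k F →
        |(N A (algebraMap k F) : ℝ) - finrank k (separableClosure k L) * (Nat.card F : ℝ) ^ r| ≤
          C * ((Nat.card F : ℝ) ^ r / Real.sqrt (Nat.card F))) ∧
      (¬ finrank k (separableClosure k L) ∣ finrank k F →
        (N A (algebraMap k F) : ℝ) * Nat.card F ≤ C * (Nat.card F : ℝ) ^ r) := by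
  classical
  let K := separableClosure k L
  have fK : FiniteDimensional k K := finite_const k A L
  have : Finite K := Module.finite_of_finite k
  have htr : Algebra.trdeg k L = r := trdeg_frac_of_dim k A L hr
  obtain ⟨s, hs⟩ : ∃ s : Finset A, Algebra.adjoin k (s : Set A) = ⊤ :=
    Algebra.FiniteType.out (R := k) (A := A)
  have inj : Function.Injective (algebraMap A L) := IsFractionRing.injective A L
  rcases r with _ | r
  · -- dimension zero
    have h0 : Algebra.IsAlgebraic k L := by
      rw [← trdeg_eq_zero_iff]
      exact_mod_cast htr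
    have h1 : Algebra.IsIntegral k A := by
      have : Algebra.IsIntegral k L := inferInstance
      exact ⟨fun a => (isIntegral_algebraMap_iff inj).mp (this.isIntegral (algebraMap A L a))⟩
    have h2 : IsField A := isField_of_isIntegral_of_isField' (R := k) (Field.toIsField k)
    have hbij : Function.Bijective (algebraMap A L) :=
      h2.localization_map_bijective (M := nonZeroDivisors A) zero_notMem_nonZeroDivisors
    let e₁ : A ≃ₐ[k] L := AlgEquiv.ofBijective (IsScalarTower.toAlgHom k A L) hbij
    have h3 : K = ⊤ := by
      rw [eq_top_iff]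
      intro x _
      exact mem_separableClosure_iff.mpr (Algebra.IsSeparable.isSeparable k x)
    let e₂ : A ≃ₐ[k] K := e₁.trans ((IntermediateField.equivOfEq h3).trans topEquiv).symm
    refine ⟨0, le_rfl, fun F _ _ _ => ?_⟩
    have h4 : N A (algebraMap k F) = if finrank k K ∣ finrank k F then finrank k K else 0 := by
      rw [N_congr _ e₂]
      exact card_embeddings k K F
    rw [h4]
    constructor
    · intro h
      rw [if_pos h, pow_zero, mul_one]
      change |(finrank k K : ℝ) - finrank k K| ≤ _
      simp
    · intro h
      rw [if_neg h]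
      simp
  · have hL : ∀ a, algebraMap A L a ∈
        Algebra.adjoin K (algebraMap A L '' (s : Set A)) := mem_adjoin_const k A L s hs
    let TK : Subalgebra K L := Algebra.adjoin K (algebraMap A L '' (s : Set A))
    have hTK : TK.FG := by
      change (Algebra.adjoin K (algebraMap A L '' (s : Set A))).FG
      rw [← Finset.coe_image]; exact Subalgebra.fg_adjoin_finset _
    have ftTK : Algebra.FiniteType K TK := TK.fg_iff_finiteType.mp hTK
    let T : Subalgebra k L := TK.restrictScalars k
    have ftT : Algebra.FiniteType k TK := .trans (S := K) inferInstance inferInstance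
    have hT : T.FG := T.fg_iff_finiteType.mpr ftT
    let ι : A →ₐ[k] L := IsScalarTower.toAlgHom k A L
    have hA : ι.range.FG := by
      rw [Subalgebra.fg_iff_finiteType]
      exact Algebra.FiniteType.of_surjective ι.rangeRestrict ι.rangeRestrict_surjective
    have hle : ι.range ≤ T := by
      rintro _ ⟨a, rfl⟩
      exact hL a
    have hAL : ∀ x : L, ∃ a ∈ ι.range, ∃ b ∈ ι.range, b ≠ 0 ∧ x = a / b := by
      intro x
      obtain ⟨a, b, hb, rfl⟩ := IsFractionRing.div_surjective (A := A) x
      exact ⟨_, ⟨a, rfl⟩, _, ⟨b, rfl⟩, (map_ne_zero_iff _ inj).mpr (nonZeroDivisors.ne_zero hb), rfl⟩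
    obtain ⟨h₁, hh₁, C₁, hC₁, H₁⟩ := bir_le.{u, u} hA hT hle hAL htr
    obtain ⟨h₂, hh₂, C₂, hC₂, H₂⟩ := LW_const k A L hr s hs
    let m := finrank k K
    refine ⟨C₁ + m * C₂, by positivity, fun F _ _ _ => ?_⟩
    have eA : N A (algebraMap k F) = N ι.range (algebraMap k F) :=
      N_congr _ (AlgEquiv.ofInjective ι inj)
    have b1 := H₁ F (algebraMap k F) (by simpa using hh₁)
    have eT : N T (algebraMap k F) =
        ∑ᶠ ψ : {ψ : K →+* F // ψ.comp (algebraMap k K) = algebraMap k F}, N TK ψ.1 :=
      N_tower (algebraMap k F) K TK
    have hcardF : (1 : ℝ) ≤ Nat.card F := by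
      exact_mod_cast Nat.card_pos
    have hsqrt : Real.sqrt (Nat.card F) ≤ Nat.card F := by
      rw [Real.sqrt_le_left (by linarith)]
      nlinarith
    have hsq0 : 0 < Real.sqrt (Nat.card F) := Real.sqrt_pos.mpr (by linarith)
    have hpow : (Nat.card F : ℝ) ^ r ≤ (Nat.card F : ℝ) ^ (r + 1) / Real.sqrt (Nat.card F) := by
      rw [le_div_iff₀ hsq0, pow_succ]
      exact mul_le_mul_of_nonneg_left hsqrt (by positivity)
    have ftk : Algebra.FiniteType k K := inferInstance
    have finψ : Finite {ψ : K →+* F // ψ.comp (algebraMap k K) = algebraMap k F} :=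
      finite_homs (A := K) (algebraMap k F)
    have := Fintype.ofFinite {ψ : K →+* F // ψ.comp (algebraMap k K) = algebraMap k F}
    rw [finsum_eq_sum_of_fintype] at eT
    have hcard := card_embeddings k K F
    constructor
    · intro h
      rw [if_pos h, Nat.card_eq_fintype_card] at hcard
      have b2 : |(N T (algebraMap k F) : ℝ) - m * (Nat.card F : ℝ) ^ (r + 1)| ≤
          m * (C₂ * ((Nat.card F : ℝ) ^ (r + 1) / Real.sqrt (Nat.card F))) := by
        have e3 : (N T (algebraMap k F) : ℝ) - m * (Nat.card F : ℝ) ^ (r + 1) =
            ∑ ψ : {ψ : K →+* F // ψ.comp (algebraMap k K) = algebraMap k F},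
              ((N TK ψ.1 : ℝ) - (Nat.card F : ℝ) ^ (r + 1)) := by
          rw [Finset.sum_sub_distrib, Finset.sum_const, Finset.card_univ, hcard, eT, nsmul_eq_mul]
          push_cast
          rfl
        rw [e3]
        refine (Finset.abs_sum_le_sum_abs _ _).trans ?_
        refine (Finset.sum_le_sum fun ψ _ => H₂ F ψ.1 ?_).trans (le_of_eq ?_)
        · exact (map_ne_zero_iff _ ψ.1.injective).mpr hh₂
        · rw [Finset.sum_const, Finset.card_univ, hcard, nsmul_eq_mul]
      rw [eA]
      have e4 : (N ι.range (algebraMap k F) : ℝ) - m * (Nat.card F : ℝ) ^ (r + 1) =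
          ((N ι.range (algebraMap k F) : ℝ) - N T (algebraMap k F)) +
          ((N T (algebraMap k F) : ℝ) - m * (Nat.card F : ℝ) ^ (r + 1)) := by ring
      change |(N ι.range (algebraMap k F) : ℝ) - m * (Nat.card F : ℝ) ^ (r + 1)| ≤ _
      rw [e4]
      refine (abs_add_le _ _).trans ?_
      refine (add_le_add b1 b2).trans ?_
      have := mul_le_mul_of_nonneg_left hpow hC₁
      linarith
    · intro h
      rw [if_neg h] at hcard
      have hempty : IsEmpty {ψ : K →+* F // ψ.comp (algebraMap k K) = algebraMap k F} := by
        rcases Nat.card_eq_zero.mp hcard with h | h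
        · exact h
        · exact absurd h (not_infinite_iff_finite.mpr finψ)
      rw [Finset.univ_eq_empty, Finset.sum_empty] at eT
      rw [eT, Nat.cast_zero, sub_zero, abs_of_nonneg (Nat.cast_nonneg _)] at b1
      rw [eA]
      have e5 : (N ι.range (algebraMap k F) : ℝ) * Nat.card F ≤
          C₁ * (Nat.card F : ℝ) ^ (r + 1) := by
        rw [pow_succ, ← mul_assoc]
        exact mul_le_mul_of_nonneg_right b1 (by linarith)
      refine e5.trans ?_
      have : (0 : ℝ) ≤ m * C₂ * (Nat.card F : ℝ) ^ (r + 1) := by positivity
      linarith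

end

end K468.Cnt
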