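import Groth.Agent.Fdesc.GeomConnPoint
import Groth.Agent.Picfga.RegLocus
import Groth.Agent.Zeta.K468.CompCount
import Groth.Agent.Zeta.K468.Const
import Mathlib.AlgebraicGeometry.FunctionField
import Mathlib.AlgebraicGeometry.Morphisms.UnderlyingMap

/-!
# The field of constants of a normal scheme over a field

For `f : X ⟶ Spec k` integral and normal, with `κ` the separable closure of `k` in the function
field: `κ ⟶ Γ(X, O_X)`, the morphism `X ⟶ Spec κ`, which is geometrically irreducible, and
`[κ : k]` = number of geometric irreducible components.
-/

set_option autoImplicit false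
universe u

open CategoryTheory CategoryTheory.Limits AlgebraicGeometry TopologicalSpace

namespace K468.ConstField

open Groth.Agent.Picfga.RegLocus

theorem natCard_univ {Y : Type*} [TopologicalSpace Y] :
    Nat.card (irreducibleComponents ↥(Set.univ : Set Y)) = Nat.card (irreducibleComponents Y) := by
  let e := Homeomorph.Set.univ Y
  exact Nat.card_congr (irreducibleComponentsEquivOfIsPreirreducibleFiber e e.continuous e.isOpenMap
    (fun x => (Set.subsingleton_singleton.preimage e.injective).isPreirreducible)
    e.surjective).symm.toEquiv

/-- On a normal integral scheme, a rational function which is integral over the constants is a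
global function. -/
theorem mem_range_of_isIntegralElem {X : Scheme.{u}} [IsIntegral X]
    (hN : ∀ x : X, IsIntegrallyClosed (X.presheaf.stalk x)) [Nonempty (⊤ : X.Opens)]
    (c : X.functionField)
    (hc : (X.germToFunctionField ⊤).hom.IsIntegralElem c) :
    c ∈ Set.range (X.germToFunctionField ⊤) := by
  have h : reg c = ⊤ := by
    ext x
    simp only [Opens.coe_top, Set.mem_univ, iff_true]
    have := hN x
    obtain ⟨p, hp, hp'⟩ := hc
    have h1 : _root_.IsIntegral (X.presheaf.stalk x) c := by
      refine ⟨p.map (X.presheaf.germ ⊤ x trivial).hom, hp.map _, ?_⟩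
      rw [Polynomial.eval₂_map, ← hp']
      congr 1
      ext a
      exact Scheme.algebraMap_germ_eq_germToFunctionField _ _ _
    exact IsIntegrallyClosed.isIntegral_iff.1 h1
  obtain ⟨s, hs⟩ := exists_section c
  exact ⟨X.presheaf.map (homOfLE h.ge).op s, by
    simp only [Scheme.germToFunctionField] at hs ⊢
    rw [TopCat.Presheaf.germ_res_apply]
    exact hs⟩

variable {k : Type u} [Field k] {X : Scheme.{u}}

/-- The structure map on global functions. -/
noncomputable def glob (f : X ⟶ Spec (CommRingCat.of k)) : k →+* Γ(X, ⊤) :=
  f.appTop.hom.comp (Scheme.ΓSpecIso (CommRingCat.of k)).inv.hom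

theorem eq_glob (f : X ⟶ Spec (CommRingCat.of k)) :
    X.toSpecΓ ≫ Spec.map (CommRingCat.ofHom (glob f)) = f := by
  have h : CommRingCat.ofHom (glob f) = (Scheme.ΓSpecIso (CommRingCat.of k)).inv ≫ f.appTop := rfl
  rw [h, Spec.map_comp, ← Scheme.toSpecΓ_naturality_assoc, toSpecΓ_SpecMap_ΓSpecIso_inv,
    Category.comp_id]

variable [IsIntegral X]

instance : Nonempty (⊤ : X.Opens) := ⟨⟨genericPoint X, trivial⟩⟩

/-- The structure map of the function field. -/
noncomputable def ffHom (f : X ⟶ Spec (CommRingCat.of k)) : k →+* X.functionField :=
  (X.germToFunctionField ⊤).hom.comp (glob f)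

/-- The generic point, as a morphism. -/
noncomputable def gen (X : Scheme.{u}) [IsIntegral X] :
    Spec (CommRingCat.of X.functionField) ⟶ X := X.fromSpecStalk (genericPoint X)

instance : IsPreimmersion (gen X) := inferInstanceAs (IsPreimmersion (X.fromSpecStalk _))

theorem range_gen : Set.range (gen X) = {genericPoint X} := by
  have h : Set.range (gen X) = { y | y ⤳ genericPoint X } :=
    Scheme.range_fromSpecStalk
  rw [h]
  ext y
  constructor
  · intro hy
    exact ((genericPoint_specializes y).antisymm hy).eq.symm
  · rintro rfl
    exact specializes_rfl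

theorem isDominant_gen : IsDominant (gen X) := by
  refine ⟨?_⟩
  rw [DenseRange, range_gen, dense_iff_closure_eq]
  exact genericPoint_closure X

theorem gen_glob {R : Type u} [CommRing R] (c : R →+* Γ(X, ⊤)) :
    gen X ≫ X.toSpecΓ ≫ Spec.map (CommRingCat.ofHom c) =
      Spec.map (CommRingCat.ofHom ((X.germToFunctionField ⊤).hom.comp c)) := by
  have h : gen X ≫ X.toSpecΓ = Spec.map (X.germToFunctionField ⊤) :=
    Scheme.fromSpecStalk_toSpecΓ X (genericPoint X)
  rw [reassoc_of% h, ← Spec.map_comp]
  rfl

theorem gen_comp (f : X ⟶ Spec (CommRingCat.of k)) :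
    gen X ≫ f = Spec.map (CommRingCat.ofHom (ffHom f)) := by
  conv_lhs => rw [← eq_glob f]
  exact gen_glob _

section

variable (f : X ⟶ Spec (CommRingCat.of k)) [Algebra k X.functionField]
  (hf : algebraMap k X.functionField = ffHom f)
  (hN : ∀ x : X, IsIntegrallyClosed (X.presheaf.stalk x))

include hf hN

/-- The constants are global functions. -/
theorem exists_const : ∃ c : separableClosure k X.functionField →+* Γ(X, ⊤),
    (∀ a, X.germToFunctionField ⊤ (c a) = a) ∧
      c.comp (algebraMap k (separableClosure k X.functionField)) = glob f := by
  have hinj := X.germToFunctionField_injective ⊤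
  let γ : Γ(X, ⊤) →+* X.functionField := (X.germToFunctionField ⊤).hom
  have hγ : Function.Injective γ := hinj
  have hmem : ∀ a : separableClosure k X.functionField, (a : X.functionField) ∈ γ.range := by
    intro a
    have h1 : IsSeparable k (a : X.functionField) := mem_separableClosure_iff.mp a.2
    obtain ⟨p, hp, hp'⟩ := h1.isIntegral
    refine mem_range_of_isIntegralElem hN _ ⟨p.map (glob f), hp.map _, ?_⟩
    rw [Polynomial.eval₂_map, ← hp', hf]
    rfl
  let e : Γ(X, ⊤) ≃+* γ.range :=
    RingEquiv.ofBijective γ.rangeRestrict ⟨fun a b hab => hγ (congrArg Subtype.val hab),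
      γ.rangeRestrict_surjective⟩
  let c : separableClosure k X.functionField →+* Γ(X, ⊤) :=
    (e.symm : γ.range →+* Γ(X, ⊤)).comp
      ((algebraMap (separableClosure k X.functionField) X.functionField).codRestrict γ.range hmem)
  have hc : ∀ a, γ (c a) = a := by
    intro a
    have h1 : e (c a) = ⟨a, hmem a⟩ := e.apply_symm_apply _
    exact congrArg Subtype.val h1
  refine ⟨c, hc, ?_⟩
  ext a
  apply hγ
  have h2 := hc (algebraMap k (separableClosure k X.functionField) a)
  have h3 : ((algebraMap k (separableClosure k X.functionField) a : separableClosure k X.functionField) :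
      X.functionField) = algebraMap k X.functionField a := rfl
  rw [h3, hf] at h2
  exact h2

/-- **The field of constants** of a normal integral scheme. -/
theorem exists_constHom :
    ∃ g : X ⟶ Spec (CommRingCat.of (separableClosure k X.functionField)),
      g ≫ Spec.map (CommRingCat.ofHom (algebraMap k (separableClosure k X.functionField))) = f ∧
      gen X ≫ g = Spec.map (CommRingCat.ofHom
        (algebraMap (separableClosure k X.functionField) X.functionField)) ∧
      GeometricallyIrreducible g := by
  obtain ⟨c, hc, hc'⟩ := exists_const f hf hN
  refine ⟨X.toSpecΓ ≫ Spec.map (CommRingCat.ofHom c), ?_, ?_, ?_⟩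
  · rw [Category.assoc, ← Spec.map_comp, ← CommRingCat.ofHom_comp, hc', eq_glob]
  · rw [gen_glob]
    congr 2
    ext a
    exact hc a
  · have hgen : gen X ≫ X.toSpecΓ ≫ Spec.map (CommRingCat.ofHom c) = Spec.map (CommRingCat.ofHom
        (algebraMap (separableClosure k X.functionField) X.functionField)) := by
      rw [gen_glob]
      congr 2
      ext a
      exact hc a
    generalize X.toSpecΓ ≫ Spec.map (CommRingCat.ofHom c) = g at hgen
    have h1 := Groth.Agent.Fdesc.GeomConnPoint.geometricallyIrreducible_spec_separableClosure k
      X.functionField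
    constructor
    rw [geometrically_iff_of_commRing_of_isClosedUnderIsomorphisms]
    intro L _ _
    let s : Spec (CommRingCat.of L) ⟶ Spec (CommRingCat.of (separableClosure k X.functionField)) :=
      Spec.map (CommRingCat.ofHom (algebraMap _ L))
    have h2 : IrreducibleSpace ↥(pullback (gen X ≫ g) s) := by
      rw [hgen]
      infer_instance
    -- the base change of the generic point is dominant
    have hpb : IsPullback (pullback.fst (gen X) (pullback.fst g s)) (pullback.snd (gen X) (pullback.fst g s) ≫
        pullback.snd g s) (gen X ≫ g) s := 
      (IsPullback.of_hasPullback (gen X) (pullback.fst g s)).flip.paste_horiz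
        (IsPullback.of_hasPullback g s).flip |>.flip
    have h3 : IrreducibleSpace ↥(pullback (gen X) (pullback.fst g s)) := by
      rw [hpb.isoPullback.hom.homeomorph.irreducibleSpace_iff]
      exact h2
    have h4 : IsOpenMap (pullback.fst g s) := (pullback.fst g s).isOpenMap
    have h5 : Dense (Set.range (pullback.snd (gen X) (pullback.fst g s))) := by
      rw [Scheme.Pullback.range_snd]
      exact isDominant_gen.denseRange.preimage h4
    have h6 : IsIrreducible (Set.range (pullback.snd (gen X) (pullback.fst g s))) := by
      rw [← Set.image_univ]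
      exact (IrreducibleSpace.isIrreducible_univ _).image _
        (pullback.snd (gen X) (pullback.fst g s)).continuous.continuousOn
    have h7 := h6.closure
    rw [h5.closure_eq] at h7
    exact (irreducibleSpace_def _).mpr h7

end

section Comp

variable (f : X ⟶ Spec (CommRingCat.of k)) [Algebra k X.functionField]
  (hf : algebraMap k X.functionField = ffHom f)

include hf

/-- The field of constants of a scheme of finite type is finite over the base field. -/
theorem finite_const [LocallyOfFiniteType f] :
    FiniteDimensional k (separableClosure k X.functionField) := by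
  obtain ⟨_, ⟨U, hU, rfl⟩, hxU, -⟩ :=
    X.isBasis_affineOpens.exists_subset_of_mem_open (Set.mem_univ (genericPoint X)) isOpen_univ
  have hne : Nonempty U := ⟨⟨_, hxU⟩⟩
  have : IsFractionRing Γ(X, U) X.functionField := functionField_isFractionRing_of_isAffineOpen X _ hU
  let t : k →+* Γ(X, U) := (X.presheaf.map (homOfLE le_top : U ⟶ ⊤).op).hom.comp (glob f)
  let : Algebra k Γ(X, U) := t.toAlgebra
  have hst : IsScalarTower k Γ(X, U) X.functionField := by
    refine .of_algebraMap_eq fun a => ?_
    rw [hf]
    change X.germToFunctionField ⊤ (glob f a) =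
      X.germToFunctionField U (X.presheaf.map (homOfLE le_top : U ⟶ ⊤).op (glob f a))
    simp only [Scheme.germToFunctionField]
    rw [TopCat.Presheaf.germ_res_apply]
  have hft : Algebra.FiniteType k Γ(X, U) := by
    have h1 := f.finiteType_appLE (isAffineOpen_top (Spec (CommRingCat.of k))) hU (by
      intro x _; trivial)
    have h2 : t = (f.appLE ⊤ U (by intro x _; trivial)).hom.comp
        (Scheme.ΓSpecIso (CommRingCat.of k)).inv.hom := by
      change ((f.appTop ≫ X.presheaf.map (homOfLE le_top : U ⟶ ⊤).op)).hom.comp _ = _
      rfl
    have h3 : t.FiniteType := by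
      rw [h2]
      exact h1.comp (RingHom.FiniteType.of_surjective _
        (Scheme.ΓSpecIso (CommRingCat.of k)).commRingCatIsoToRingEquiv.symm.surjective)
    exact h3
  exact K468.Cnt.finite_const k Γ(X, U) X.functionField

/-- The number of geometric components is the degree of the field of constants. -/
theorem natCard_components [PerfectField k] [LocallyOfFiniteType f] :
    Nat.card (irreducibleComponents ↥(pullback f (Spec.map (CommRingCat.ofHom
      (algebraMap k (AlgebraicClosure k)))))) =
      Module.finrank k (separableClosure k X.functionField) := by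
  have hfd := finite_const f hf
  have h1 := K468.Comp.natCard_components k f (genericPoint X) X.functionField (gen X)
    (by rw [gen_comp, hf]) range_gen
  have h2 : closure {genericPoint X} = (Set.univ : Set X) := genericPoint_closure X
  rw [← h1, h2, Set.preimage_univ]
  exact natCard_univ.symm

end Comp

end K468.ConstField
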