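import Groth.Agent.Zeta.K468.IntBC
import Groth.Agent.Zeta.K468.ConstField
import Groth.Agent.MiscA.PointCount
import Groth.Agent.Sga3B.DimFib
import Groth.Agent.Sga3C.GeomRedPerf
import Groth.Agent.Dix.NormalLoc
import Groth.Agent.Ega3B.ProjProper
import Groth.Prelude.Def_SgaExt
import Mathlib.FieldTheory.Finite.GaloisField

/-!
# Sharp Lang-Weil bounds for smooth projective varieties, not necessarily geometrically irreducible

From the bound for geometrically irreducible projective varieties (`SharpProj`, S13073).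
-/

set_option autoImplicit false
universe u

open CategoryTheory CategoryTheory.Limits AlgebraicGeometry

namespace K468.SharpNormal

open Groth.Agent.CohqB.ProjBC K468.ConstField K468.IntBC

/-- The bound for geometrically irreducible projective varieties. -/
def SharpProj : Prop := ∀ (n d r : ℕ), 0 < d →
    ∃ A : ℝ, 0 < A ∧ ∀ (k : Type u) [Field k] [Finite k] (X : Scheme.{u})
      (ι : X ⟶ CohB1.ProjSpace n k) [IsClosedImmersion ι] [IsReduced X]
      [GeometricallyIrreducible (ι ≫ CohB1.ProjSpace.toSpec n k)],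
      topologicalKrullDim X = r →
      letI : X.Over (Spec (CommRingCat.of k)) := ⟨ι ≫ CohB1.ProjSpace.toSpec n k⟩
      FGA.intNum k X r (fun _ : Fin r => (Scheme.Modules.pullback ι).obj (Twist.twistProjSpace n k (-1)))
          (Coh.structureModule X) = d →
        |(SgaExt.pointCount (ι ≫ CohB1.ProjSpace.toSpec n k) k : ℝ) - (Nat.card k : ℝ) ^ r| ≤
          ((d : ℝ) - 1) * ((d : ℝ) - 2) * (Nat.card k : ℝ) ^ ((r : ℝ) - 1 / 2) +
            A * (Nat.card k : ℝ) ^ ((r : ℝ) - 1)

section Points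

variable {k κ : Type u} [Field k] [Field κ] [Algebra k κ] {X : Scheme.{u}}
  {f : X ⟶ Spec (CommRingCat.of k)} {g : X ⟶ Spec (CommRingCat.of κ)}
  (hg : g ≫ Spec.map (CommRingCat.ofHom (algebraMap k κ)) = f)
  (k' : Type u) [Field k'] [Algebra k k']

/-- The `k'`-points of `X` over a given embedding of the constants. -/
abbrev PtsOver (g : X ⟶ Spec (CommRingCat.of κ)) (σ : κ →+* k') : Type u :=
  {y : Spec (CommRingCat.of k') ⟶ pullback g (Spec.map (CommRingCat.ofHom σ)) //
    y ≫ pullback.snd g (Spec.map (CommRingCat.ofHom σ)) =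
      Spec.map (CommRingCat.ofHom (algebraMap k' k'))}

/-- The embedding of the constants defined by a point. -/
noncomputable def emb (x : {x : Spec (CommRingCat.of k') ⟶ X //
    x ≫ f = Spec.map (CommRingCat.ofHom (algebraMap k k'))}) : κ →ₐ[k] k' :=
  { toRingHom := (Spec.preimage (x.1 ≫ g)).hom
    commutes' := by
      intro a
      have h : Spec.map (CommRingCat.ofHom (algebraMap k κ) ≫ Spec.preimage (x.1 ≫ g)) =
          Spec.map (CommRingCat.ofHom (algebraMap k k')) := by
        rw [Spec.map_comp, Spec.map_preimage, Category.assoc, hg, x.2]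
      exact ConcreteCategory.congr_hom (Spec.map_injective h) a }

theorem emb_eq_iff (x : {x : Spec (CommRingCat.of k') ⟶ X //
    x ≫ f = Spec.map (CommRingCat.ofHom (algebraMap k k'))}) (σ : κ →ₐ[k] k') :
    emb hg k' x = σ ↔ x.1 ≫ g = Spec.map (CommRingCat.ofHom (σ : κ →+* k')) := by
  constructor
  · rintro rfl
    exact (Spec.map_preimage (x.1 ≫ g)).symm
  · intro h
    apply AlgHom.coe_ringHom_injective
    change (Spec.preimage (x.1 ≫ g)).hom = _
    rw [h, Spec.preimage_map]
    rfl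

/-- The points over one embedding are the points of the corresponding base change. -/
noncomputable def fibreEquiv (σ : κ →ₐ[k] k') :
    {x : {x : Spec (CommRingCat.of k') ⟶ X //
      x ≫ f = Spec.map (CommRingCat.ofHom (algebraMap k k'))} // emb hg k' x = σ} ≃
      PtsOver k' g (σ : κ →+* k') where
  toFun x := ⟨pullback.lift x.1.1 (𝟙 _) (by
      rw [Category.id_comp]
      exact (emb_eq_iff hg k' x.1 σ).mp x.2), by
      rw [pullback.lift_snd]
      exact (Spec.map_id _).symm⟩
  invFun y := by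
    have h1 : (y.1 ≫ pullback.fst g (Spec.map (CommRingCat.ofHom (σ : κ →+* k')))) ≫ g =
        Spec.map (CommRingCat.ofHom (σ : κ →+* k')) := by
      rw [Category.assoc, pullback.condition, ← Category.assoc, y.2, ← Spec.map_comp]
      rfl
    have h2 : (y.1 ≫ pullback.fst g (Spec.map (CommRingCat.ofHom (σ : κ →+* k')))) ≫ f =
        Spec.map (CommRingCat.ofHom (algebraMap k k')) := by
      rw [← hg, ← Category.assoc, h1, ← Spec.map_comp, ← CommRingCat.ofHom_comp]
      congr 2
      exact σ.comp_algebraMap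
    exact ⟨⟨_, h2⟩, (emb_eq_iff hg k' ⟨_, h2⟩ σ).mpr h1⟩
  left_inv x := Subtype.ext (Subtype.ext (pullback.lift_fst _ _ _))
  right_inv y := by
    apply Subtype.ext
    apply pullback.hom_ext
    · exact pullback.lift_fst _ _ _
    · refine (pullback.lift_snd _ _ _).trans ?_
      rw [y.2]
      exact (Spec.map_id _).symm

include hg in
/-- **Decomposition of the point count** along the embeddings of the field of constants. -/
theorem pointCount_eq_sum [Finite k] [Finite k'] [LocallyOfFiniteType f] [QuasiCompact f]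
    [Fintype (κ →ₐ[k] k')] :
    SgaExt.pointCount f k' = ∑ σ : κ →ₐ[k] k',
      SgaExt.pointCount (pullback.snd g (Spec.map (CommRingCat.ofHom (σ : κ →+* k')))) k' := by
  have hfin := Groth.Agent.MiscA.PointCount.finite_points f k'
  unfold SgaExt.pointCount
  rw [← Nat.card_congr (Equiv.sigmaFiberEquiv (emb hg k'))]
  rw [Nat.card_sigma]
  exact Finset.sum_congr rfl fun σ _ => Nat.card_congr (fibreEquiv hg k' σ)

end Points

section Main

variable {k : Type u} [Field k] {n : ℕ} {X : Scheme.{u}}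
  (ι : X ⟶ CohB1.ProjSpace n k) [IsClosedImmersion ι]

/-- The degree. -/
noncomputable abbrev deg {k : Type u} [Field k] {n : ℕ} {X : Scheme.{u}}
    (ι : X ⟶ CohB1.ProjSpace n k) (r : ℕ) : ℤ :=
  @FGA.intNum k _ X ⟨ι ≫ CohB1.ProjSpace.toSpec n k⟩ r r
    (fun _ : Fin r => (Scheme.Modules.pullback ι).obj (Twist.twistProjSpace n k (-1)))
    (Coh.structureModule X)

/-- Everything for one embedding of the constants. -/
theorem piece [IsReduced X] {κ : Type u} [Field κ] [Finite κ] [Algebra k κ]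
    (g : X ⟶ Spec (CommRingCat.of κ)) [GeometricallyIrreducible g]
    (hg : g ≫ Spec.map (CommRingCat.ofHom (algebraMap k κ)) = ι ≫ CohB1.ProjSpace.toSpec n k)
    (r : ℕ) (hdim : topologicalKrullDim X = r) (d m : ℕ) (hdeg : deg ι r = d)
    (hm : Module.finrank k κ = m) :
    ∃ d' : ℕ, d = m * d' ∧ ∀ (A : ℝ), (∀ (k : Type u) [Field k] [Finite k] (X : Scheme.{u})
      (ι : X ⟶ CohB1.ProjSpace n k) [IsClosedImmersion ι] [IsReduced X]
      [GeometricallyIrreducible (ι ≫ CohB1.ProjSpace.toSpec n k)],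
      topologicalKrullDim X = r → deg ι r = d' →
        |(SgaExt.pointCount (ι ≫ CohB1.ProjSpace.toSpec n k) k : ℝ) - (Nat.card k : ℝ) ^ r| ≤
          ((d' : ℝ) - 1) * ((d' : ℝ) - 2) * (Nat.card k : ℝ) ^ ((r : ℝ) - 1 / 2) +
            A * (Nat.card k : ℝ) ^ ((r : ℝ) - 1)) →
      ∀ (k' : Type u) [Field k'] [Finite k'] (σ : κ →+* k'),
        |(SgaExt.pointCount (pullback.snd g (Spec.map (CommRingCat.ofHom σ))) k' : ℝ) -
          (Nat.card k' : ℝ) ^ r| ≤
          ((d' : ℝ) - 1) * ((d' : ℝ) - 2) * (Nat.card k' : ℝ) ^ ((r : ℝ) - 1 / 2) +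
            A * (Nat.card k' : ℝ) ^ ((r : ℝ) - 1) := by
  have hp0 : IsProper (CohB1.ProjSpace.toSpec n k) := Groth.Agent.Ega3B.ProjProper.isProper_toSpec n k
  have hproper : IsProper (ι ≫ CohB1.ProjSpace.toSpec n k) := inferInstance
  have hcs : CompactSpace X := (quasiCompact_iff_compactSpace (ι ≫ CohB1.ProjSpace.toSpec n k)).mp
    inferInstance
  have hqs : QuasiSeparatedSpace X :=
    (quasiSeparated_iff_quasiSeparatedSpace (ι ≫ CohB1.ProjSpace.toSpec n k)).mp inferInstance
  have hgft : LocallyOfFiniteType g := by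
    have : LocallyOfFiniteType (g ≫ Spec.map (CommRingCat.ofHom (algebraMap k κ))) := by
      rw [hg]; infer_instance
    exact locallyOfFiniteType_of_comp g (Spec.map (CommRingCat.ofHom (algebraMap k κ)))
  -- the embedding over the field of constants
  let ικ : X ⟶ CohB1.ProjSpace n κ := (isPullback_pmap (algebraMap k κ) n).lift ι g hg.symm
  have h1 : ικ ≫ pmap (algebraMap k κ) n = ι := (isPullback_pmap (algebraMap k κ) n).lift_fst _ _ _
  have h2 : ικ ≫ CohB1.ProjSpace.toSpec n κ = g :=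
    (isPullback_pmap (algebraMap k κ) n).lift_snd _ _ _
  have hsep : IsSeparated (pmap (algebraMap k κ) n) :=
    MorphismProperty.of_isPullback (P := @IsSeparated) (isPullback_pmap (algebraMap k κ) n).flip
      inferInstance
  have hcl : IsClosedImmersion ικ := by
    have : IsClosedImmersion (ικ ≫ pmap (algebraMap k κ) n) := by rw [h1]; infer_instance
    exact IsClosedImmersion.of_comp ικ (pmap (algebraMap k κ) n)
  have h3 : deg ι r = Module.finrank k κ * deg ικ r := intNum_proj_const h1.symm r (-1)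
  have hm0 : 0 < m := by
    rw [← hm]
    exact Module.finrank_pos
  obtain ⟨d', hd'⟩ : ∃ d' : ℕ, deg ικ r = d' := by
    apply Int.eq_ofNat_of_zero_le
    by_contra hneg
    push Not at hneg
    rw [hdeg, hm] at h3
    have : (m : ℤ) * deg ικ r < 0 := mul_neg_of_pos_of_neg (by exact_mod_cast hm0) hneg
    omega
  refine ⟨d', ?_, ?_⟩
  · rw [hdeg, hm, hd'] at h3
    exact_mod_cast h3
  intro A hA k' _ _ σ
  let s : Spec (CommRingCat.of k') ⟶ Spec (CommRingCat.of κ) := Spec.map (CommRingCat.ofHom σ)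
  let ι' : pullback g s ⟶ CohB1.ProjSpace n k' := (isPullback_pmap σ n).lift
    (pullback.fst g s ≫ ικ) (pullback.snd g s) (by rw [Category.assoc, h2, pullback.condition])
  have hfst : ι' ≫ pmap σ n = pullback.fst g s ≫ ικ := (isPullback_pmap σ n).lift_fst _ _ _
  have hsnd : ι' ≫ CohB1.ProjSpace.toSpec n k' = pullback.snd g s :=
    (isPullback_pmap σ n).lift_snd _ _ _
  have hpb : IsPullback (pullback.fst g s) ι' ικ (pmap σ n) := by
    refine IsPullback.of_bot (h₃₁ := s) (v₂₁ := CohB1.ProjSpace.toSpec n k')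
      (v₂₂ := CohB1.ProjSpace.toSpec n κ) ?_ hfst.symm (isPullback_pmap σ n)
    rw [h2, hsnd]
    exact IsPullback.of_hasPullback g s
  have hcl' : IsClosedImmersion ι' :=
    MorphismProperty.of_isPullback (P := @IsClosedImmersion) hpb hcl
  have hred : IsReduced (pullback g s) := by
    have h4 : GeometricallyReduced g := Groth.Agent.Sga3C.GeomRedPerf.geometricallyReduced_of_isReduced g
    exact h4.geometrically_isReduced s (pullback.fst g s) (pullback.snd g s)
      (IsPullback.of_hasPullback g s)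
  have hirr : GeometricallyIrreducible (ι' ≫ CohB1.ProjSpace.toSpec n k') := by
    rw [hsnd]; infer_instance
  have hdim' : topologicalKrullDim ↥(pullback g s) = r := by
    rw [← hdim]
    exact Groth.Agent.Sga3B.DimFib.topologicalKrullDim_baseChange_eq (Field.toIsField κ)
      (Field.toIsField k') g s _ _ (IsPullback.of_hasPullback g s)
  have hdeg' : deg ι' r = d' := by
    rw [← hd']
    exact intNum_proj_bc σ hpb r (-1)
  have h5 := hA k' (pullback g s) ι' hdim' hdeg'
  rw [hsnd] at h5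
  exact h5

/-- **The main bound** for one variety. -/
theorem main_one [Finite k] [IsIntegral X] [Smooth (ι ≫ CohB1.ProjSpace.toSpec n k)] (r m d : ℕ)
    (hdim : topologicalKrullDim X = r)
    (hm : Nat.card (irreducibleComponents ↑(pullback (ι ≫ CohB1.ProjSpace.toSpec n k)
        (Spec.map (CommRingCat.ofHom (algebraMap k (AlgebraicClosure k)))))) = m)
    (hdeg : deg ι r = d) :
    0 < m ∧ ∃ d' : ℕ, d = m * d' ∧ ∀ (A : ℝ), (∀ (k : Type u) [Field k] [Finite k] (X : Scheme.{u})
      (ι : X ⟶ CohB1.ProjSpace n k) [IsClosedImmersion ι] [IsReduced X]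
      [GeometricallyIrreducible (ι ≫ CohB1.ProjSpace.toSpec n k)],
      topologicalKrullDim X = r → deg ι r = d' →
        |(SgaExt.pointCount (ι ≫ CohB1.ProjSpace.toSpec n k) k : ℝ) - (Nat.card k : ℝ) ^ r| ≤
          ((d' : ℝ) - 1) * ((d' : ℝ) - 2) * (Nat.card k : ℝ) ^ ((r : ℝ) - 1 / 2) +
            A * (Nat.card k : ℝ) ^ ((r : ℝ) - 1)) →
      ∀ (k' : Type u) [Field k'] [Algebra k k'] [Finite k'],
        (m ∣ Module.finrank k k' →
          |(SgaExt.pointCount (ι ≫ CohB1.ProjSpace.toSpec n k) k' : ℝ) - m * (Nat.card k' : ℝ) ^ r| ≤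
            m * (((d' : ℝ) - 1) * ((d' : ℝ) - 2) * (Nat.card k' : ℝ) ^ ((r : ℝ) - 1 / 2) +
              A * (Nat.card k' : ℝ) ^ ((r : ℝ) - 1))) ∧
        (¬ m ∣ Module.finrank k k' →
          SgaExt.pointCount (ι ≫ CohB1.ProjSpace.toSpec n k) k' = 0) := by
  classical
  have hp0 : IsProper (CohB1.ProjSpace.toSpec n k) := Groth.Agent.Ega3B.ProjProper.isProper_toSpec n k
  have hproper : IsProper (ι ≫ CohB1.ProjSpace.toSpec n k) := inferInstance
  let _ : Algebra k X.functionField := (ffHom (ι ≫ CohB1.ProjSpace.toSpec n k)).toAlgebra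
  have hf : algebraMap k X.functionField = ffHom (ι ≫ CohB1.ProjSpace.toSpec n k) := rfl
  have hN : ∀ x : X, IsIntegrallyClosed (X.presheaf.stalk x) := fun x =>
    (Groth.Agent.Dix.NormalLoc.stalk_of_smooth (ι ≫ CohB1.ProjSpace.toSpec n k) x).2
  have hfd := finite_const (ι ≫ CohB1.ProjSpace.toSpec n k) hf
  have hmκ := natCard_components (ι ≫ CohB1.ProjSpace.toSpec n k) hf
  rw [hm] at hmκ
  obtain ⟨g, hg, -, hgirr⟩ := exists_constHom (ι ≫ CohB1.ProjSpace.toSpec n k) hf hN
  have hκfin : Finite (separableClosure k X.functionField) := Module.finite_of_finite k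
  refine ⟨by rw [hmκ]; exact Module.finrank_pos, ?_⟩
  obtain ⟨d', hd', hA⟩ := piece ι g hg r hdim d m hdeg hmκ.symm
  refine ⟨d', hd', fun A hA' k' _ _ _ => ?_⟩
  have hA'' := hA A hA' k'
  have hfin : Fintype (separableClosure k X.functionField →ₐ[k] k') := Fintype.ofFinite _
  have hsum := pointCount_eq_sum hg k'
  constructor
  · intro hdvd
    have hcard : Nat.card (separableClosure k X.functionField →ₐ[k] k') = m := by
      rw [hmκ]
      rw [hmκ] at hdvd
      exact FiniteField.natCard_algHom_of_finrank_dvd hdvd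
    rw [Nat.card_eq_fintype_card] at hcard
    have h1 : (SgaExt.pointCount (ι ≫ CohB1.ProjSpace.toSpec n k) k' : ℝ) -
        m * (Nat.card k' : ℝ) ^ r = ∑ σ : separableClosure k X.functionField →ₐ[k] k',
          ((SgaExt.pointCount (pullback.snd g (Spec.map (CommRingCat.ofHom
            (σ : separableClosure k X.functionField →+* k')))) k' : ℝ) - (Nat.card k' : ℝ) ^ r) := by
      rw [Finset.sum_sub_distrib, hsum, Nat.cast_sum, Finset.sum_const, Finset.card_univ, hcard,
        nsmul_eq_mul]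
    rw [h1]
    refine (Finset.abs_sum_le_sum_abs _ _).trans ((Finset.sum_le_sum fun σ _ => hA'' _).trans ?_)
    rw [Finset.sum_const, Finset.card_univ, hcard, nsmul_eq_mul]
  · intro hdvd
    rw [hsum]
    have : IsEmpty (separableClosure k X.functionField →ₐ[k] k') := by
      rw [← not_nonempty_iff, FiniteField.nonempty_algHom_iff_finrank_dvd, ← hmκ]
      exact hdvd
    exact Fintype.sum_empty _

/-- **S13078 from S13073.** -/
theorem main (H : SharpProj.{u}) (n d r : ℕ) (hd : 0 < d) :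
    ∃ c : ℝ, 0 < c ∧ ∀ (k : Type u) [Field k] [Finite k] (X : Scheme.{u})
      (ι : X ⟶ CohB1.ProjSpace n k) [IsClosedImmersion ι] [IsIntegral X]
      [Smooth (ι ≫ CohB1.ProjSpace.toSpec n k)] (m : ℕ),
      topologicalKrullDim X = r →
      Nat.card (irreducibleComponents ↑(pullback (ι ≫ CohB1.ProjSpace.toSpec n k)
        (Spec.map (CommRingCat.ofHom (algebraMap k (AlgebraicClosure k)))))) = m →
      letI : X.Over (Spec (CommRingCat.of k)) := ⟨ι ≫ CohB1.ProjSpace.toSpec n k⟩
      FGA.intNum k X r (fun _ : Fin r => (Scheme.Modules.pullback ι).obj (Twist.twistProjSpace n k (-1)))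
          (Coh.structureModule X) = d →
        ∀ (k' : Type u) [Field k'] [Algebra k k'] [Finite k'],
          (m ∣ Module.finrank k k' →
            |(SgaExt.pointCount (ι ≫ CohB1.ProjSpace.toSpec n k) k' : ℝ) -
                m * (Nat.card k : ℝ) ^ (Module.finrank k k' * r)| ≤
              (((d : ℝ) - m) * ((d : ℝ) - 2 * m) / m) *
                  (Nat.card k : ℝ) ^ ((Module.finrank k k' : ℝ) * ((r : ℝ) - 1 / 2)) +
                c * (Nat.card k : ℝ) ^ ((Module.finrank k k' : ℝ) * ((r : ℝ) - 1))) ∧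
          (¬ m ∣ Module.finrank k k' →
            SgaExt.pointCount (ι ≫ CohB1.ProjSpace.toSpec n k) k' = 0) := by
  have hH : ∀ d' : ℕ, ∃ A : ℝ, 0 < A ∧ (0 < d' → ∀ (k : Type u) [Field k] [Finite k] (X : Scheme.{u})
      (ι : X ⟶ CohB1.ProjSpace n k) [IsClosedImmersion ι] [IsReduced X]
      [GeometricallyIrreducible (ι ≫ CohB1.ProjSpace.toSpec n k)],
      topologicalKrullDim X = r → deg ι r = d' →
        |(SgaExt.pointCount (ι ≫ CohB1.ProjSpace.toSpec n k) k : ℝ) - (Nat.card k : ℝ) ^ r| ≤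
          ((d' : ℝ) - 1) * ((d' : ℝ) - 2) * (Nat.card k : ℝ) ^ ((r : ℝ) - 1 / 2) +
            A * (Nat.card k : ℝ) ^ ((r : ℝ) - 1)) := by
    intro d'
    by_cases h : 0 < d'
    · obtain ⟨A, hA, h1⟩ := H n d' r h
      exact ⟨A, hA, fun _ => h1⟩
    · exact ⟨1, one_pos, fun h' => absurd h' h⟩
  choose A hA0 hA using hH
  refine ⟨1 + d * ∑ d' ∈ Finset.range (d + 1), A d', ?_, ?_⟩
  · have : 0 ≤ ∑ d' ∈ Finset.range (d + 1), A d' := Finset.sum_nonneg fun i _ => (hA0 i).le
    positivity
  intro k _ _ X ι _ _ _ m hdim hm hdeg k' _ _ _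
  obtain ⟨hm0, d', hd', h1⟩ := main_one ι r m d hdim hm hdeg
  have hd'0 : 0 < d' := Nat.pos_of_ne_zero fun h => by
    rw [h, mul_zero] at hd'
    omega
  obtain ⟨h2, h3⟩ := h1 (A d') (hA d' hd'0) k'
  refine ⟨fun hdvd => ?_, h3⟩
  have h4 := h2 hdvd
  have hq : (Nat.card k' : ℝ) = (Nat.card k : ℝ) ^ (Module.finrank k k' : ℝ) := by
    rw [Module.natCard_eq_pow_finrank (K := k) (V := k')]
    push_cast
    rw [Real.rpow_natCast]
  have hq0 : (0 : ℝ) ≤ Nat.card k := Nat.cast_nonneg _
  have hr1 : (Nat.card k' : ℝ) ^ r = (Nat.card k : ℝ) ^ (Module.finrank k k' * r) := by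
    rw [hq, Real.rpow_natCast, ← pow_mul]
  rw [hr1, hq, ← Real.rpow_mul hq0, ← Real.rpow_mul hq0] at h4
  refine h4.trans ?_
  have hm1 : (m : ℝ) ≠ 0 := by exact_mod_cast hm0.ne'
  have hd1 : (d : ℝ) = m * d' := by exact_mod_cast hd'
  have e1 : ((d : ℝ) - m) * ((d : ℝ) - 2 * m) / m = m * (((d' : ℝ) - 1) * ((d' : ℝ) - 2)) := by
    rw [hd1]
    field_simp
  have hmd : m ≤ d := by
    rw [hd']
    exact Nat.le_mul_of_pos_right m hd'0
  have hdd : d' ≤ d := by
    rw [hd']
    exact Nat.le_mul_of_pos_left d' hm0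
  have h5 : A d' ≤ ∑ d' ∈ Finset.range (d + 1), A d' :=
    Finset.single_le_sum (f := A) (fun i _ => (hA0 i).le) (Finset.mem_range.mpr (by omega))
  have h6 : (m : ℝ) ≤ d := by exact_mod_cast hmd
  have h7 : (m : ℝ) * A d' ≤ 1 + d * ∑ d' ∈ Finset.range (d + 1), A d' := by
    have := mul_le_mul h6 h5 (hA0 d').le (Nat.cast_nonneg d)
    linarith
  have h8 : (0 : ℝ) ≤ (Nat.card k : ℝ) ^ ((Module.finrank k k' : ℝ) * ((r : ℝ) - 1)) := by
    positivity
  have h9 := mul_le_mul_of_nonneg_right h7 h8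
  rw [e1]
  refine le_trans (le_of_eq ?_) (add_le_add_right h9 _)
  ring

end Main

end K468.SharpNormal
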