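import Groth.Agent.Zeta.K468.Lower
import Groth.Agent.Zeta.K468.Const
import Groth.Agent.Zeta.K468.LWComp

/-!
# Divergence below the dimension: vertical case
-/

set_option autoImplicit false
universe u

open Filter Topology Module

namespace K468.Arith

open K468.EP K468.Cnt

/-- For a domain of finite type over a finite field, of dimension `r`, the logarithm of the
zeta function diverges at every `σ < r`. -/
theorem diverge_of_finiteField (k : Type u) [Field k] [Finite k] (B : Type u) [CommRing B]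
    [IsDomain B] [Algebra k B] [Algebra.FiniteType k B] [Algebra.FiniteType ℤ B] (r : ℕ)
    (hr : ringKrullDim B = r) (σ : ℝ) (hσ : σ < r) :
    ¬ Summable fun n : ℕ => cN (nm B) n * (n : ℝ) ^ (-σ) := by
  intro hsum
  have hfd := finite_const k B (FractionRing B)
  obtain ⟨C, hC, H⟩ := N_const k B (FractionRing B) hr
  set m := finrank k (separableClosure k (FractionRing B)) with hm
  have hm0 : 0 < m := finrank_pos
  obtain ⟨p, f, hp, hf, hq⟩ : ∃ p f : ℕ, p.Prime ∧ 0 < f ∧ Nat.card k = p ^ f := by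
    have := Fintype.ofFinite k
    obtain ⟨p, f, hp, hf, h⟩ := FiniteField.isPrimePow_card k
    exact ⟨p, f, Nat.prime_iff.mpr hp, hf, by rw [Nat.card_eq_fintype_card, h]⟩
  have : Fact p.Prime := ⟨hp⟩
  have hq2 : 2 ≤ Nat.card k := Finite.one_lt_card
  have hq2' : (2 : ℝ) ≤ Nat.card k := by exact_mod_cast hq2
  set q : ℝ := (Nat.card k : ℝ) with hqdef
  have hnn : ∀ n : ℕ, 0 ≤ cN (nm B) n * (n : ℝ) ^ (-σ) := fun n =>
    mul_nonneg (cN_nonneg _ _) (Real.rpow_nonneg (Nat.cast_nonneg _) _)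
  set S := ∑' n : ℕ, cN (nm B) n * (n : ℝ) ^ (-σ) with hS
  have hle : ∀ n : ℕ, cN (nm B) n * (n : ℝ) ^ (-σ) ≤ S := fun n =>
    hsum.le_tsum n fun j _ => hnn j
  have hS0 : 0 ≤ S := tsum_nonneg hnn
  set δ : ℝ := r - σ with hδ
  have hδ0 : 0 < δ := by rw [hδ]; linarith
  set c : ℝ := q ^ (-δ) with hc
  have hc0 : 0 < c := Real.rpow_pos_of_pos (by linarith) _
  have hc1 : c < 1 := Real.rpow_lt_one_of_one_lt_of_neg (by linarith) (by linarith)
  -- the key inequality
  have key : ∀ e : ℕ, 1 ≤ e → m ∣ e → C ≤ Real.sqrt (q ^ e) / 2 → 1 ≤ 2 * f * S * (e * c ^ e) := by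
    intro e he hme hCe
    obtain ⟨F, _, _, _, hF1, hF2⟩ := K468.Comp.exists_ext k e he
    have h1 := (H F).1 (by rw [hF1]; exact hme)
    have hFq : (Nat.card F : ℝ) = q ^ e := by rw [hF2]; push_cast; rfl
    have hFp : Nat.card F = p ^ (f * e) := by rw [hF2, hq, pow_mul]
    have h2 := cN_nm B F p (f * e) hFp
    have h3 : (N B (algebraMap k F) : ℝ) ≤ Nat.card (B →+* F) := by
      have hfin : Finite (B →+* F) :=
        Groth.Agent.UnramA.MonoEndo.finite_ringHom_of_finiteType_int B F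
      have : N B (algebraMap k F) ≤ Nat.card (B →+* F) :=
        Nat.card_le_card_of_injective (fun ψ => ψ.1) Subtype.val_injective
      exact_mod_cast this
    have hQ1 : 1 ≤ q ^ e := one_le_pow₀ (by linarith)
    have hsq : 0 < Real.sqrt (q ^ e) := Real.sqrt_pos.mpr (by linarith)
    have h4 : (1 / 2 : ℝ) * (q ^ e) ^ r ≤ Nat.card (B →+* F) := by
      refine le_trans ?_ h3
      have h5 := (abs_le.mp h1).1
      rw [hFq] at h5
      have h6 : C * ((q ^ e) ^ r / Real.sqrt (q ^ e)) ≤ (q ^ e) ^ r / 2 := by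
        rw [mul_div_assoc', div_le_iff₀ hsq]
        have h7 : 0 ≤ (q ^ e) ^ r := by positivity
        nlinarith
      have h8 : (1 : ℝ) ≤ m := by exact_mod_cast hm0
      have h9 : 0 ≤ (q ^ e) ^ r := by positivity
      nlinarith
    have h5 := hle (Nat.card F)
    rw [hFq] at h5
    have h6 : (q ^ e) ^ r * (q ^ e) ^ (-σ) * c ^ e = 1 := by
      have hq0 : 0 < q := by linarith
      rw [hc, ← Real.rpow_natCast (q ^ e) r, ← Real.rpow_natCast q e, ← Real.rpow_mul hq0.le,
        ← Real.rpow_mul hq0.le, ← Real.rpow_natCast (q ^ (-δ)) e, ← Real.rpow_mul hq0.le,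
        ← Real.rpow_add hq0, ← Real.rpow_add hq0]
      have : (e : ℝ) * r + e * -σ + -δ * e = 0 := by rw [hδ]; ring
      rw [this, Real.rpow_zero]
    have h7 : (0 : ℝ) ≤ (q ^ e) ^ (-σ) := Real.rpow_nonneg (by positivity) _
    have h8 : (1 / 2 : ℝ) * (q ^ e) ^ r * (q ^ e) ^ (-σ) ≤ f * e * S := by
      refine (mul_le_mul_of_nonneg_right h4 h7).trans ?_
      rw [← h2]
      push_cast
      have h9 : (0 : ℝ) ≤ f * e := by positivity
      calc cN (nm B) (Nat.card F) * (f * e) * (q ^ e) ^ (-σ) =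
          (f * e) * (cN (nm B) (Nat.card F) * (q ^ e) ^ (-σ)) := by ring
        _ ≤ _ := mul_le_mul_of_nonneg_left h5 h9
    have h9 : (0 : ℝ) ≤ c ^ e := by positivity
    have h10 := mul_le_mul_of_nonneg_right h8 h9
    calc (1 : ℝ) = 2 * (1 / 2 * (q ^ e) ^ r * (q ^ e) ^ (-σ) * c ^ e) := by
          rw [show (2 : ℝ) * (1 / 2 * (q ^ e) ^ r * (q ^ e) ^ (-σ) * c ^ e) =
            (q ^ e) ^ r * (q ^ e) ^ (-σ) * c ^ e by ring, h6]
      _ ≤ 2 * (f * e * S * c ^ e) := mul_le_mul_of_nonneg_left h10 (by norm_num)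
      _ = _ := by ring
  -- contradiction
  have hlim : Tendsto (fun e : ℕ => 2 * f * S * ((e : ℝ) * c ^ e)) atTop (𝓝 (2 * f * S * 0)) :=
    (tendsto_self_mul_const_pow_of_lt_one hc0.le hc1).const_mul _
  rw [mul_zero] at hlim
  have h1 := hlim.eventually (gt_mem_nhds (zero_lt_one' ℝ))
  have h2 : Tendsto (fun e : ℕ => Real.sqrt (q ^ e) / 2) atTop atTop := by
    have : Tendsto (fun e : ℕ => q ^ e) atTop atTop := tendsto_pow_atTop_atTop_of_one_lt (by linarith)
    exact (Real.tendsto_sqrt_atTop.comp this).atTop_div_const (by norm_num)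
  have h3 := h2.eventually (eventually_ge_atTop C)
  obtain ⟨e₀, he₀⟩ := ((h1.and h3).and (eventually_ge_atTop 1)).exists_forall_of_atTop
  have h4 := he₀ (m * (e₀ + 1)) (by nlinarith)
  have h5 := key (m * (e₀ + 1)) h4.2 (dvd_mul_right _ _) h4.1.2
  exact absurd h4.1.1 (not_lt.mpr h5)

end K468.Arith
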