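import Groth.Agent.Zeta.K468.Pts

/-!
# The abscissa of convergence of the zeta function of an arithmetic scheme
-/

set_option autoImplicit false
universe u v w

open CategoryTheory AlgebraicGeometry TopologicalSpace Topology

namespace K468.Arith

open K468.EP

theorem finiteType_ulift : Algebra.FiniteType ℤ (ULift.{u} ℤ) :=
  Algebra.FiniteType.of_surjective (Algebra.ofId ℤ (ULift.{u} ℤ)) fun x => ⟨x.down, by
    apply ULift.ext
    simp⟩

variable {X : Scheme.{u}} {R : Type u} [CommRing R] [Algebra.FiniteType ℤ R]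
  (t : X ⟶ Spec (CommRingCat.of R)) [LocallyOfFiniteType t] [QuasiCompact t]

include t

/-- The Euler product in logarithmic form, for `Re s > dim X`. -/
theorem LSeries_arithCoeff (r : ℕ) (hr : topologicalKrullDim X ≤ r) (s : ℂ) (hs : (r : ℝ) < s.re) :
    LSeriesSummable (Zeta.arithCoeff X) s ∧ LSeriesSummable (fun n => (cN (nX X) n : ℂ)) s ∧
      LSeries (Zeta.arithCoeff X) s = Complex.exp (LSeries (fun n => (cN (nX X) n : ℂ)) s) := by
  obtain ⟨σ, h1, h2⟩ := exists_between hs
  have h0 : (0 : ℝ) ≤ r := Nat.cast_nonneg r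
  have hσ : 0 < σ := lt_of_le_of_lt h0 h1
  have hsum := summable_pt t r hr σ h1
  have hN := two_le_nX t
  rw [arithCoeff_eq]
  have a1 := LSeries_aN hN hσ hsum h2.le
  have a2 := LSeries_aN_eq_exp hN hσ hsum h2.le
  exact ⟨a1.1, a2.1, a2.2⟩

theorem abscissa_le (r : ℕ) (hr : topologicalKrullDim X ≤ r) :
    LSeries.abscissaOfAbsConv (Zeta.arithCoeff X) ≤ (r : ℝ) ∧
      ∀ s : ℂ, (r : ℝ) < s.re → LSeries (Zeta.arithCoeff X) s ≠ 0 := by
  constructor
  · refine LSeries.abscissaOfAbsConv_le_of_forall_lt_LSeriesSummable fun y hy => ?_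
    exact (LSeries_arithCoeff t r hr (y : ℂ) (by simpa using hy)).1
  · intro s hs
    rw [(LSeries_arithCoeff t r hr s hs).2.2]
    exact Complex.exp_ne_zero _

end K468.Arith
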