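import Groth.Agent.MiscA.ZetaAbsCx
import Mathlib.RingTheory.PowerSeries.Substitution
import Mathlib.RingTheory.PowerSeries.Exp
import Mathlib.RingTheory.PowerSeries.Derivative
import Mathlib.RingTheory.PowerSeries.Inverse

/-!
# Exponentials of power series over `ℚ` via logarithmic derivatives
-/

set_option autoImplicit false

namespace K468.PS

open PowerSeries Groth.Agent.MiscA.ZetaAbsCx

/-- A power series with constant coefficient `1` over `ℚ` is determined by its logarithmic derivative. -/
theorem LogD_eq {K : Type*} [Field K] [CharZero K] {f g v : K⟦X⟧} (hf : LogD f v) (hg : LogD g v)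
    (hf0 : constantCoeff f = 1) (hg0 : constantCoeff g = 1) : f = g := by
  have hg1 : g ≠ 0 := by rintro rfl; simp at hg0
  have hgi : g * g⁻¹ = 1 := PowerSeries.mul_inv_cancel g (by rw [hg0]; exact one_ne_zero)
  set h := f * g⁻¹ with hh
  have hfh : f = h * g := by rw [hh, mul_assoc, mul_comm g⁻¹, hgi, mul_one]
  have h1 : (X : K⟦X⟧) * derivative K h * g = 0 := by
    have h2 := hf
    unfold LogD at h2 hg
    rw [hfh, Derivation.leibniz, smul_eq_mul, smul_eq_mul, mul_add] at h2
    have h3 : (X : K⟦X⟧) * (h * derivative K g) = h * g * v := by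
      rw [mul_left_comm, hg]; ring
    rw [h3] at h2
    have h4 : (X : K⟦X⟧) * (g * derivative K h) = 0 := by simpa using h2
    rw [mul_assoc, mul_comm (derivative K h) g, h4]
  have h5 : derivative K h = 0 := by
    rcases mul_eq_zero.mp h1 with h6 | h6
    · rcases mul_eq_zero.mp h6 with h7 | h7
      · exact absurd h7 X_ne_zero
      · exact h7
    · exact absurd h6 hg1
  have h8 : h = 1 := by
    refine PowerSeries.derivative.ext (R := K) ?_ ?_
    · rw [h5, derivative_one]
    · have := congrArg constantCoeff hgi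
      rw [map_mul, hg0, one_mul, map_one] at this
      rw [hh, map_mul, hf0, this, one_mul, map_one]
  rw [hfh, h8, one_mul]

theorem logD_subst_exp (L : ℚ⟦X⟧) (hL : constantCoeff L = 0) :
    LogD (PowerSeries.subst L (PowerSeries.exp ℚ)) (X * derivative ℚ L) := by
  unfold LogD
  have hs : HasSubst L := HasSubst.of_constantCoeff_zero' hL
  rw [derivative_subst hs]
  have : derivative ℚ (PowerSeries.exp ℚ) = PowerSeries.exp ℚ := by
    ext n
    rw [coeff_derivative, coeff_exp, coeff_exp]
    simp only [Algebra.algebraMap_self, RingHom.id_apply, Nat.factorial_succ]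
    have : (n.factorial : ℚ) ≠ 0 := by exact_mod_cast n.factorial_ne_zero
    have : (n + 1 : ℚ) ≠ 0 := by positivity
    push_cast
    field_simp
  rw [this]
  ring

theorem constantCoeff_subst_exp (L : ℚ⟦X⟧) (hL : constantCoeff L = 0) :
    constantCoeff (PowerSeries.subst L (PowerSeries.exp ℚ)) = 1 := by
  have hs : HasSubst L := HasSubst.of_constantCoeff_zero' hL
  have h1 : PowerSeries.exp ℚ = 1 + (PowerSeries.exp ℚ - 1) := by ring
  rw [h1, subst_add hs, map_add]
  have h2 : PowerSeries.subst L (1 : ℚ⟦X⟧) = (1 : ℚ⟦X⟧) := by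
    rw [← coe_substAlgHom hs, map_one]
  rw [h2, map_one]
  have h3 : constantCoeff (PowerSeries.subst L (PowerSeries.exp ℚ - 1)) = 0 :=
    constantCoeff_subst_eq_zero hL _ (by simp)
  rw [h3, add_zero]

end K468.PS
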