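import Groth.Prelude.Def_W4c1zetahwZeta
import Groth.Agent.MiscA.WCCount
import Groth.Agent.Zeta.K468.PS
import Mathlib.AlgebraicGeometry.Morphisms.Immersion
import Mathlib.AlgebraicGeometry.AffineSpace
import Mathlib.AlgebraicGeometry.Morphisms.ClosedImmersion

/-!
# Zeta functions of schemes over a finite field: basic properties
-/

set_option autoImplicit false
universe u
open CategoryTheory AlgebraicGeometry

namespace K468.Basic

open Groth.Agent.MiscA PowerSeries

theorem finrank_eq_of_bijective {A B C D : Type*} [Field A] [Field B] [Field C] [Field D]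
    (a : A →+* B) (i : A →+* C) (hi : Function.Bijective i) (j : D →+* B) (hj : Function.Bijective j)
    (b : C →+* D) (h : a = j.comp (b.comp i)) :
    (letI := a.toAlgebra; Module.finrank A B) = (letI := b.toAlgebra; Module.finrank C D) := by
  let _ := a.toAlgebra
  let _ := b.toAlgebra
  let ei : A ≃+* C := RingEquiv.ofBijective i hi
  let ej : D ≃+* B := RingEquiv.ofBijective j hj
  refine Algebra.finrank_eq_of_equiv_equiv ei ej.symm ?_
  ext x
  change b (i x) = ej.symm (a x)
  rw [RingEquiv.eq_symm_apply, h]
  rfl

section Field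

variable {k : Type u} [Field k] {X : Scheme.{u}} (f : X ⟶ Spec (CommRingCat.of k))

/-- The residue field of the point of `Spec k`. -/
theorem bijective_resHom_id (y : Spec (CommRingCat.of k)) :
    Function.Bijective (PointCount.resHom (𝟙 (Spec (CommRingCat.of k))) y) := by
  let i := PointCount.resHom (𝟙 (Spec (CommRingCat.of k))) y
  have h2 : IsClosedImmersion ((Spec (CommRingCat.of k)).fromSpecResidueField y) := by
    rw [← isClosed_singleton_iff_isClosedImmersion]
    exact isClosed_discrete _
  have h3 : IsClosedImmersion (Spec.map (CommRingCat.ofHom i)) := by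
    rw [PointCount.spec_map_resHom, Category.comp_id]; exact h2
  have h4 : Surjective (Spec.map (CommRingCat.ofHom i)) :=
    ⟨fun z => ⟨IsLocalRing.closedPoint _, Subsingleton.elim _ _⟩⟩
  have h5 : IsIso (Spec.map (CommRingCat.ofHom i)) := isIso_of_isClosedImmersion_of_surjective _
  have h6 : IsIso (CommRingCat.ofHom i) := by
    have h7 : IsIso (Scheme.Spec.map (CommRingCat.ofHom i).op) := h5
    have := isIso_of_reflects_iso (CommRingCat.ofHom i).op Scheme.Spec
    exact isIso_of_op _
  exact ConcreteCategory.bijective_of_isIso (CommRingCat.ofHom i)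

/-- Functoriality of the map `k → κ(x)`. -/
theorem resHom_comp {Y : Scheme.{u}} (g : Y ⟶ X) (y : Y) :
    PointCount.resHom (g ≫ f) y = (g.residueFieldMap y).hom.comp (PointCount.resHom f (g y)) := by
  have h1 : Spec.map (CommRingCat.ofHom (PointCount.resHom (g ≫ f) y)) =
      Spec.map (CommRingCat.ofHom ((g.residueFieldMap y).hom.comp (PointCount.resHom f (g y)))) := by
    rw [PointCount.spec_map_resHom, CommRingCat.ofHom_comp, Spec.map_comp,
      PointCount.spec_map_resHom, CommRingCat.ofHom_hom,
      Scheme.Hom.SpecMap_residueFieldMap_fromSpecResidueField_assoc]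
  exact congrArg CommRingCat.Hom.hom (Spec.map_injective h1)

/-- The residue degree over the base point is the degree over the base field. -/
theorem residueDegree_eq_degree (x : X) :
    EGA4loc.residueDegree f x = PointCount.degree f x := by
  unfold EGA4loc.residueDegree PointCount.degree
  symm
  have hcomp : PointCount.resHom f x = (f.residueFieldMap x).hom.comp
      (PointCount.resHom (𝟙 (Spec (CommRingCat.of k))) (f x)) := by
    rw [← resHom_comp, Category.comp_id]
  exact finrank_eq_of_bijective (PointCount.resHom f x)
    (PointCount.resHom (𝟙 (Spec (CommRingCat.of k))) (f x)) (bijective_resHom_id _)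
    (RingHom.id _) Function.bijective_id (f.residueFieldMap x).hom hcomp

theorem residueFieldMap_bijective {X Y : Scheme.{u}} (g : Y ⟶ X) [SurjectiveOnStalks g] (y : Y) :
    Function.Bijective (g.residueFieldMap y) := by
  refine ⟨(g.residueFieldMap y).hom.injective, ?_⟩
  intro a
  obtain ⟨b, rfl⟩ := Y.residue_surjective y a
  obtain ⟨c, rfl⟩ := g.stalkMap_surjective y b
  exact ⟨X.residue (g y) c, rfl⟩

theorem degree_comp {Y : Scheme.{u}} (g : Y ⟶ X) [SurjectiveOnStalks g] (y : Y) :
    PointCount.degree (g ≫ f) y = PointCount.degree f (g y) := by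
  unfold PointCount.degree
  symm
  exact finrank_eq_of_bijective (PointCount.resHom f (g y)) (RingHom.id _) Function.bijective_id
    (RingEquiv.ofBijective _ (residueFieldMap_bijective g y)).symm.toRingHom
    (RingEquiv.ofBijective _ (residueFieldMap_bijective g y)).symm.bijective
    (PointCount.resHom (g ≫ f) y) (by
      rw [resHom_comp]
      ext a
      exact ((RingEquiv.ofBijective _ (residueFieldMap_bijective g y)).symm_apply_apply _).symm)

theorem isClosed_iff_degree_pos [LocallyOfFiniteType f] (x : X) :
    IsClosed ({x} : Set X) ↔ 0 < PointCount.degree f x :=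
  ⟨WCCount.degree_pos f x, WCCount.isClosed_of_degree_pos f x⟩

theorem degCount_eq_ncard [LocallyOfFiniteType f] (e : ℕ) (he : 0 < e) :
    Zeta.degCount f e = Set.ncard {x : X | PointCount.degree f x = e} := by
  unfold Zeta.degCount
  rw [← Nat.card_coe_set_eq]
  refine Nat.card_congr (Equiv.subtypeEquivRight fun x => ?_)
  rw [residueDegree_eq_degree, isClosed_iff_degree_pos f]
  constructor
  · exact fun h => h.2
  · exact fun h => ⟨by rw [show PointCount.degree f x = e from h]; exact he, h⟩

theorem pointCount_eq_nPts [Finite k] [LocallyOfFiniteType f] [QuasiCompact f]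
    (k' : Type u) [Field k'] [Algebra k k'] [Finite k'] :
    SgaExt.pointCount f k' = Zeta.nPts f (Module.finrank k k') := by
  rw [PointCount.pointCount_eq, Zeta.nPts]
  refine Finset.sum_congr rfl fun d hd => ?_
  rw [degCount_eq_ncard f d (Nat.pos_of_mem_divisors hd)]

theorem constantCoeff_logZeta : PowerSeries.constantCoeff (Zeta.logZeta f) = 0 := by
  rw [← PowerSeries.coeff_zero_eq_constantCoeff_apply, Zeta.logZeta, PowerSeries.coeff_mk]
  simp

theorem X_mul_derivative_logZeta : (PowerSeries.X : ℚ⟦X⟧) * PowerSeries.derivative ℚ (Zeta.logZeta f) =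
    PowerSeries.mk fun m => (Zeta.nPts f m : ℚ) := by
  ext n
  rcases n with _ | n
  · simp [Zeta.nPts]
  · rw [PowerSeries.coeff_succ_X_mul, PowerSeries.coeff_derivative, Zeta.logZeta,
      PowerSeries.coeff_mk, PowerSeries.coeff_mk]
    have : (n + 1 : ℚ) ≠ 0 := by positivity
    push_cast
    field_simp

theorem logD_zetaFun : ZetaAbsCx.LogD (Zeta.zetaFun f) (PowerSeries.mk fun m => (Zeta.nPts f m : ℚ)) := by
  rw [← X_mul_derivative_logZeta]
  exact PS.logD_subst_exp _ (constantCoeff_logZeta f)

theorem constantCoeff_zetaFun : PowerSeries.constantCoeff (Zeta.zetaFun f) = 1 :=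
  PS.constantCoeff_subst_exp _ (constantCoeff_logZeta f)

end Field

end K468.Basic
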