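import Groth.Agent.Zeta.K468.LangWeil
import Groth.Agent.VarietyA.SepGen

/-!
# Lang–Weil for a geometrically integral generic fibre
-/

set_option autoImplicit false
universe u v w

open IntermediateField
open scoped TensorProduct

namespace K468.Cnt

/-- If `Ω ⊗ D` is a domain then so is `Ω ⊗ Frac D`. -/
theorem isDomain_tensor_frac {K D L Ω : Type*} [Field K] [CommRing D] [IsDomain D] [Algebra K D]
    [Field L] [Algebra K L] [Algebra D L] [IsScalarTower K D L] [IsFractionRing D L] [Field Ω]
    [Algebra K Ω] [h : IsDomain (Ω ⊗[K] D)] : IsDomain (Ω ⊗[K] L) := by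
  let φ : Ω ⊗[K] D →ₐ[Ω] Ω ⊗[K] L :=
    Algebra.TensorProduct.map (AlgHom.id Ω Ω) (IsScalarTower.toAlgHom K D L)
  have hφ : Function.Injective φ := Module.Flat.lTensor_preserves_injective_linearMap (M := Ω)
    (IsScalarTower.toAlgHom K D L).toLinearMap (IsFractionRing.injective D L)
  have hφt : ∀ a d, φ (a ⊗ₜ d) = a ⊗ₜ (algebraMap D L d) := fun a d => by
    simp [φ]
  have key : ∀ z : Ω ⊗[K] L, ∃ (d : D) (w : Ω ⊗[K] D), d ≠ 0 ∧
      ((1 : Ω) ⊗ₜ[K] algebraMap D L d) * z = φ w := by
    intro z
    induction z using TensorProduct.induction_on with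
    | zero => exact ⟨1, 0, one_ne_zero, by rw [mul_zero, map_zero]⟩
    | tmul a l =>
      obtain ⟨n, d, hd, rfl⟩ := IsFractionRing.div_surjective (A := D) l
      have hd0 : d ≠ 0 := nonZeroDivisors.ne_zero hd
      have hd1 : algebraMap D L d ≠ 0 :=
        (map_ne_zero_iff _ (IsFractionRing.injective D L)).mpr hd0
      refine ⟨d, a ⊗ₜ n, hd0, ?_⟩
      rw [hφt, Algebra.TensorProduct.tmul_mul_tmul, one_mul]
      congr 1
      field_simp
    | add z z' ih ih' =>
      obtain ⟨d, w, hd, hw⟩ := ih
      obtain ⟨d', w', hd', hw'⟩ := ih'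
      refine ⟨d * d', (1 ⊗ₜ d') * w + (1 ⊗ₜ d) * w', mul_ne_zero hd hd', ?_⟩
      simp only [map_add, map_mul, hφt]
      rw [← hw, ← hw']
      have : (1 : Ω) ⊗ₜ[K] (algebraMap D L d * algebraMap D L d') =
          ((1 : Ω) ⊗ₜ[K] algebraMap D L d) * ((1 : Ω) ⊗ₜ[K] algebraMap D L d') := by
        rw [Algebra.TensorProduct.tmul_mul_tmul, one_mul]
      rw [this]
      ring
  have unit : ∀ d : D, d ≠ 0 → IsUnit ((1 : Ω) ⊗ₜ[K] algebraMap D L d) := by
    intro d hd
    have hd1 : algebraMap D L d ≠ 0 :=
      (map_ne_zero_iff _ (IsFractionRing.injective D L)).mpr hd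
    refine IsUnit.of_mul_eq_one ((1 : Ω) ⊗ₜ[K] (algebraMap D L d)⁻¹) ?_
    rw [Algebra.TensorProduct.tmul_mul_tmul, one_mul, mul_inv_cancel₀ hd1]
    rfl
  have nt : Nontrivial (Ω ⊗[K] L) := hφ.nontrivial
  have nzd : NoZeroDivisors (Ω ⊗[K] L) := by
    refine ⟨fun {z z'} hz => ?_⟩
    obtain ⟨d, w, hd, hw⟩ := key z
    obtain ⟨d', w', hd', hw'⟩ := key z'
    have h1 : φ (w * w') = 0 := by
      rw [map_mul, ← hw, ← hw']
      have : ((1 : Ω) ⊗ₜ[K] algebraMap D L d) * z * (((1 : Ω) ⊗ₜ[K] algebraMap D L d') * z') =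
        (((1 : Ω) ⊗ₜ[K] algebraMap D L d) * ((1 : Ω) ⊗ₜ[K] algebraMap D L d')) * (z * z') := by ring
      rw [this, hz, mul_zero]
    have h2 : w * w' = 0 := hφ (by rw [h1, map_zero])
    rcases mul_eq_zero.mp h2 with h3 | h3
    · left
      rw [h3, map_zero] at hw
      exact (unit d hd).mul_right_eq_zero.mp hw
    · right
      rw [h3, map_zero] at hw'
      exact (unit d' hd').mul_right_eq_zero.mp hw'
  exact NoZeroDivisors.to_isDomain _

/-- If `K̄ ⊗ L` is a domain then `K` is algebraically closed in `L`. -/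
theorem mem_range_of_isDomain_tensor {K L : Type*} [Field K] [Field L] [Algebra K L]
    [h : IsDomain (AlgebraicClosure K ⊗[K] L)] (a : L) (ha : IsIntegral K a) :
    a ∈ (algebraMap K L).range := by
  have fd : FiniteDimensional K K⟮a⟯ := adjoin.finiteDimensional ha
  let φ : AlgebraicClosure K ⊗[K] K⟮a⟯ →ₐ[AlgebraicClosure K] AlgebraicClosure K ⊗[K] L :=
    Algebra.TensorProduct.map (AlgHom.id _ _) (K⟮a⟯.val)
  have hφ : Function.Injective φ :=
    Module.Flat.lTensor_preserves_injective_linearMap (M := AlgebraicClosure K)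
      (K⟮a⟯.val).toLinearMap Subtype.val_injective
  have dom : IsDomain (AlgebraicClosure K ⊗[K] K⟮a⟯) :=
    Function.Injective.isDomain φ.toRingHom hφ
  have hbij := IsAlgClosed.algebraMap_bijective_of_isIntegral (k := AlgebraicClosure K)
    (K := AlgebraicClosure K ⊗[K] K⟮a⟯)
  have h1 : Module.finrank (AlgebraicClosure K) (AlgebraicClosure K ⊗[K] K⟮a⟯) = 1 := by
    rw [← (LinearEquiv.ofBijective (Algebra.linearMap (AlgebraicClosure K)
      (AlgebraicClosure K ⊗[K] K⟮a⟯)) hbij).finrank_eq, Module.finrank_self]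
  rw [Module.finrank_baseChange] at h1
  have h2 : a ∈ (⊥ : IntermediateField K L) := by
    rw [← IntermediateField.adjoin_simple_eq_bot_iff, ← IntermediateField.finrank_eq_one_iff]
    exact h1
  obtain ⟨b, hb⟩ := mem_bot.mp h2
  exact ⟨b, hb⟩

/-- Generic comparison of the counting functions of `A` and of its image in `Frac (K ⊗ A)`. -/
theorem N_eq_of_torsion {R : Type*} [CommRing R] (A B : Type*) [CommRing A] [CommRing B]
    [Algebra R A] [Algebra R B] [Algebra.FiniteType R A] (g : A →ₐ[R] B)
    (hg : Function.Surjective g) (h : R) (hh : ∀ a, g a = 0 → algebraMap R A h * a = 0)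
    (F : Type*) [Field F] [Finite F] (φ : R →+* F) (hφ : φ h ≠ 0) : N A φ = N B φ := by
  apply le_antisymm
  · have e : (A ⧸ RingHom.ker g) ≃ₐ[R] B := Ideal.quotientKerAlgEquivOfSurjective hg
    rw [← N_congr φ e]
    refine N_le_N_quotient φ A _ fun ψ hψ a ha => ?_
    have h1 := congrArg ψ (hh a ha)
    rw [map_mul, map_zero] at h1
    have h2 : ψ (algebraMap R A h) = φ h := RingHom.congr_fun hψ h
    rw [h2] at h1
    exact (mul_eq_zero.mp h1).resolve_left hφ
  · exact N_le_of_surjective φ g hg

/-- **Lang–Weil for a geometrically integral generic fibre** (relative to the plane curve bound). -/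
theorem LW_of_geom (hPC : PCB.{u}) {R : Type u} [CommRing R] [IsDomain R] [IsNoetherianRing R]
    (K : Type u) [Field K] [Algebra R K] [IsFractionRing R K] (A : Type u) [CommRing A]
    [Algebra R A] [Algebra.FiniteType R A] [hdom : IsDomain (AlgebraicClosure K ⊗[R] A)] (r : ℕ)
    (hr : ringKrullDim (K ⊗[R] A) = r) : LW.{u, u, u} R A r := by
  classical
  let D := K ⊗[R] A
  let Ω := AlgebraicClosure K
  have dΩD : IsDomain (Ω ⊗[K] D) :=
    (Algebra.TensorProduct.cancelBaseChange R K K Ω A).toMulEquiv.isDomain _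
  have dD : IsDomain D :=
    Function.Injective.isDomain (Algebra.TensorProduct.includeRight : D →ₐ[K] Ω ⊗[K] D).toRingHom
      (Algebra.TensorProduct.includeRight_injective (algebraMap K Ω).injective)
  let L := FractionRing D
  have inj : Function.Injective (algebraMap K L) := (algebraMap K L).injective
  have tKDL : IsScalarTower K D L := inferInstance
  have dΩL : IsDomain (Ω ⊗[K] L) := isDomain_tensor_frac (D := D)
  have ess : Algebra.EssFiniteType K L :=
    have : Algebra.EssFiniteType D L := .of_isLocalization _ (nonZeroDivisors D)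
    .comp K D L
  have hK : ∀ a : L, IsSeparable K a → a ∈ (algebraMap K L).range := fun a ha =>
    mem_range_of_isDomain_tensor a ha.isIntegral
  obtain ⟨s, hs, hsep⟩ := Groth.Agent.VarietyA.SepGen.exists_isTranscendenceBasis_isSeparable K L
    (inferInstance : IsReduced (Ω ⊗[K] L))
  -- the transcendence degree
  obtain ⟨n, hn1, hn2⟩ := Groth.Agent.Ega4B.DimFT.exists_dim K D
  have fKD : FaithfulSMul K D := (faithfulSMul_iff_algebraMap_injective _ _).mpr
    (algebraMap K D).injective
  have hcard : s.card = r := by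
    have h1 : (n : WithBot ℕ∞) = r := by rw [← hn2]; exact hr
    have h2 : n = r := by exact_mod_cast h1
    have h3 : Algebra.trdeg K L = n := by rw [← trdeg_of_frac (A := D)]; exact hn1
    have h4 := hs.lift_cardinalMk_eq_trdeg
    rw [h3] at h4
    have h5 : (s.card : Cardinal.{u}) = n := by simpa using h4
    rw [← h2]
    exact_mod_cast h5
  let e : Fin r ≃ s := (finCongr hcard.symm).trans s.equivFin.symm
  let v : Fin r → L := fun i => (e i : L)
  have hv : AlgebraicIndependent K v := hs.1.comp e e.injective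
  have hrange : Set.range v = (s : Set L) := by
    ext z
    constructor
    · rintro ⟨i, rfl⟩
      exact (e i).2
    · intro hz
      exact ⟨e.symm ⟨z, hz⟩, by simp [v]⟩
  have sep : Algebra.IsSeparable (adjoin K (Set.range v)) L := by rw [hrange]; exact hsep
  have fin : FiniteDimensional (adjoin K (Set.range v)) L := by
    have : Algebra.EssFiniteType (adjoin K (Set.range v)) L := .of_comp K _ _
    exact Algebra.finite_of_essFiniteType_of_isAlgebraic
  -- the image of `A`
  let _ : Algebra A D := Algebra.TensorProduct.rightAlgebra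
  let ι : A →ₐ[R] L := (IsScalarTower.toAlgHom R D L).comp
    (Algebra.TensorProduct.includeRight : A →ₐ[R] D)
  have hFG : ι.range.FG := by
    rw [Subalgebra.fg_iff_finiteType]
    exact Algebra.FiniteType.of_surjective ι.rangeRestrict ι.rangeRestrict_surjective
  have hfrac : ∀ x : L, ∃ a ∈ ι.range, ∃ b ∈ ι.range, b ≠ 0 ∧ x = a / b := by
    rw [frac_iff]
    set T := Subfield.closure (ι.range : Set L) with hT
    have hRT : ∀ c : R, algebraMap R L c ∈ T := fun c =>
      Subfield.subset_closure (ι.range.algebraMap_mem c)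
    have hKT : ∀ k : K, algebraMap K L k ∈ T := by
      intro k
      obtain ⟨a, b, _, rfl⟩ := IsFractionRing.div_surjective (A := R) k
      rw [map_div₀, ← IsScalarTower.algebraMap_apply, ← IsScalarTower.algebraMap_apply]
      exact div_mem (hRT a) (hRT b)
    have hDT : ∀ d : D, algebraMap D L d ∈ T := by
      intro d
      induction d using TensorProduct.induction_on with
      | zero => rw [map_zero]; exact T.zero_mem
      | tmul k a =>
        have h1 : (k ⊗ₜ[R] a : D) = algebraMap K D k * (1 ⊗ₜ[R] a) := by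
          rw [Algebra.TensorProduct.algebraMap_apply, Algebra.TensorProduct.tmul_mul_tmul]
          simp
        rw [h1, map_mul, ← IsScalarTower.algebraMap_apply]
        exact mul_mem (hKT k) (Subfield.subset_closure ⟨a, rfl⟩)
      | add x y hx hy => rw [map_add]; exact add_mem hx hy
    rw [eq_top_iff]
    intro z _
    obtain ⟨a, b, _, rfl⟩ := IsFractionRing.div_surjective (A := D) z
    exact div_mem (hDT a) (hDT b)
  have tRKL : IsScalarTower R K L := inferInstance
  obtain ⟨h₁, hh₁, C, hC, H⟩ := LW_of_sepGen hPC r (R := R) (K := K) hK v hv ι.range hFG hfrac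
  -- the torsion
  have nA : IsNoetherianRing A := Algebra.FiniteType.isNoetherianRing R A
  obtain ⟨t, ht⟩ := (isNoetherianRing_iff_ideal_fg A).mp nA (RingHom.ker ι)
  have htor : ∀ a : A, ι a = 0 → ∃ c : R, c ≠ 0 ∧ algebraMap R A c * a = 0 := by
    intro a ha
    have h1 : (1 : K) ⊗ₜ[R] a = (0 : D) := IsFractionRing.injective D L (by rw [map_zero]; exact ha)
    have h2 : algebraMap A D a = algebraMap A D 0 := by rw [map_zero]; exact h1
    have loc : IsLocalization (Algebra.algebraMapSubmonoid A (nonZeroDivisors R)) D := inferInstance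
    obtain ⟨⟨_, c, hc, rfl⟩, h3⟩ :=
      (IsLocalization.eq_iff_exists (Algebra.algebraMapSubmonoid A (nonZeroDivisors R)) D).mp h2
    exact ⟨c, nonZeroDivisors.ne_zero hc, by rw [mul_zero] at h3; exact h3⟩
  choose! c hc0 hc using htor
  let h₂ : R := ∏ a ∈ t, c a
  have hta : ∀ a ∈ t, ι a = 0 := fun a ha => by
    have : a ∈ RingHom.ker ι := ht ▸ Ideal.subset_span ha
    exact this
  have hh₂ : h₂ ≠ 0 := Finset.prod_ne_zero_iff.mpr fun a ha => hc0 a (hta a ha)
  have hkill : ∀ a, ι.rangeRestrict a = 0 → algebraMap R A h₂ * a = 0 := by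
    intro a ha
    have h1 : a ∈ Ideal.span (t : Set A) := by
      rw [ht]
      exact congrArg Subtype.val ha
    induction h1 using Submodule.span_induction with
    | mem x hx =>
      have h2 : h₂ = c x * ∏ a ∈ t.erase x, c a := (Finset.mul_prod_erase t c hx).symm
      rw [h2, map_mul, mul_right_comm, hc x (hta x hx), zero_mul]
    | zero => rw [mul_zero]
    | add x y hx hy ihx ihy =>
      have kx : ι x = 0 := by
        have : x ∈ RingHom.ker ι := ht ▸ hx
        exact this
      have ky : ι y = 0 := by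
        have : y ∈ RingHom.ker ι := ht ▸ hy
        exact this
      rw [mul_add, ihx (Subtype.ext kx), ihy (Subtype.ext ky), add_zero]
    | smul b x hx ihx =>
      have kx : ι x = 0 := by
        have : x ∈ RingHom.ker ι := ht ▸ hx
        exact this
      rw [smul_eq_mul, mul_left_comm, ihx (Subtype.ext kx), mul_zero]
  refine ⟨h₁ * h₂, mul_ne_zero hh₁ hh₂, C, hC, fun F _ _ φ hφ => ?_⟩
  rw [map_mul] at hφ
  rw [N_eq_of_torsion A ι.range ι.rangeRestrict ι.rangeRestrict_surjective h₂ hkill F φ
    (right_ne_zero_of_mul hφ)]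
  exact H F φ (left_ne_zero_of_mul hφ)

end K468.Cnt
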