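import Groth.Agent.Zeta.K468.CountOps
import Groth.Agent.Ega4B.DimFT
import Mathlib.RingTheory.AlgebraicIndependent.TranscendenceBasis

/-!
# Birational invariance of the counting function
-/

set_option autoImplicit false
universe u v w w'

open scoped TensorProduct nonZeroDivisors
open Algebra

namespace K468.Cnt

section Quot

variable {R A : Type u} [CommRing R] [IsDomain R] [CommRing A] [IsDomain A] [Algebra R A]
  [Algebra.FiniteType R A] [FaithfulSMul R A]

/-- The dimension of the generic fibre of a domain. -/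
theorem ringKrullDim_generic (K : Type u) [Field K] [Algebra R K] [IsFractionRing R K] {r : ℕ}
    (htr : Algebra.trdeg R A = r) : IsDomain (K ⊗[R] A) ∧ ringKrullDim (K ⊗[R] A) = r := by
  let _ : Algebra A (K ⊗[R] A) := Algebra.TensorProduct.rightAlgebra
  have hle : Algebra.algebraMapSubmonoid A R⁰ ≤ A⁰ := by
    rintro _ ⟨c, hc, rfl⟩
    rw [mem_nonZeroDivisors_iff_ne_zero]
    rw [map_ne_zero_iff _ (FaithfulSMul.algebraMap_injective R A)]
    exact nonZeroDivisors.ne_zero hc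
  have hdom : IsDomain (K ⊗[R] A) :=
    IsLocalization.isDomain_of_le_nonZeroDivisors (M := Algebra.algebraMapSubmonoid A R⁰)
      (K ⊗[R] A) hle
  refine ⟨hdom, ?_⟩
  obtain ⟨n, h1, h2⟩ := Groth.Agent.Ega4B.DimFT.exists_dim K (K ⊗[R] A)
  have hinj : Function.Injective (algebraMap A (K ⊗[R] A)) :=
    IsLocalization.injective (M := Algebra.algebraMapSubmonoid A R⁰) _ hle
  have f1 : FaithfulSMul A (K ⊗[R] A) := (faithfulSMul_iff_algebraMap_injective _ _).mpr hinj
  have f2 : FaithfulSMul R K := (faithfulSMul_iff_algebraMap_injective _ _).mpr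
    (IsFractionRing.injective R K)
  have f3 : FaithfulSMul K (K ⊗[R] A) := inferInstance
  have a1 : Algebra.IsAlgebraic A (K ⊗[R] A) :=
    IsLocalization.isAlgebraic (K ⊗[R] A) (Algebra.algebraMapSubmonoid A R⁰)
  have a2 : Algebra.IsAlgebraic R K := IsLocalization.isAlgebraic K R⁰
  have e1 := trdeg_add_eq R A (A := K ⊗[R] A)
  have e2 := trdeg_add_eq R K (A := K ⊗[R] A)
  rw [trdeg_eq_zero (R := A), add_zero] at e1
  rw [trdeg_eq_zero (R := R) (A := K), zero_add] at e2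
  have h3 : (n : Cardinal.{u}) = r := by rw [← h1, e2, ← e1, htr]
  have h4 : n = r := by exact_mod_cast h3
  rw [h2, h4]

omit [IsDomain A] [Algebra.FiniteType R A] in
theorem one_tmul_ne_zero [IsDomain A] (K : Type u) [Field K] [Algebra R K] [IsFractionRing R K]
    {g : A} (hg : g ≠ 0) : (1 : K) ⊗ₜ[R] g ≠ 0 := by
  let _ : Algebra A (K ⊗[R] A) := Algebra.TensorProduct.rightAlgebra
  have hle : Algebra.algebraMapSubmonoid A R⁰ ≤ A⁰ := by
    rintro _ ⟨c, hc, rfl⟩
    rw [mem_nonZeroDivisors_iff_ne_zero]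
    rw [map_ne_zero_iff _ (FaithfulSMul.algebraMap_injective R A)]
    exact nonZeroDivisors.ne_zero hc
  have hinj : Function.Injective (algebraMap A (K ⊗[R] A)) :=
    IsLocalization.injective (M := Algebra.algebraMapSubmonoid A R⁰) _ hle
  exact (map_ne_zero_iff _ hinj).mpr hg

theorem ringKrullDim_generic_quotient (K : Type u) [Field K] [Algebra R K] [IsFractionRing R K]
    {r : ℕ} (htr : Algebra.trdeg R A = (r + 1 : ℕ)) {g : A} (hg : g ≠ 0) :
    ringKrullDim (K ⊗[R] (A ⧸ Ideal.span {g})) ≤ r := by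
  obtain ⟨hdom, hdim⟩ := ringKrullDim_generic K htr
  have hg' := one_tmul_ne_zero (R := R) K hg
  let π : K ⊗[R] A →ₐ[K] K ⊗[R] (A ⧸ Ideal.span {g}) :=
    Algebra.TensorProduct.map (AlgHom.id K K) (Ideal.Quotient.mkₐ R (Ideal.span {g}))
  have hπ : Function.Surjective π :=
    LinearMap.lTensor_surjective K (g := (Ideal.Quotient.mkₐ R (Ideal.span {g})).toLinearMap)
      Ideal.Quotient.mk_surjective
  have hπg : π ((1 : K) ⊗ₜ[R] g) = 0 := by
    have h1 : π ((1 : K) ⊗ₜ[R] g) = (1 : K) ⊗ₜ[R] (Ideal.Quotient.mkₐ R (Ideal.span {g}) g) := by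
      simp only [π, Algebra.TensorProduct.map_tmul, AlgHom.coe_id, id_eq]
    rw [h1, Ideal.Quotient.mkₐ_eq_mk,
      Ideal.Quotient.eq_zero_iff_mem.mpr (Ideal.mem_span_singleton_self g),
      TensorProduct.tmul_zero]
  have h1 := ringKrullDim_succ_le_of_surjective π.toRingHom hπ
    (mem_nonZeroDivisors_of_ne_zero hg') hπg
  rw [hdim] at h1
  have h2 : ringKrullDim (K ⊗[R] (A ⧸ Ideal.span {g})) + 1 ≤ (r : WithBot ℕ∞) + 1 := by
    refine h1.trans (le_of_eq ?_)
    push_cast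
    rfl
  exact ENat.WithBot.add_le_add_one_right_iff.mp h2

theorem UBd_quotient {r : ℕ} (htr : Algebra.trdeg R A = (r + 1 : ℕ)) {g : A} (hg : g ≠ 0) :
    UBd.{u, u, w} R (A ⧸ Ideal.span {g}) r :=
  UBd.of_dim (FractionRing R) (ringKrullDim_generic_quotient (FractionRing R) htr hg)

end Quot

section Away

variable {R L : Type*} [CommRing R] [Field L] [Algebra R L]

/-- The subalgebra `S[1/g]` of a field. -/
def awaySub (S : Subalgebra R L) (g : S) : Subalgebra R L where
  carrier := {x | ∃ n : ℕ, (g : L) ^ n * x ∈ S}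
  mul_mem' := by
    rintro x y ⟨n, hn⟩ ⟨m, hm⟩
    refine ⟨n + m, ?_⟩
    have : (g : L) ^ (n + m) * (x * y) = ((g : L) ^ n * x) * ((g : L) ^ m * y) := by ring
    rw [this]
    exact S.mul_mem hn hm
  add_mem' := by
    rintro x y ⟨n, hn⟩ ⟨m, hm⟩
    refine ⟨n + m, ?_⟩
    have : (g : L) ^ (n + m) * (x + y) = (g : L) ^ m * ((g : L) ^ n * x) +
        (g : L) ^ n * ((g : L) ^ m * y) := by ring
    rw [this]
    exact S.add_mem (S.mul_mem (pow_mem g.2 _) hn) (S.mul_mem (pow_mem g.2 _) hm)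
  algebraMap_mem' := fun r => ⟨0, by rw [pow_zero, one_mul]; exact S.algebraMap_mem r⟩

theorem le_awaySub (S : Subalgebra R L) (g : S) : S ≤ awaySub S g :=
  fun x hx => ⟨0, by rw [pow_zero, one_mul]; exact hx⟩

theorem isLocalization_awaySub (S : Subalgebra R L) (g : S) (hg : g ≠ 0) :
    letI : Algebra S (awaySub S g) := (Subalgebra.inclusion (le_awaySub S g)).toRingHom.toAlgebra
    IsLocalization.Away g (awaySub S g) := by
  let _ : Algebra S (awaySub S g) := (Subalgebra.inclusion (le_awaySub S g)).toRingHom.toAlgebra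
  have hg' : (g : L) ≠ 0 := fun h => hg (Subtype.ext h)
  have hcoe : ∀ s : S, ((algebraMap S (awaySub S g) s : awaySub S g) : L) = s := fun s => rfl
  refine ⟨?_, ?_, ?_⟩
  · rintro ⟨_, n, rfl⟩
    have h1 : ((g : L) ^ n)⁻¹ ∈ awaySub S g := ⟨n, by
      rw [mul_inv_cancel₀ (pow_ne_zero _ hg')]; exact S.one_mem⟩
    refine IsUnit.of_mul_eq_one ⟨_, h1⟩ ?_
    apply Subtype.ext
    rw [MulMemClass.coe_mul, hcoe]
    change ((g ^ n : S) : L) * ((g : L) ^ n)⁻¹ = 1
    rw [SubmonoidClass.coe_pow, mul_inv_cancel₀ (pow_ne_zero _ hg')]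
  · rintro ⟨x, n, hn⟩
    refine ⟨⟨⟨_, hn⟩, ⟨g ^ n, n, rfl⟩⟩, ?_⟩
    apply Subtype.ext
    rw [MulMemClass.coe_mul, hcoe, hcoe]
    change x * ((g ^ n : S) : L) = (g : L) ^ n * x
    rw [SubmonoidClass.coe_pow, mul_comm]
  · intro x y h
    refine ⟨1, ?_⟩
    have h1 := congrArg (fun z : awaySub S g => (z : L)) h
    simp only [hcoe] at h1
    rw [Subtype.ext h1]

end Away

section Bir

variable {R L : Type u} [CommRing R] [IsDomain R] [Field L] [Algebra R L] [FaithfulSMul R L]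

/-- Comparison of the counting functions of `A ≤ T`. -/
theorem bir_le {A T : Subalgebra R L} (hA : A.FG) (hT : T.FG) (hle : A ≤ T)
    (hAL : ∀ x : L, ∃ a ∈ A, ∃ b ∈ A, b ≠ 0 ∧ x = a / b) {r : ℕ}
    (htr : Algebra.trdeg R L = (r + 1 : ℕ)) :
    ∃ h : R, h ≠ 0 ∧ ∃ C : ℝ, 0 ≤ C ∧ ∀ (F : Type w) [Field F] [Finite F] (φ : R →+* F), φ h ≠ 0 →
      |(N A φ : ℝ) - N T φ| ≤ C * (Nat.card F : ℝ) ^ r := by
  classical
  have ftA : Algebra.FiniteType R A := A.fg_iff_finiteType.mp hA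
  have ftT : Algebra.FiniteType R T := T.fg_iff_finiteType.mp hT
  have fA : FaithfulSMul R A := (faithfulSMul_iff_algebraMap_injective _ _).mpr fun x y h =>
    FaithfulSMul.algebraMap_injective R L (congrArg (fun z : A => (z : L)) h)
  have fT : FaithfulSMul R T := (faithfulSMul_iff_algebraMap_injective _ _).mpr fun x y h =>
    FaithfulSMul.algebraMap_injective R L (congrArg (fun z : T => (z : L)) h)
  -- the fraction field statement for a bigger algebra and the transcendence degrees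
  have htr' : ∀ S : Subalgebra R L, A ≤ S → FaithfulSMul R S → Algebra.trdeg R S = (r + 1 : ℕ) := by
    intro S hS _
    have : FaithfulSMul S L := (faithfulSMul_iff_algebraMap_injective _ _).mpr Subtype.val_injective
    have h1 : Algebra.IsAlgebraic S L := by
      refine ⟨fun x => ?_⟩
      obtain ⟨a, ha, b, hb, hb0, rfl⟩ := hAL x
      refine ⟨Polynomial.C ⟨b, hS hb⟩ * Polynomial.X - Polynomial.C ⟨a, hS ha⟩, ?_, ?_⟩
      · intro h0
        have h2 := congrArg (fun p => Polynomial.coeff p 1) h0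
        simp only [Polynomial.coeff_sub, Polynomial.coeff_C_mul, Polynomial.coeff_X_one, mul_one,
          Polynomial.coeff_C_succ, sub_zero, Polynomial.coeff_zero] at h2
        exact hb0 (congrArg Subtype.val h2)
      · simp only [map_sub, map_mul, Polynomial.aeval_C, Polynomial.aeval_X]
        change b * (a / b) - a = 0
        field_simp
        ring
    have e1 := trdeg_add_eq R S (A := L)
    rw [trdeg_eq_zero (R := S), add_zero] at e1
    rw [e1, htr]
  -- a common denominator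
  obtain ⟨s, hs⟩ := hT
  choose na hna da hda hda0 heq using hAL
  let g : A := ⟨∏ t ∈ s, da t, prod_mem fun t _ => hda t⟩
  have hg0 : g ≠ 0 := by
    intro h
    have h1 : ∏ t ∈ s, da t = 0 := congrArg Subtype.val h
    rw [Finset.prod_eq_zero_iff] at h1
    obtain ⟨t, _, ht⟩ := h1
    exact hda0 t ht
  let gT : T := ⟨g, hle g.2⟩
  have hgT0 : gT ≠ 0 := fun h => hg0 (Subtype.ext (congrArg (fun z : T => (z : L)) h))
  have hTle : T ≤ awaySub A g := by
    rw [← hs, Algebra.adjoin_le_iff]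
    intro t ht
    refine ⟨1, ?_⟩
    rw [pow_one]
    have h1 : (g : L) = da t * ∏ t' ∈ s.erase t, da t' := (Finset.mul_prod_erase s da ht).symm
    have h2 : (g : L) * t = na t * ∏ t' ∈ s.erase t, da t' := by
      rw [h1]
      have h3 : da t * t = na t := by
        have h4 := heq t
        rw [eq_div_iff (hda0 t)] at h4
        rw [mul_comm]; exact h4
      rw [← h3]
      ring
    rw [h2]
    exact A.mul_mem (hna t) (prod_mem fun t' _ => hda t')
  have hEq : awaySub T gT = awaySub A g := by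
    apply le_antisymm
    · rintro x ⟨n, hn⟩
      obtain ⟨m, hm⟩ := hTle hn
      refine ⟨m + n, ?_⟩
      rw [pow_add, mul_assoc]
      exact hm
    · rintro x ⟨n, hn⟩
      exact ⟨n, hle hn⟩
  obtain ⟨h₁, hh₁, C₁, hC₁, H₁⟩ := UBd_quotient.{u, w} (htr' A le_rfl fA) hg0
  obtain ⟨h₂, hh₂, C₂, hC₂, H₂⟩ := UBd_quotient.{u, w} (htr' T hle fT) hgT0
  refine ⟨h₁ * h₂, mul_ne_zero hh₁ hh₂, C₁ + C₂, add_nonneg hC₁ hC₂, ?_⟩
  intro F _ _ φ hφ
  rw [map_mul] at hφ
  have b1 := H₁ F φ (left_ne_zero_of_mul hφ)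
  have b2 := H₂ F φ (right_ne_zero_of_mul hφ)
  let algA : Algebra A (awaySub A g) := (Subalgebra.inclusion (le_awaySub A g)).toRingHom.toAlgebra
  let algT : Algebra T (awaySub T gT) :=
    (Subalgebra.inclusion (le_awaySub T gT)).toRingHom.toAlgebra
  have tA : IsScalarTower R A (awaySub A g) := IsScalarTower.of_algebraMap_eq fun x => rfl
  have tT : IsScalarTower R T (awaySub T gT) := IsScalarTower.of_algebraMap_eq fun x => rfl
  have lA : IsLocalization.Away g (awaySub A g) := isLocalization_awaySub A g hg0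
  have lT : IsLocalization.Away gT (awaySub T gT) := isLocalization_awaySub T gT hgT0
  have e1 := N_eq_add φ A g (awaySub A g)
  have e2 := N_eq_add φ T gT (awaySub T gT)
  have e3 : N (awaySub T gT) φ = N (awaySub A g) φ :=
    N_congr φ (Subalgebra.equivOfEq _ _ hEq)
  rw [e1, e2, e3]
  push_cast
  have h0 : (0 : ℝ) ≤ (Nat.card F : ℝ) ^ r := by positivity
  rw [abs_le]
  constructor
  · have := Nat.cast_nonneg (α := ℝ) (N (A ⧸ Ideal.span {g}) φ)
    nlinarith
  · have := Nat.cast_nonneg (α := ℝ) (N (T ⧸ Ideal.span {gT}) φ)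
    nlinarith

/-- **Birational invariance** of the counting function. -/
theorem bir {A D : Subalgebra R L} (hA : A.FG) (hD : D.FG)
    (hAL : ∀ x : L, ∃ a ∈ A, ∃ b ∈ A, b ≠ 0 ∧ x = a / b)
    (hDL : ∀ x : L, ∃ a ∈ D, ∃ b ∈ D, b ≠ 0 ∧ x = a / b) {r : ℕ}
    (htr : Algebra.trdeg R L = (r + 1 : ℕ)) :
    ∃ h : R, h ≠ 0 ∧ ∃ C : ℝ, 0 ≤ C ∧ ∀ (F : Type w) [Field F] [Finite F] (φ : R →+* F), φ h ≠ 0 →
      |(N A φ : ℝ) - N D φ| ≤ C * (Nat.card F : ℝ) ^ r := by
  obtain ⟨h₁, hh₁, C₁, hC₁, H₁⟩ := bir_le.{u, w} hA (hA.sup hD) le_sup_left hAL htr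
  obtain ⟨h₂, hh₂, C₂, hC₂, H₂⟩ := bir_le.{u, w} hD (hA.sup hD) le_sup_right hDL htr
  refine ⟨h₁ * h₂, mul_ne_zero hh₁ hh₂, C₁ + C₂, add_nonneg hC₁ hC₂, ?_⟩
  intro F _ _ φ hφ
  rw [map_mul] at hφ
  have b1 := H₁ F φ (left_ne_zero_of_mul hφ)
  have b2 := H₂ F φ (right_ne_zero_of_mul hφ)
  rw [abs_le] at b1 b2 ⊢
  constructor <;> nlinarith

end Bir

end K468.Cnt
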