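import Mathlib.RingTheory.NoetherNormalization
import Mathlib.RingTheory.Localization.Integral
import Mathlib.RingTheory.Localization.BaseChange
import Mathlib.RingTheory.MvPolynomial.Localization
import Mathlib.RingTheory.KrullDimension.Polynomial
import Mathlib.RingTheory.KrullDimension.NonZeroDivisors
import Mathlib.RingTheory.FiniteType
import Mathlib.RingTheory.FiniteStability
import Groth.Agent.FlatA.DimFin

/-!
# Counting homomorphisms from finitely generated algebras to finite fields: upper bounds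
-/

set_option autoImplicit false
universe u v w w'

open scoped TensorProduct nonZeroDivisors

namespace K468.Cnt

/-- The number of ring homomorphisms `A → F` over `φ : R → F`. -/
noncomputable def N {R F : Type*} [CommRing R] [Field F] (A : Type*) [CommRing A] [Algebra R A]
    (φ : R →+* F) : ℕ :=
  Nat.card {ψ : A →+* F // ψ.comp (algebraMap R A) = φ}

section Core

variable {R : Type*} {A : Type*} [CommRing R] [CommRing A] [Algebra R A]

theorem hom_ext {F : Type*} [Field F] {ι : Type*} (a : ι → A)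
    (ha : Algebra.adjoin R (Set.range a) = ⊤) {ψ ψ' : A →+* F}
    (h0 : ψ.comp (algebraMap R A) = ψ'.comp (algebraMap R A)) (h : ∀ i, ψ (a i) = ψ' (a i)) :
    ψ = ψ' := by
  let _ := (ψ.comp (algebraMap R A)).toAlgebra
  let f : A →ₐ[R] F := { ψ with commutes' := fun r => rfl }
  let f' : A →ₐ[R] F := { ψ' with commutes' := fun r => (RingHom.congr_fun h0 r).symm }
  have : f = f' := AlgHom.ext_of_adjoin_eq_top ha (by
    rintro _ ⟨i, rfl⟩
    exact h i)
  ext x
  exact congrArg (fun g : A →ₐ[R] F => g x) this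

theorem finite_homs [Algebra.FiniteType R A] {F : Type*} [Field F] [Finite F] (φ : R →+* F) :
    Finite {ψ : A →+* F // ψ.comp (algebraMap R A) = φ} := by
  obtain ⟨s, hs⟩ := (inferInstance : Algebra.FiniteType R A).out
  refine Finite.of_injective (fun (ψ : {ψ : A →+* F // ψ.comp (algebraMap R A) = φ}) (i : s) => ψ.1 i.1) ?_
  rintro ⟨ψ, hψ⟩ ⟨ψ', hψ'⟩ h
  apply Subtype.ext
  refine hom_ext (R := R) (fun i : s => i.1) (by simpa using hs) (hψ.trans hψ'.symm) fun i => ?_
  exact congrFun h i

theorem core {s n : ℕ} (τ : Fin s → A) (a : Fin n → A)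
    (ha : Algebra.adjoin R (Set.range a) = ⊤) (c : Fin n → R)
    (p : Fin n → Polynomial (MvPolynomial (Fin s) R)) (hp : ∀ j, (p j).Monic)
    (h0 : ∀ j, Polynomial.eval₂ (MvPolynomial.aeval (R := R) τ).toRingHom
      (algebraMap R A (c j) * a j) (p j) = 0)
    (F : Type w) [Field F] [Finite F] (φ : R →+* F) (hc : ∀ j, φ (c j) ≠ 0) :
    N A φ ≤ (∏ j, (p j).natDegree) * Nat.card F ^ s := by
  classical
  have := Fintype.ofFinite F
  let ev : (Fin s → F) → MvPolynomial (Fin s) R →+* F := fun t => MvPolynomial.eval₂Hom φ t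
  let T : Finset (Σ _ : Fin s → F, Fin n → F) :=
    Finset.univ.sigma fun t => Fintype.piFinset fun j => ((p j).map (ev t)).roots.toFinset
  have hT : T.card ≤ (∏ j, (p j).natDegree) * Nat.card F ^ s := by
    rw [Finset.card_sigma]
    calc ∑ t : Fin s → F, (Fintype.piFinset fun j => ((p j).map (ev t)).roots.toFinset).card
        ≤ ∑ _t : Fin s → F, ∏ j, (p j).natDegree := by
          refine Finset.sum_le_sum fun t _ => ?_
          rw [Fintype.card_piFinset]
          refine Finset.prod_le_prod' fun j _ => ?_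
          refine (Multiset.toFinset_card_le _).trans ((Polynomial.card_roots' _).trans ?_)
          exact Polynomial.natDegree_map_le
      _ = (∏ j, (p j).natDegree) * Nat.card F ^ s := by
          rw [Finset.sum_const, smul_eq_mul, mul_comm, Finset.card_univ, Fintype.card_fun,
            Fintype.card_fin, Nat.card_eq_fintype_card]
  refine le_trans ?_ hT
  have hfin : Nat.card {x // x ∈ T} = T.card := by
    rw [Nat.card_eq_fintype_card, Fintype.card_coe]
  rw [N, ← hfin]
  have hψ0 : ∀ ψ : {ψ : A →+* F // ψ.comp (algebraMap R A) = φ},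
      (ψ.1.comp (MvPolynomial.aeval (R := R) τ).toRingHom) = ev (fun i => ψ.1 (τ i)) := by
    intro ψ
    apply MvPolynomial.ringHom_ext
    · intro r
      simp only [AlgHom.toRingHom_eq_coe, RingHom.coe_comp, RingHom.coe_coe, Function.comp_apply,
        MvPolynomial.algHom_C, MvPolynomial.eval₂Hom_C, ev]
      exact RingHom.congr_fun ψ.2 r
    · intro i
      simp [ev]
  refine Nat.card_le_card_of_injective
    (fun ψ : {ψ : A →+* F // ψ.comp (algebraMap R A) = φ} =>
      (⟨⟨fun i => ψ.1 (τ i), fun j => φ (c j) * ψ.1 (a j)⟩, ?_⟩ : {x // x ∈ T})) ?_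
  · simp only [T, Finset.mem_sigma, Finset.mem_univ, true_and, Fintype.mem_piFinset,
      Multiset.mem_toFinset]
    intro j
    rw [Polynomial.mem_roots ((hp j).map _).ne_zero, Polynomial.IsRoot.def, Polynomial.eval_map,
      ← hψ0 ψ]
    have h1 := congrArg ψ.1 (h0 j)
    rw [Polynomial.hom_eval₂, map_mul, map_zero] at h1
    have h2 : ψ.1 (algebraMap R A (c j)) = φ (c j) := RingHom.congr_fun ψ.2 (c j)
    rw [h2] at h1
    exact h1
  · intro ψ ψ' h
    have h1 := congrArg Subtype.val h
    simp only [Sigma.mk.injEq, heq_eq_eq] at h1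
    apply Subtype.ext
    refine hom_ext (R := R) a ha (ψ.2.trans ψ'.2.symm) fun j => ?_
    have h2 := congrFun h1.2 j
    exact mul_left_cancel₀ (hc j) h2

end Core

section Main

variable {R : Type u} {A : Type v} [CommRing R] [IsDomain R] [CommRing A] [Algebra R A]

theorem integral_multiple {K : Type w} [Field K] [Algebra R K] [IsFractionRing R K]
    {s : ℕ} (g : MvPolynomial (Fin s) K →ₐ[K] K ⊗[R] A) (hg : g.IsIntegral) :
    ∃ τ : Fin s → A, ∀ a : A, ∃ c : R, c ≠ 0 ∧ ∃ p : Polynomial (MvPolynomial (Fin s) R), p.Monic ∧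
      Polynomial.eval₂ (MvPolynomial.aeval (R := R) τ).toRingHom (algebraMap R A c * a) p = 0 := by
  classical
  let AK := K ⊗[R] A
  let ι : A →+* AK := (Algebra.TensorProduct.includeRight : A →ₐ[R] AK).toRingHom
  let _ : Algebra A AK := Algebra.TensorProduct.rightAlgebra
  have hloc : IsLocalization (Algebra.algebraMapSubmonoid A R⁰) AK := inferInstance
  -- the coordinates
  have hτ : ∀ i : Fin s, ∃ (t : A) (d : R), d ≠ 0 ∧
      algebraMap A AK t = algebraMap R AK d * g (MvPolynomial.X i) := by
    intro i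
    obtain ⟨⟨t, ⟨_, d, hd, rfl⟩⟩, h⟩ := IsLocalization.surj (Algebra.algebraMapSubmonoid A R⁰)
      (g (MvPolynomial.X i))
    refine ⟨t, d, nonZeroDivisors.ne_zero hd, ?_⟩
    dsimp only at h
    rw [← h, mul_comm, IsScalarTower.algebraMap_apply R A AK]
  choose τ d hd hτd using hτ
  refine ⟨τ, fun a => ?_⟩
  let P := MvPolynomial (Fin s) R
  let PK := MvPolynomial (Fin s) K
  let algPA : Algebra P A := (MvPolynomial.aeval (R := R) τ).toRingHom.toAlgebra
  let g' : PK →ₐ[K] AK := MvPolynomial.aeval fun i => algebraMap A AK (τ i)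
  let algPKAK : Algebra PK AK := g'.toRingHom.toAlgebra
  let algPPK : Algebra P PK := MvPolynomial.algebraMvPolynomial
  let algPAK : Algebra P AK := ((algebraMap A AK).comp (algebraMap P A)).toAlgebra
  have t1 : IsScalarTower P A AK := IsScalarTower.of_algebraMap_eq fun x => rfl
  have t2 : IsScalarTower P PK AK := by
    refine IsScalarTower.of_algebraMap_eq' ?_
    apply MvPolynomial.ringHom_ext
    · intro r
      change algebraMap A AK (MvPolynomial.aeval τ (MvPolynomial.C r)) =
        MvPolynomial.aeval _ (MvPolynomial.map (algebraMap R K) (MvPolynomial.C r))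
      rw [MvPolynomial.map_C, MvPolynomial.algHom_C, MvPolynomial.algHom_C,
        ← IsScalarTower.algebraMap_apply, ← IsScalarTower.algebraMap_apply]
    · intro i
      change algebraMap A AK (MvPolynomial.aeval τ (MvPolynomial.X i)) =
        MvPolynomial.aeval _ (MvPolynomial.map (algebraMap R K) (MvPolynomial.X i))
      simp
  -- integrality over `g'`
  have hint : IsIntegral PK (algebraMap A AK a) := by
    let σ : PK →ₐ[K] PK := MvPolynomial.aeval fun i =>
      MvPolynomial.C (algebraMap R K (d i))⁻¹ * MvPolynomial.X i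
    have hσ : g = g'.comp σ := by
      apply MvPolynomial.algHom_ext
      intro i
      have h5 : g' (MvPolynomial.C (algebraMap R K (d i))⁻¹ * MvPolynomial.X i) =
          algebraMap K AK (algebraMap R K (d i))⁻¹ * algebraMap A AK (τ i) := by
        rw [map_mul]
        congr 1
        · exact g'.commutes _
        · exact MvPolynomial.aeval_X _ _
      rw [AlgHom.comp_apply, MvPolynomial.aeval_X, h5, hτd,
        IsScalarTower.algebraMap_apply R K AK, ← mul_assoc, ← map_mul, inv_mul_cancel₀, map_one,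
        one_mul]
      rw [map_ne_zero_iff _ (IsFractionRing.injective R K)]
      exact hd i
    have h1 : g.toRingHom.IsIntegralElem (algebraMap A AK a) := hg _
    obtain ⟨q, hq, hq0⟩ := h1
    refine ⟨q.map σ.toRingHom, hq.map _, ?_⟩
    rw [Polynomial.eval₂_map]
    rw [hσ] at hq0
    exact hq0
  have hlocP : IsLocalization (Submonoid.map (MvPolynomial.C (σ := Fin s)) R⁰) PK :=
    MvPolynomial.isLocalization R⁰ K
  obtain ⟨⟨_, c₁, hc₁, rfl⟩, h1⟩ :=
    IsIntegral.exists_multiple_integral_of_isLocalization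
      (Submonoid.map (MvPolynomial.C (σ := Fin s)) R⁰) (algebraMap A AK a) hint
  have h2 : IsIntegral P (algebraMap A AK (algebraMap R A c₁ * a)) := by
    have h3 : (⟨MvPolynomial.C c₁, Submonoid.mem_map_of_mem _ hc₁⟩ :
        Submonoid.map (MvPolynomial.C (σ := Fin s)) R⁰) • (algebraMap A AK a) =
        algebraMap A AK (algebraMap R A c₁ * a) := by
      rw [Submonoid.smul_def, Algebra.smul_def, map_mul]
      congr 1
      change algebraMap A AK (MvPolynomial.aeval τ (MvPolynomial.C c₁)) = _
      rw [MvPolynomial.algHom_C]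
    rw [← h3]
    exact h1
  have hsub : Algebra.algebraMapSubmonoid A (Submonoid.map (MvPolynomial.C (σ := Fin s)) R⁰) =
      Algebra.algebraMapSubmonoid A R⁰ := by
    ext x
    constructor
    · rintro ⟨_, ⟨c, hc, rfl⟩, rfl⟩
      refine ⟨c, hc, ?_⟩
      change _ = MvPolynomial.aeval τ (MvPolynomial.C c)
      rw [MvPolynomial.algHom_C]
    · rintro ⟨c, hc, rfl⟩
      refine ⟨_, ⟨c, hc, rfl⟩, ?_⟩
      change MvPolynomial.aeval τ (MvPolynomial.C c) = _
      rw [MvPolynomial.algHom_C]
  have hloc' : IsLocalization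
      (Algebra.algebraMapSubmonoid A (Submonoid.map (MvPolynomial.C (σ := Fin s)) R⁰)) AK := by
    rw [hsub]; exact hloc
  obtain ⟨_, ⟨c₂, hc₂, rfl⟩, p, hp, hp0⟩ :=
    IsLocalization.exists_isIntegral_smul_of_isIntegral_map
      (Submonoid.map (MvPolynomial.C (σ := Fin s)) R⁰) h2
  refine ⟨c₂ * c₁, mul_ne_zero (nonZeroDivisors.ne_zero hc₂) (nonZeroDivisors.ne_zero hc₁), p, hp, ?_⟩
  have h4 : MvPolynomial.C (σ := Fin s) c₂ • (algebraMap R A c₁ * a) =
      algebraMap R A (c₂ * c₁) * a := by
    rw [Algebra.smul_def, map_mul, mul_assoc]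
    congr 1
    change MvPolynomial.aeval τ (MvPolynomial.C c₂) = _
    rw [MvPolynomial.algHom_C]
  rw [← h4]
  exact hp0

/-- **Upper bound**: if the generic fibre of the finitely generated `R`-algebra `A` has dimension at most
`r`, the number of homomorphisms to finite fields is `O(q ^ r)` away from a proper closed subset of
`Spec R`. -/
theorem upper_bound [Algebra.FiniteType R A] (K : Type w) [Field K] [Algebra R K]
    [IsFractionRing R K] (r : ℕ) (hr : ringKrullDim (K ⊗[R] A) ≤ r) :
    ∃ h : R, h ≠ 0 ∧ ∃ C : ℕ, ∀ (F : Type w') [Field F] [Finite F] (φ : R →+* F), φ h ≠ 0 →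
      N A φ ≤ C * Nat.card F ^ r := by
  classical
  rcases subsingleton_or_nontrivial (K ⊗[R] A) with hs | hn
  · -- trivial generic fibre
    have h1 : (1 : K) ⊗ₜ[R] (1 : A) = 0 := Subsingleton.elim _ _
    let _ : Algebra A (K ⊗[R] A) := Algebra.TensorProduct.rightAlgebra
    have hloc : IsLocalization (Algebra.algebraMapSubmonoid A R⁰) (K ⊗[R] A) := inferInstance
    have h2 : algebraMap A (K ⊗[R] A) 1 = 0 := Subsingleton.elim _ _
    rw [IsLocalization.map_eq_zero_iff (Algebra.algebraMapSubmonoid A R⁰)] at h2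
    obtain ⟨⟨_, c, hc, rfl⟩, h3⟩ := h2
    dsimp only at h3
    rw [mul_one] at h3
    refine ⟨c, nonZeroDivisors.ne_zero hc, 0, ?_⟩
    intro F _ _ φ hφ
    have : IsEmpty {ψ : A →+* F // ψ.comp (algebraMap R A) = φ} := by
      refine ⟨fun ψ => hφ ?_⟩
      have h4 := RingHom.congr_fun ψ.2 c
      rw [← h4, RingHom.comp_apply, h3, map_zero]
    rw [N, Nat.card_of_isEmpty]
    exact Nat.zero_le _
  · obtain ⟨s, g, hginj, hgfin, hs⟩ := Groth.Agent.FlatA.DimFin.exists_noether K (K ⊗[R] A)
    have hsr : s ≤ r := by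
      rw [hs] at hr
      exact_mod_cast hr
    obtain ⟨τ, hτ⟩ := integral_multiple g hgfin.to_isIntegral
    obtain ⟨S, hS⟩ := (inferInstance : Algebra.FiniteType R A).out
    let e := S.equivFin
    let a : Fin S.card → A := fun j => (e.symm j).1
    have ha : Algebra.adjoin R (Set.range a) = ⊤ := by
      rw [← hS]
      congr 1
      ext x
      constructor
      · rintro ⟨j, rfl⟩
        exact (e.symm j).2
      · intro hx
        exact ⟨e ⟨x, hx⟩, by simp [a]⟩
    choose c hc p hp h0 using fun j => hτ (a j)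
    refine ⟨∏ j, c j, Finset.prod_ne_zero_iff.mpr fun j _ => hc j, ∏ j, (p j).natDegree, ?_⟩
    intro F _ _ φ hφ
    rw [map_prod, Finset.prod_ne_zero_iff] at hφ
    refine (core τ a ha c p hp h0 F φ fun j => hφ j (Finset.mem_univ _)).trans ?_
    exact Nat.mul_le_mul_left _ (Nat.pow_le_pow_right Nat.card_pos hsr)

end Main

end K468.Cnt
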