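import Mathlib.Analysis.Normed.Group.Tannery
import Mathlib.Analysis.Normed.Ring.InfiniteSum
import Mathlib.Analysis.SpecialFunctions.Log.Summable
import Mathlib.Analysis.SpecialFunctions.Complex.LogBounds
import Mathlib.Data.Finsupp.BigOperators
import Mathlib.NumberTheory.LSeries.Basic
import Mathlib.NumberTheory.LSeries.Convergence

/-!
# Abstract Euler products over the free commutative monoid on a set of "closed points"
-/

set_option autoImplicit false

open Filter Topology

namespace K468.EP

variable {P : Type*}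

/-- The monomial `∏ f x ^ α x`. -/
noncomputable def mon {A : Type*} [CommMonoid A] (f : P → A) (α : P →₀ ℕ) : A :=
  α.prod fun x m => f x ^ m

section Algebra

variable {A : Type*} [CommMonoid A] (f : P → A)

theorem mon_zero : mon f 0 = 1 := Finsupp.prod_zero_index

theorem mon_add (α β : P →₀ ℕ) : mon f (α + β) = mon f α * mon f β := by
  classical
  exact Finsupp.prod_add_index (fun x _ => pow_zero _) (fun x _ a b => pow_add _ _ _)

theorem mon_single (x : P) (n : ℕ) : mon f (Finsupp.single x n) = f x ^ n :=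
  Finsupp.prod_single_index (pow_zero _)

theorem map_mon {B F : Type*} [CommMonoid B] [FunLike F A B] [MonoidHomClass F A B] (g : F)
    (α : P →₀ ℕ) : g (mon f α) = mon (fun x => g (f x)) α := by
  simp only [mon, Finsupp.prod, map_prod, map_pow]

end Algebra

section Normed

variable {A : Type*} [NormedField A]

theorem norm_mon (f : P → A) (α : P →₀ ℕ) : ‖mon f α‖ = mon (fun x => ‖f x‖) α := by
  simp only [mon, Finsupp.prod, norm_prod, norm_pow]

open Classical in
/-- The partial Euler product over a finite set. -/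
theorem hasSum_supported [CompleteSpace A] (f : P → A) (hf : ∀ x, ‖f x‖ < 1) (S : Finset P) :
    HasSum (fun α : P →₀ ℕ => if α.support ⊆ S then mon f α else 0) (∏ x ∈ S, (1 - f x)⁻¹) ∧
      Summable (fun α : P →₀ ℕ => ‖if α.support ⊆ S then mon f α else 0‖) := by
  induction S using Finset.induction_on with
  | empty =>
    have h1 : (fun α : P →₀ ℕ => if α.support ⊆ (∅ : Finset P) then mon f α else 0) =
        fun α => if α = 0 then 1 else 0 := by
      funext α
      by_cases h : α = 0
      · simp [h, mon_zero]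
      · have h2 : ¬ α.support ⊆ (∅ : Finset P) := by
          rw [Finset.subset_empty, Finsupp.support_eq_empty]; exact h
        rw [if_neg h2, if_neg h]
    rw [Finset.prod_empty, h1]
    refine ⟨hasSum_ite_eq 0 1, ?_⟩
    rw [funext_iff.mp h1 |> fun h => funext fun α => congrArg norm (h α)]
    refine summable_of_ne_finset_zero (s := {0}) fun α hα => ?_
    rw [if_neg (by simpa using hα), norm_zero]
  | insert a S ha ih =>
    obtain ⟨ih1, ih2⟩ := ih
    have g1 : HasSum (fun n : ℕ => f a ^ n) (1 - f a)⁻¹ := hasSum_geometric_of_norm_lt_one (hf a)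
    have g2 : Summable (fun n : ℕ => ‖f a ^ n‖) := by
      simp only [norm_pow]
      exact summable_geometric_of_lt_one (norm_nonneg _) (hf a)
    let F : (P →₀ ℕ) → A := fun α => if α.support ⊆ S then mon f α else 0
    let F' : (P →₀ ℕ) → A := fun α => if α.support ⊆ insert a S then mon f α else 0
    let G : ℕ × (P →₀ ℕ) → A := fun x => f a ^ x.1 * F x.2
    have hprod : HasSum G ((1 - f a)⁻¹ * ∏ x ∈ S, (1 - f x)⁻¹) :=
      g1.mul ih1 (summable_mul_of_summable_norm g2 ih2)
    have hnorm : Summable (fun x => ‖G x‖) := g2.mul_norm ih2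
    -- the bijection
    let T : Set (ℕ × (P →₀ ℕ)) := {x | x.2.support ⊆ S}
    have hGT : ∀ x, x ∉ T → G x = 0 := fun x hx => by
      simp only [G, F]
      rw [if_neg (show ¬ x.2.support ⊆ S from hx), mul_zero]
    let i : ℕ × (P →₀ ℕ) → (P →₀ ℕ) := fun x => Finsupp.single a x.1 + x.2
    have hzero : ∀ x ∈ T, x.2 a = 0 := fun x hx => by
      rw [← Finsupp.notMem_support_iff]
      exact fun h => ha (hx h)
    have hinj : Set.InjOn i T := by
      intro x hx y hy hxy
      have h1 : x.1 = y.1 := by
        have h2 := DFunLike.congr_fun hxy a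
        simp only [i, Finsupp.add_apply, Finsupp.single_eq_same, hzero x hx, hzero y hy,
          add_zero] at h2
        exact h2
      refine Prod.ext h1 ?_
      simp only [i, h1] at hxy
      exact add_left_cancel hxy
    have himg : ∀ α : P →₀ ℕ, α.support ⊆ insert a S → ∃ x ∈ T, i x = α := by
      intro α hα
      refine ⟨(α a, α.erase a), ?_, Finsupp.single_add_erase a α⟩
      intro y hy
      rw [Finsupp.support_erase, Finset.mem_erase] at hy
      exact (Finset.mem_insert.mp (hα hy.2)).resolve_left hy.1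
    have hFi : ∀ x ∈ T, F' (i x) = G x := by
      intro x hx
      have h1 : (i x).support ⊆ insert a S := by
        refine Finsupp.support_add.trans (Finset.union_subset ?_ ?_)
        · exact Finsupp.support_single_subset.trans (by simp)
        · exact hx.trans (Finset.subset_insert _ _)
      simp only [F', G, F]
      rw [if_pos h1, if_pos (show x.2.support ⊆ S from hx), mon_add, mon_single]
    rw [Finset.prod_insert ha]
    have hs : ∀ x : Function.support G, x.1 ∈ T := fun x => by
      by_contra h
      exact x.2 (hGT _ h)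
    have hs' : ∀ x : Function.support (fun x => ‖G x‖), x.1 ∈ T := fun x => by
      by_contra h
      exact x.2 (by change ‖G x.1‖ = 0; rw [hGT _ h, norm_zero])
    constructor
    · rw [hasSum_iff_hasSum_of_ne_zero_bij (g := G) (fun x => i x.1)]
      · exact hprod
      · intro x y hxy
        exact Subtype.ext (hinj (hs x) (hs y) hxy)
      · intro α hα
        have h1 : α.support ⊆ insert a S := by
          by_contra h
          exact hα (if_neg h)
        obtain ⟨x, hx, rfl⟩ := himg α h1
        refine ⟨⟨x, ?_⟩, rfl⟩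
        rw [Function.mem_support, ← hFi x hx]
        exact hα
      · exact fun x => hFi x.1 (hs x)
    · obtain ⟨c, hc⟩ := hnorm
      refine ⟨c, ?_⟩
      rw [hasSum_iff_hasSum_of_ne_zero_bij (g := fun x => ‖G x‖) (fun x => i x.1)]
      · exact hc
      · intro x y hxy
        exact Subtype.ext (hinj (hs' x) (hs' y) hxy)
      · intro α hα
        have h1 : α.support ⊆ insert a S := by
          by_contra h
          exact hα (by change ‖F' α‖ = 0; simp only [F']; rw [if_neg h, norm_zero])
        obtain ⟨x, hx, rfl⟩ := himg α h1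
        refine ⟨⟨x, ?_⟩, rfl⟩
        rw [Function.mem_support, ← hFi x hx]
        exact hα
      · exact fun x => congrArg norm (hFi x.1 (hs' x))

/-- Summability over all cycles of nonnegative monomials. -/
theorem summable_mon_real (g : P → ℝ) (hg0 : ∀ x, 0 ≤ g x) (c : ℝ) (hc : c < 1)
    (hgc : ∀ x, g x ≤ c) (hg : Summable g) : Summable (mon g) := by
  classical
  have hmon : ∀ α, 0 ≤ mon g α := fun α => Finset.prod_nonneg fun x _ => pow_nonneg (hg0 x) _
  refine summable_of_sum_le (c := Real.exp ((1 - c)⁻¹ * ∑' x, g x)) hmon fun u => ?_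
  let S : Finset P := u.biUnion fun α => α.support
  have hlt : ∀ x, ‖g x‖ < 1 := fun x => by
    rw [Real.norm_of_nonneg (hg0 x)]; exact (hgc x).trans_lt hc
  obtain ⟨h1, -⟩ := hasSum_supported g hlt S
  have h2 : ∑ α ∈ u, mon g α = ∑ α ∈ u, (if α.support ⊆ S then mon g α else 0) :=
    Finset.sum_congr rfl fun α hα => by
      rw [if_pos (Finset.subset_biUnion_of_mem (fun α : P →₀ ℕ => α.support) hα)]
  have h3 : ∑ α ∈ u, (if α.support ⊆ S then mon g α else 0) ≤ ∏ x ∈ S, (1 - g x)⁻¹ :=
    sum_le_hasSum u (fun α _ => by split_ifs; exacts [hmon α, le_rfl]) h1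
  rw [h2]
  refine h3.trans ?_
  have hc1 : 0 < 1 - c := by linarith
  have h4 : ∀ x ∈ S, (1 - g x)⁻¹ ≤ Real.exp ((1 - c)⁻¹ * g x) := by
    intro x _
    have h5 : 0 < 1 - g x := by linarith [hgc x]
    have h6 : (1 - g x)⁻¹ = 1 + (1 - g x)⁻¹ * g x := by
      field_simp
      ring
    rw [h6]
    have h7 : (1 - g x)⁻¹ ≤ (1 - c)⁻¹ := inv_anti₀ hc1 (by linarith [hgc x])
    have h8 := mul_le_mul_of_nonneg_right h7 (hg0 x)
    linarith [Real.add_one_le_exp ((1 - c)⁻¹ * g x)]
  calc ∏ x ∈ S, (1 - g x)⁻¹ ≤ ∏ x ∈ S, Real.exp ((1 - c)⁻¹ * g x) :=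
        Finset.prod_le_prod (fun x _ => inv_nonneg.mpr (by linarith [hgc x])) h4
    _ = Real.exp (∑ x ∈ S, (1 - c)⁻¹ * g x) := (Real.exp_sum _ _).symm
    _ ≤ _ := by
        rw [← Finset.mul_sum]
        exact Real.exp_le_exp.mpr (mul_le_mul_of_nonneg_left
          (hg.sum_le_tsum S fun x _ => hg0 x) (inv_nonneg.mpr hc1.le))

theorem summable_norm_mon (f : P → A) (c : ℝ) (hc : c < 1) (hfc : ∀ x, ‖f x‖ ≤ c)
    (hf : Summable fun x => ‖f x‖) : Summable fun α => ‖mon f α‖ := by
  simp only [norm_mon]
  exact summable_mon_real _ (fun x => norm_nonneg _) c hc hfc hf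

/-- The Euler product. -/
theorem tendsto_prod [CompleteSpace A] (f : P → A) (c : ℝ) (hc : c < 1) (hfc : ∀ x, ‖f x‖ ≤ c)
    (hf : Summable fun x => ‖f x‖) :
    Tendsto (fun S : Finset P => ∏ x ∈ S, (1 - f x)⁻¹) atTop (𝓝 (∑' α, mon f α)) := by
  classical
  have hlt : ∀ x, ‖f x‖ < 1 := fun x => (hfc x).trans_lt hc
  have h1 : (fun S : Finset P => ∏ x ∈ S, (1 - f x)⁻¹) =
      fun S => ∑' α : P →₀ ℕ, (if α.support ⊆ S then mon f α else 0) := by
    funext S
    exact (hasSum_supported f hlt S).1.tsum_eq.symm
  rw [h1]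
  refine tendsto_tsum_of_dominated_convergence (summable_norm_mon f c hc hfc hf) ?_ ?_
  · intro α
    refine tendsto_const_nhds.congr' ?_
    filter_upwards [eventually_ge_atTop α.support] with S hS
    rw [if_pos hS]
  · refine Eventually.of_forall fun S α => ?_
    split_ifs
    · exact le_rfl
    · rw [norm_zero]; exact norm_nonneg _

end Normed

section Complex

open Complex

/-- The Euler product in exponential form. -/
theorem tsum_mon_eq_exp (f : P → ℂ) (c : ℝ) (hc : c < 1) (hfc : ∀ x, ‖f x‖ ≤ c)
    (hf : Summable fun x => ‖f x‖) :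
    ∑' α, mon f α = exp (∑' x, -log (1 - f x)) := by
  have h1 := tendsto_prod f c hc hfc hf
  have hlt : ∀ x, ‖f x‖ < 1 := fun x => (hfc x).trans_lt hc
  have hne : ∀ x, 1 - f x ≠ 0 := fun x h => by
    have h2 : f x = 1 := (sub_eq_zero.mp h).symm
    have h3 := hlt x
    rw [h2, norm_one] at h3
    exact lt_irrefl _ h3
  have hs : Summable fun x => -log (1 - f x) := by
    have h2 : Summable fun x => log (1 + -f x) :=
      summable_log_one_add_of_summable (by simpa using hf.of_norm.neg)
    simpa [sub_eq_add_neg] using h2.neg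
  have h2 : Tendsto (fun S : Finset P => ∏ x ∈ S, (1 - f x)⁻¹) atTop
      (𝓝 (exp (∑' x, -log (1 - f x)))) := by
    have h3 : (fun S : Finset P => ∏ x ∈ S, (1 - f x)⁻¹) =
        fun S => exp (∑ x ∈ S, -log (1 - f x)) := by
      funext S
      rw [exp_sum]
      refine Finset.prod_congr rfl fun x _ => ?_
      rw [exp_neg, exp_log (hne x)]
    rw [h3]
    exact (continuous_exp.tendsto _).comp hs.hasSum
  exact tendsto_nhds_unique h1 h2

end Complex

end K468.EP
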