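import Groth.Agent.Zeta.K468.Euler
import Mathlib.Data.Finsupp.Interval

/-!
# Dirichlet series of effective cycles
-/

set_option autoImplicit false

open Filter Topology

namespace K468.EP

variable {P : Type*}

/-- The number of effective cycles of norm `n`. -/
noncomputable def aN (N : P → ℕ) (n : ℕ) : ℕ := Nat.card {α : P →₀ ℕ // mon N α = n}

/-- `n ↦ n ^ (-s)` as a monoid homomorphism. -/
noncomputable def powHom (s : ℂ) : ℕ →* ℂ where
  toFun n := (n : ℂ) ^ (-s)
  map_one' := by simp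
  map_mul' m n := by
    push_cast
    exact Complex.natCast_mul_natCast_cpow m n (-s)

theorem mon_cpow (N : P → ℕ) (s : ℂ) (α : P →₀ ℕ) :
    mon (fun x => (N x : ℂ) ^ (-s)) α = ((mon N α : ℕ) : ℂ) ^ (-s) :=
  (map_mon N (powHom s) α).symm

theorem mon_ne_zero {N : P → ℕ} (hN : ∀ x, 2 ≤ N x) (α : P →₀ ℕ) : mon N α ≠ 0 :=
  Finset.prod_ne_zero_iff.mpr fun x _ => pow_ne_zero _ (by have := hN x; omega)

theorem norm_cpow {N : ℕ} (hN : 2 ≤ N) (s : ℂ) : ‖(N : ℂ) ^ (-s)‖ = (N : ℝ) ^ (-s.re) := by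
  rw [Complex.norm_natCast_cpow_of_pos (by omega), Complex.neg_re]

section Sum

variable {N : P → ℕ} (hN : ∀ x, 2 ≤ N x) {σ : ℝ} (hσ : 0 < σ)
  (hsum : Summable fun x => (N x : ℝ) ^ (-σ)) {s : ℂ} (hs : σ ≤ s.re)

include hN hσ hs in
theorem norm_cpow_le (x : P) : ‖(N x : ℂ) ^ (-s)‖ ≤ (2 : ℝ) ^ (-σ) := by
  rw [norm_cpow (hN x)]
  have h2 : (2 : ℝ) ≤ N x := by exact_mod_cast hN x
  calc (N x : ℝ) ^ (-s.re) ≤ (N x : ℝ) ^ (-σ) :=
        Real.rpow_le_rpow_of_exponent_le (by linarith) (by linarith)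
    _ ≤ (2 : ℝ) ^ (-σ) := Real.rpow_le_rpow_of_nonpos (by norm_num) h2 (by linarith)

theorem two_rpow_lt_one (hσ : 0 < σ) : (2 : ℝ) ^ (-σ) < 1 :=
  Real.rpow_lt_one_of_one_lt_of_neg (by norm_num) (by linarith)

include hN hsum hs in
theorem summable_norm_cpow : Summable fun x => ‖(N x : ℂ) ^ (-s)‖ := by
  refine Summable.of_nonneg_of_le (fun x => norm_nonneg _) (fun x => ?_) hsum
  rw [norm_cpow (hN x)]
  have h2 : (2 : ℝ) ≤ N x := by exact_mod_cast hN x
  exact Real.rpow_le_rpow_of_exponent_le (by linarith) (by linarith)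

include hN hσ hsum hs in
theorem hasSum_term : HasSum (LSeries.term (fun n => (aN N n : ℂ)) s)
    (∑' α, mon (fun x => (N x : ℂ) ^ (-s)) α) := by
  have h1 : Summable (mon (fun x => (N x : ℂ) ^ (-s))) :=
    (summable_norm_mon _ _ (two_rpow_lt_one hσ) (norm_cpow_le hN hσ hs)
      (summable_norm_cpow hN hsum hs)).of_norm
  have h2 := h1.hasSum.tsum_fiberwise (mon N)
  have h5 : LSeries.term (fun n => (aN N n : ℂ)) s = fun n : ℕ =>
      ∑' b : (mon N ⁻¹' {n} : Set (P →₀ ℕ)), mon (fun x => (N x : ℂ) ^ (-s)) b := ?_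
  · rw [h5]; exact h2
  funext n
  have h3 : ∀ b : (mon N ⁻¹' {n} : Set (P →₀ ℕ)),
      mon (fun x => (N x : ℂ) ^ (-s)) b = (n : ℂ) ^ (-s) := fun b => by
    rw [mon_cpow, show mon N (b : P →₀ ℕ) = n from b.2]
  rw [tsum_congr h3, tsum_const]
  by_cases hn : n = 0
  · subst hn
    rw [LSeries.term_zero]
    have h4 : IsEmpty (mon N ⁻¹' {0} : Set (P →₀ ℕ)) := ⟨fun b => mon_ne_zero hN b.1 b.2⟩
    rw [Nat.card_of_isEmpty, zero_smul]
  · rw [LSeries.term_of_ne_zero hn, nsmul_eq_mul, Complex.cpow_neg, div_eq_mul_inv]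
    rfl

include hN hσ hsum hs in
/-- The Dirichlet series of effective cycles is an Euler product. -/
theorem LSeries_aN : LSeriesSummable (fun n => (aN N n : ℂ)) s ∧
    LSeries (fun n => (aN N n : ℂ)) s =
      Complex.exp (∑' x, -Complex.log (1 - (N x : ℂ) ^ (-s))) := by
  have h1 := hasSum_term hN hσ hsum hs
  refine ⟨h1.summable, ?_⟩
  rw [← tsum_mon_eq_exp _ _ (two_rpow_lt_one hσ) (norm_cpow_le hN hσ hs)
    (summable_norm_cpow hN hsum hs)]
  exact h1.tsum_eq

end Sum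

/-- Northcott finiteness for cycles. -/
theorem finite_cycles {N : P → ℕ} (hN : ∀ x, 2 ≤ N x) (hfin : ∀ n, {x | N x ≤ n}.Finite) (n : ℕ) :
    Finite {α : P →₀ ℕ // mon N α = n} := by
  classical
  have hx : ∀ α : P →₀ ℕ, mon N α = n → ∀ x ∈ α.support, N x ^ α x ≤ n := by
    intro α hα x hx
    have h1 : N x ^ α x ∣ n := by
      rw [← hα]
      exact Finset.dvd_prod_of_mem (fun x => N x ^ α x) hx
    have h2 : n ≠ 0 := hα ▸ mon_ne_zero hN α
    exact Nat.le_of_dvd (Nat.pos_of_ne_zero h2) h1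
  have hsub : {α : P →₀ ℕ | mon N α = n} ⊆
      {α : P →₀ ℕ | ∀ x, α x ≤ (if x ∈ (hfin n).toFinset then n else 0)} := by
    intro α hα x
    by_cases h : x ∈ α.support
    · have h1 := hx α hα x h
      have h2 : α x ≠ 0 := Finsupp.mem_support_iff.mp h
      have h3 : N x ≤ N x ^ α x := Nat.le_self_pow h2 _
      have h4 : x ∈ (hfin n).toFinset := by
        rw [Set.Finite.mem_toFinset]
        exact h3.trans h1
      rw [if_pos h4]
      have h5 : α x < 2 ^ α x := Nat.lt_two_pow_self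
      have h6 : 2 ^ α x ≤ N x ^ α x := Nat.pow_le_pow_left (hN x) _
      omega
    · rw [Finsupp.notMem_support_iff.mp h]
      exact Nat.zero_le _
  refine Set.Finite.to_subtype (Set.Finite.subset ?_ hsub)
  let β : P →₀ ℕ := Finsupp.onFinset (hfin n).toFinset
    (fun x => if x ∈ (hfin n).toFinset then n else 0) (fun x hx => by
      by_contra h
      rw [if_neg h] at hx
      exact hx rfl)
  have h1 : {α : P →₀ ℕ | ∀ x, α x ≤ (if x ∈ (hfin n).toFinset then n else 0)} ⊆
      Set.Icc 0 β := fun α hα => ⟨zero_le, hα⟩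
  exact (Set.finite_Icc 0 β).subset h1

/-- Conversely, absolute convergence at a real `σ` gives the summability over points. -/
theorem summable_of_LSeriesSummable {N : P → ℕ} (hN : ∀ x, 2 ≤ N x)
    (hfin : ∀ n, {x | N x ≤ n}.Finite) {σ : ℝ}
    (h : LSeriesSummable (fun n => (aN N n : ℂ)) σ) : Summable fun x => (N x : ℝ) ^ (-σ) := by
  classical
  have h1 : Summable fun α : P →₀ ℕ => ((mon N α : ℕ) : ℝ) ^ (-σ) := by
    rw [← (Equiv.sigmaFiberEquiv (mon N)).summable_iff]
    have hnn : ∀ z, 0 ≤ ((fun α : P →₀ ℕ => ((mon N α : ℕ) : ℝ) ^ (-σ)) ∘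
        (Equiv.sigmaFiberEquiv (mon N))) z := fun z => Real.rpow_nonneg (Nat.cast_nonneg _) _
    rw [summable_sigma_of_nonneg hnn]
    have hc : ∀ (n : ℕ) (y : {α : P →₀ ℕ // mon N α = n}),
        ((fun α : P →₀ ℕ => ((mon N α : ℕ) : ℝ) ^ (-σ)) ∘ (Equiv.sigmaFiberEquiv (mon N))) ⟨n, y⟩ =
          (n : ℝ) ^ (-σ) := by
      intro n y
      simp only [Function.comp_apply, Equiv.sigmaFiberEquiv_apply]
      rw [y.2]
    constructor
    · intro n
      have := finite_cycles hN hfin n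
      exact Summable.of_finite
    · have h2 := h.norm
      refine h2.congr fun n => ?_
      rw [tsum_congr (hc n), tsum_const]
      by_cases hn : n = 0
      · subst hn
        have h4 : IsEmpty {α : P →₀ ℕ // mon N α = 0} := ⟨fun b => mon_ne_zero hN b.1 b.2⟩
        rw [LSeries.term_zero, norm_zero, Nat.card_of_isEmpty, zero_smul]
      · rw [LSeries.term_of_ne_zero hn, norm_div, Complex.norm_natCast,
          Complex.norm_natCast_cpow_of_pos (Nat.pos_of_ne_zero hn), Complex.ofReal_re,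
          nsmul_eq_mul, Real.rpow_neg (Nat.cast_nonneg _), div_eq_mul_inv]
        rfl
  have h2 : Function.Injective (fun x : P => Finsupp.single x 1) := fun x y hxy =>
    Finsupp.single_left_injective one_ne_zero hxy
  have h3 := h1.comp_injective h2
  refine h3.congr fun x => ?_
  simp only [Function.comp_apply, mon_single, pow_one]

end K468.EP
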