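import Groth.Agent.Zeta.K468.Euler2

/-!
# The logarithm of an Euler product as a Dirichlet series
-/

set_option autoImplicit false

open Filter Topology

namespace K468.EP

variable {P : Type*}

/-- The coefficient of `n ^ (-s)` in `-log (1 - q ^ (-s))`. -/
noncomputable def w (q n : ℕ) : ℝ :=
  if q ^ (Nat.log q n) = n ∧ n ≠ 1 then 1 / (Nat.log q n : ℝ) else 0

theorem w_nonneg (q n : ℕ) : 0 ≤ w q n := by
  unfold w
  split_ifs
  · positivity
  · exact le_rfl

theorem w_pow {q : ℕ} (hq : 2 ≤ q) (j : ℕ) : w q (q ^ (j + 1)) = 1 / (j + 1) := by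
  unfold w
  rw [Nat.log_pow (by omega)]
  rw [if_pos]
  · push_cast; rfl
  · refine ⟨rfl, ?_⟩
    have : 1 < q ^ (j + 1) := Nat.one_lt_pow (by omega) (by omega)
    omega

theorem w_eq_zero {q n : ℕ} (h : ∀ j : ℕ, q ^ (j + 1) ≠ n) : w q n = 0 := by
  unfold w
  rw [if_neg]
  rintro ⟨h1, h2⟩
  rcases hl : Nat.log q n with _ | j
  · rw [hl, pow_zero] at h1
    exact h2 h1.symm
  · rw [hl] at h1
    exact h j h1

theorem w_le_one (q n : ℕ) : w q n ≤ 1 := by
  unfold w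
  split_ifs with h
  · rcases Nat.eq_zero_or_pos (Nat.log q n) with h1 | h1
    · rw [h1]; simp
    · rw [div_le_one (by exact_mod_cast h1)]
      exact_mod_cast h1
  · exact zero_le_one

theorem hasSum_w {q : ℕ} (hq : 2 ≤ q) {s : ℂ} (hs : 0 < s.re) :
    HasSum (fun n : ℕ => (w q n : ℂ) * (n : ℂ) ^ (-s)) (-Complex.log (1 - (q : ℂ) ^ (-s))) := by
  have h1 : ‖(q : ℂ) ^ (-s)‖ < 1 := by
    rw [norm_cpow hq]
    exact Real.rpow_lt_one_of_one_lt_of_neg (by exact_mod_cast (by omega : 1 < q)) (by linarith)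
  have h2 := Complex.hasSum_taylorSeries_neg_log' h1
  have hinj : Function.Injective (fun j : ℕ => q ^ (j + 1)) := fun a b hab => by
    have := Nat.pow_right_injective hq hab
    omega
  have h3 : ∀ n ∉ Set.range (fun j : ℕ => q ^ (j + 1)), (w q n : ℂ) * (n : ℂ) ^ (-s) = 0 := by
    intro n hn
    rw [w_eq_zero, Complex.ofReal_zero, zero_mul]
    intro j hj
    exact hn ⟨j, hj⟩
  rw [← hinj.hasSum_iff h3]
  have h5 : ((fun n : ℕ => (w q n : ℂ) * (n : ℂ) ^ (-s)) ∘ fun j : ℕ => q ^ (j + 1)) =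
      fun n : ℕ => ((q : ℂ) ^ (-s)) ^ (n + 1) / (n + 1) := by
    funext j
    simp only [Function.comp_apply]
    rw [w_pow hq]
    have h6 := map_pow (powHom s) q (j + 1)
    change ((q ^ (j + 1) : ℕ) : ℂ) ^ (-s) = ((q : ℂ) ^ (-s)) ^ (j + 1) at h6
    rw [h6]
    push_cast
    ring
  rw [h5]
  exact h2

/-- The coefficients of the logarithm of the Euler product. -/
noncomputable def cN (N : P → ℕ) (n : ℕ) : ℝ := ∑' x, w (N x) n

theorem cN_nonneg (N : P → ℕ) (n : ℕ) : 0 ≤ cN N n := tsum_nonneg fun x => w_nonneg _ _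

section Sum

variable {N : P → ℕ} (hN : ∀ x, 2 ≤ N x) {σ : ℝ} (hσ : 0 < σ)
  (hsum : Summable fun x => (N x : ℝ) ^ (-σ)) {s : ℂ} (hs : σ ≤ s.re)

include hN hσ hsum hs in
theorem summable_double :
    Summable fun z : P × ℕ => ‖(w (N z.1) z.2 : ℂ) * (z.2 : ℂ) ^ (-s)‖ := by
  let i : P × ℕ → P × ℕ := fun z => (z.1, N z.1 ^ (z.2 + 1))
  have hinj : Function.Injective i := by
    rintro ⟨x, j⟩ ⟨y, k⟩ h
    simp only [i, Prod.mk.injEq] at h
    obtain ⟨rfl, h2⟩ := h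
    have := Nat.pow_right_injective (hN x) h2
    simp only [Prod.mk.injEq, true_and]
    omega
  have h3 : ∀ z ∉ Set.range i, ‖(w (N z.1) z.2 : ℂ) * (z.2 : ℂ) ^ (-s)‖ = 0 := by
    rintro ⟨x, n⟩ hn
    rw [w_eq_zero, Complex.ofReal_zero, zero_mul, norm_zero]
    intro j hj
    exact hn ⟨(x, j), by simp only [i, hj]⟩
  rw [← hinj.summable_iff h3]
  have h5 : Summable fun z : P × ℕ => ‖(N z.1 : ℂ) ^ (-s)‖ * ((2 : ℝ) ^ (-σ)) ^ z.2 :=
    (summable_norm_cpow hN hsum hs).mul_of_nonneg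
      (summable_geometric_of_lt_one (by positivity) (two_rpow_lt_one hσ))
      (fun x => norm_nonneg _) (fun n => by positivity)
  refine Summable.of_nonneg_of_le (fun z => norm_nonneg _) (fun z => ?_) h5
  obtain ⟨x, j⟩ := z
  simp only [Function.comp_apply, i]
  rw [w_pow (hN x), norm_mul]
  have h6 := map_pow (powHom s) (N x) (j + 1)
  change ((N x ^ (j + 1) : ℕ) : ℂ) ^ (-s) = ((N x : ℂ) ^ (-s)) ^ (j + 1) at h6
  rw [h6, norm_pow, pow_succ']
  have h7 : ‖((1 / ((j : ℝ) + 1) : ℝ) : ℂ)‖ ≤ 1 := by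
    rw [Complex.norm_real, Real.norm_of_nonneg (by positivity), div_le_one (by positivity)]
    have : (0 : ℝ) ≤ j := Nat.cast_nonneg j
    linarith
  have h8 : ‖(N x : ℂ) ^ (-s)‖ ^ j ≤ ((2 : ℝ) ^ (-σ)) ^ j :=
    pow_le_pow_left₀ (norm_nonneg _) (norm_cpow_le hN hσ hs x) j
  calc _ ≤ 1 * (‖(N x : ℂ) ^ (-s)‖ * ‖(N x : ℂ) ^ (-s)‖ ^ j) :=
        mul_le_mul_of_nonneg_right h7 (by positivity)
    _ ≤ _ := by
        rw [one_mul]
        exact mul_le_mul_of_nonneg_left h8 (norm_nonneg _)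

include hN hσ hsum hs in
theorem hasSum_log : HasSum (LSeries.term (fun n => (cN N n : ℂ)) s)
    (∑' x, -Complex.log (1 - (N x : ℂ) ^ (-s))) := by
  have h1 := (summable_double hN hσ hsum hs).of_norm.hasSum
  have hs0 : 0 < s.re := lt_of_lt_of_le hσ hs
  have h2 := (h1.prod_fiberwise fun x => hasSum_w (hN x) hs0).tsum_eq
  have h4 := h1.summable
  have h3 : HasSum (fun z : ℕ × P => (w (N z.2) z.1 : ℂ) * (z.1 : ℂ) ^ (-s))
      (∑' z : P × ℕ, (w (N z.1) z.2 : ℂ) * (z.2 : ℂ) ^ (-s)) := by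
    rw [← (Equiv.prodComm P ℕ).hasSum_iff]
    exact h1
  have h5 := h3.prod_fiberwise fun n => (h3.summable.prod_factor n).hasSum
  rw [← h2] at h5
  have h6 : LSeries.term (fun n => (cN N n : ℂ)) s =
      fun n : ℕ => ∑' x, (w (N x) n : ℂ) * (n : ℂ) ^ (-s) := by
    funext n
    rw [tsum_mul_right]
    by_cases hn : n = 0
    · subst hn
      rw [LSeries.term_zero]
      have : ∀ x, w (N x) 0 = 0 := fun x => w_eq_zero fun j hj => by
        have h7 := hN x
        have h8 := pow_eq_zero_iff (Nat.succ_ne_zero j) |>.mp hj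
        omega
      simp [this]
    · rw [LSeries.term_of_ne_zero hn, cN, Complex.ofReal_tsum, Complex.cpow_neg, div_eq_mul_inv]
  rw [h6]
  exact h5

include hN hσ hsum hs in
/-- `L = exp` of the Dirichlet series with nonnegative coefficients `cN`. -/
theorem LSeries_aN_eq_exp : LSeriesSummable (fun n => (cN N n : ℂ)) s ∧
    LSeries (fun n => (aN N n : ℂ)) s = Complex.exp (LSeries (fun n => (cN N n : ℂ)) s) := by
  have h1 := hasSum_log hN hσ hsum hs
  refine ⟨h1.summable, ?_⟩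
  rw [(LSeries_aN hN hσ hsum hs).2]
  congr 1
  exact h1.tsum_eq.symm

end Sum

end K468.EP
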