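import Groth.Agent.S0034
import Groth.Agent.CurvesA.HHMap
import Groth.Agent.Ega3B.PullTensor
import Groth.Agent.Ega3B.ProjTwist
import Groth.Agent.Ega3A.PChart
import Groth.Agent.Ega2.QCohLocal
import Groth.Prelude.Def_FGA

/-!
# Intersection numbers of the hyperplane class under change of the base field

* `intNum_const`: finite change of the field of constants multiplies intersection numbers by the degree;
* `intNum_proj_bc`: base change along an arbitrary field extension.
-/

set_option autoImplicit false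
universe u

open CategoryTheory CategoryTheory.Limits AlgebraicGeometry

namespace K468.IntBC

open Groth.Agent Groth.Agent.Fdesc.LocGen

section Const

variable (k k' : Type u) [Field k] [Field k'] [Algebra k k'] (X : Scheme.{u})
  [i : X.Over (Spec (CommRingCat.of k))] [i' : X.Over (Spec (CommRingCat.of k'))]

/-- Change of the field of constants. -/
theorem finrank_HH_const
    (h : X ↘ Spec (CommRingCat.of k) =
      (X ↘ Spec (CommRingCat.of k')) ≫ Spec.map (CommRingCat.ofHom (algebraMap k k')))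
    (M : X.Modules) (n : ℕ) :
    Module.finrank k (Coh.HH X M n) = Module.finrank k k' * Module.finrank k' (Coh.HH X M n) := by
  have hg : ∀ a : k, Coh.toGlobal (X ↘ Spec (CommRingCat.of k)) a =
      Coh.toGlobal (X ↘ Spec (CommRingCat.of k')) (algebraMap k k' a) := by
    intro a
    change (X ↘ Spec (CommRingCat.of k)).appTop.hom ((Scheme.ΓSpecIso (CommRingCat.of k)).inv.hom a) =
      (X ↘ Spec (CommRingCat.of k')).appTop.hom ((Scheme.ΓSpecIso (CommRingCat.of k')).inv.hom
        (algebraMap k k' a))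
    rw [h, Scheme.Hom.comp_appTop]
    have := ConcreteCategory.congr_hom
      (Scheme.ΓSpecIso_inv_naturality (CommRingCat.ofHom (algebraMap k k'))) a
    exact congrArg _ this.symm
  have : IsScalarTower k k' (Coh.HH X M n) := by
    refine ⟨fun a b x ↦ ?_⟩
    change Coh.toGlobal (X ↘ Spec (CommRingCat.of k')) (a • b) • x =
      Coh.toGlobal (X ↘ Spec (CommRingCat.of k)) a • Coh.toGlobal (X ↘ Spec (CommRingCat.of k')) b • x
    rw [Algebra.smul_def, map_mul, hg, mul_smul]
  exact (Module.finrank_mul_finrank k k' (Coh.HH X M n)).symm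

theorem eulerCharLE_const
    (h : X ↘ Spec (CommRingCat.of k) =
      (X ↘ Spec (CommRingCat.of k')) ≫ Spec.map (CommRingCat.ofHom (algebraMap k k')))
    (M : X.Modules) (n : ℕ) :
    FGA.eulerCharLE k X M n = Module.finrank k k' * FGA.eulerCharLE k' X M n := by
  unfold FGA.eulerCharLE
  rw [Finset.mul_sum]
  refine Finset.sum_congr rfl fun i _ ↦ ?_
  rw [finrank_HH_const k k' X h M i]
  push_cast
  ring

theorem intNum_const
    (h : X ↘ Spec (CommRingCat.of k) =
      (X ↘ Spec (CommRingCat.of k')) ≫ Spec.map (CommRingCat.ofHom (algebraMap k k')))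
    (d : ℕ) {r : ℕ} (M : Fin r → X.Modules) (F : X.Modules) :
    FGA.intNum k X d M F = Module.finrank k k' * FGA.intNum k' X d M F := by
  unfold FGA.intNum
  rw [Finset.mul_sum]
  refine Finset.sum_congr rfl fun I _ ↦ ?_
  rw [eulerCharLE_const k k' X h]
  ring

end Const

theorem eulerCharLE_congr (k : Type u) [Field k] (X : Scheme.{u}) [X.Over (Spec (CommRingCat.of k))]
    {M N : X.Modules} (e : M ≅ N) (d : ℕ) :
    FGA.eulerCharLE k X M d = FGA.eulerCharLE k X N d := by
  unfold FGA.eulerCharLE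
  refine Finset.sum_congr rfl fun i _ => ?_
  rw [(CurvesA.HHMap.equivOver k e i).finrank_eq]

theorem eulerCharLE_pullback (k : Type u) [Field k] (X : Scheme.{u}) [X.Over (Spec (CommRingCat.of k))]
    [CompactSpace X] [QuasiSeparatedSpace X]
    (k' : Type u) [Field k'] (X' : Scheme.{u}) [X'.Over (Spec (CommRingCat.of k'))]
    (g : X' ⟶ X) (s : Spec (CommRingCat.of k') ⟶ Spec (CommRingCat.of k))
    (hpb : IsPullback g (X' ↘ Spec (CommRingCat.of k')) (X ↘ Spec (CommRingCat.of k)) s)
    (F : X.Modules) (hF : Coh.IsQCoh F) (d : ℕ) :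
    FGA.eulerCharLE k' X' ((Scheme.Modules.pullback g).obj F) d = FGA.eulerCharLE k X F d := by
  obtain ⟨φ, rfl⟩ : ∃ φ, s = Spec.map φ := ⟨_, (Spec.map_preimage s).symm⟩
  let _ : Algebra k k' := φ.hom.toAlgebra
  unfold FGA.eulerCharLE
  refine Finset.sum_congr rfl fun i _ => ?_
  obtain ⟨e⟩ := Groth.Agent.S0034.result k k' X X' g hpb F i
  rw [← e.finrank_eq, Module.finrank_baseChange]

/-- Congruence for `tensorList`. -/
theorem nonempty_tensorList_congr {X : Scheme.{u}} {ι : Type*} (l : List ι) {M N : ι → X.Modules}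
    (h : ∀ i, Nonempty (M i ≅ N i)) : Nonempty (FGA.tensorList (l.map M) ≅ FGA.tensorList (l.map N)) := by
  induction l with
  | nil => exact ⟨Iso.refl _⟩
  | cons i l ih =>
    obtain ⟨e⟩ := ih
    obtain ⟨e'⟩ := h i
    exact ⟨Ega2.Tens.mapTIso e' e⟩

theorem isInvertible_tensorList {X : Scheme.{u}} {ι : Type*} (l : List ι) {M : ι → X.Modules}
    (hM : ∀ i, PicF.IsInvertible (M i)) : PicF.IsInvertible (FGA.tensorList (l.map M)) := by
  induction l with
  | nil => exact isInvertible_structureModule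
  | cons i l ih => exact isInvertible_tensorMod (hM i) ih

theorem nonempty_pull_tensorList {X Y : Scheme.{u}} (g : X ⟶ Y) {ι : Type*} (l : List ι)
    (M : ι → Y.Modules) (hM : ∀ i, PicF.IsInvertible (M i)) :
    Nonempty ((Scheme.Modules.pullback g).obj (FGA.tensorList (l.map M)) ≅
      FGA.tensorList (l.map fun i => (Scheme.Modules.pullback g).obj (M i))) := by
  induction l with
  | nil => exact Ega3B.PullTensor.nonempty_pullUnitIso g
  | cons i l ih =>
    obtain ⟨e⟩ := ih
    exact ⟨Ega3B.PullTensor.pullTensorIso g (hM i) (isInvertible_tensorList l hM) ≪≫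
      Ega2.Tens.mapTIso (Iso.refl _) e⟩

theorem intNum_congr (k : Type u) [Field k] (X : Scheme.{u}) [X.Over (Spec (CommRingCat.of k))]
    {r : ℕ} {M N : Fin r → X.Modules} (h : ∀ i, Nonempty (M i ≅ N i)) {F G : X.Modules} (e : F ≅ G)
    (d : ℕ) : FGA.intNum k X d M F = FGA.intNum k X d N G := by
  unfold FGA.intNum
  refine Finset.sum_congr rfl fun I _ => ?_
  obtain ⟨e'⟩ := nonempty_tensorList_congr (I.sort (· ≤ ·)) h
  rw [eulerCharLE_congr k X (Ega2.Tens.mapTIso e' e)]

/-- **Base change of intersection numbers** of invertible modules. -/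
theorem intNum_pullback (k : Type u) [Field k] (X : Scheme.{u}) [X.Over (Spec (CommRingCat.of k))]
    [CompactSpace X] [QuasiSeparatedSpace X]
    (k' : Type u) [Field k'] (X' : Scheme.{u}) [X'.Over (Spec (CommRingCat.of k'))]
    (g : X' ⟶ X) (s : Spec (CommRingCat.of k') ⟶ Spec (CommRingCat.of k))
    (hpb : IsPullback g (X' ↘ Spec (CommRingCat.of k')) (X ↘ Spec (CommRingCat.of k)) s)
    (d : ℕ) {r : ℕ} (M : Fin r → X.Modules) (hM : ∀ i, PicF.IsInvertible (M i)) (F : X.Modules)
    (hF : PicF.IsInvertible F) :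
    FGA.intNum k' X' d (fun i => (Scheme.Modules.pullback g).obj (M i))
        ((Scheme.Modules.pullback g).obj F) =
      FGA.intNum k X d M F := by
  unfold FGA.intNum
  refine Finset.sum_congr rfl fun I _ => ?_
  obtain ⟨e⟩ := nonempty_pull_tensorList g (I.sort (· ≤ ·)) M hM
  have h1 := isInvertible_tensorList (I.sort (· ≤ ·)) hM
  rw [← eulerCharLE_pullback k X k' X' g s hpb (CohB1.tensorMod (FGA.tensorList ((I.sort (· ≤ ·)).map M)) F)
      (Ega2.QCohLocal.isQCoh_of_isInvertible (isInvertible_tensorMod h1 hF)) d,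
    eulerCharLE_congr k' X' (Ega3B.PullTensor.pullTensorIso g h1 hF ≪≫
      Ega2.Tens.mapTIso e (Iso.refl _))]

section Proj

open Groth.Agent.CohqB.ProjBC

variable {k k' : Type u} [Field k] [Field k'] (φ : k →+* k') {n : ℕ} {X X' : Scheme.{u}}

/-- `ι'^* O(m) ≅ g^* ι^* O(m)`. -/
theorem nonempty_pull_twist {ι : X ⟶ CohB1.ProjSpace n k} {ι' : X' ⟶ CohB1.ProjSpace n k'}
    {g : X' ⟶ X} (h : g ≫ ι = ι' ≫ pmap φ n) (m : ℤ) :
    Nonempty ((Scheme.Modules.pullback g).obj ((Scheme.Modules.pullback ι).obj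
        (Twist.twistProjSpace n k m)) ≅
      (Scheme.Modules.pullback ι').obj (Twist.twistProjSpace n k' m)) :=
  ⟨(Scheme.Modules.pullbackComp g ι).app _ ≪≫
    (Scheme.Modules.pullbackCongr h).app _ ≪≫
    ((Scheme.Modules.pullbackComp ι' (pmap φ n)).app _).symm ≪≫
    (Scheme.Modules.pullback ι').mapIso (Groth.Agent.Ega3A.PChart.pullTwistIso φ n m)⟩

/-- **Base change of the degree** of a projective scheme. -/
theorem intNum_proj_bc [CompactSpace X] [QuasiSeparatedSpace X]
    {ι : X ⟶ CohB1.ProjSpace n k} {ι' : X' ⟶ CohB1.ProjSpace n k'} {g : X' ⟶ X}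
    (h : IsPullback g ι' ι (pmap φ n)) (r : ℕ) (m : ℤ) :
    @FGA.intNum k' _ X' ⟨ι' ≫ CohB1.ProjSpace.toSpec n k'⟩ r r
        (fun _ : Fin r => (Scheme.Modules.pullback ι').obj (Twist.twistProjSpace n k' m))
        (Coh.structureModule X') =
      @FGA.intNum k _ X ⟨ι ≫ CohB1.ProjSpace.toSpec n k⟩ r r
        (fun _ : Fin r => (Scheme.Modules.pullback ι).obj (Twist.twistProjSpace n k m))
        (Coh.structureModule X) := by
  letI : X'.Over (Spec (CommRingCat.of k')) := ⟨ι' ≫ CohB1.ProjSpace.toSpec n k'⟩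
  letI : X.Over (Spec (CommRingCat.of k)) := ⟨ι ≫ CohB1.ProjSpace.toSpec n k⟩
  have hpb : IsPullback g (X' ↘ Spec (CommRingCat.of k')) (X ↘ Spec (CommRingCat.of k))
      (Spec.map (CommRingCat.ofHom φ)) := h.paste_vert (isPullback_pmap φ n)
  have hinv : PicF.IsInvertible ((Scheme.Modules.pullback ι).obj (Twist.twistProjSpace n k m)) :=
    isInvertible_pullback _ (Ega3B.ProjTwist.isInvertible_twistProjSpace n k m)
  have h1 := intNum_pullback k X k' X' g _ hpb r
    (fun _ : Fin r => (Scheme.Modules.pullback ι).obj (Twist.twistProjSpace n k m))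
    (fun _ => hinv) (Coh.structureModule X) isInvertible_structureModule
  obtain ⟨e⟩ := Ega3B.PullTensor.nonempty_pullUnitIso g
  rw [← h1]
  exact (intNum_congr k' X' (fun _ => nonempty_pull_twist φ h.w m) e r).symm

/-- **Change of constants for the degree** of a projective scheme. -/
theorem intNum_proj_const [Algebra k k']
    {ι : X ⟶ CohB1.ProjSpace n k} {ι' : X ⟶ CohB1.ProjSpace n k'}
    (h : ι = ι' ≫ pmap (algebraMap k k') n) (r : ℕ) (m : ℤ) :
    @FGA.intNum k _ X ⟨ι ≫ CohB1.ProjSpace.toSpec n k⟩ r r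
        (fun _ : Fin r => (Scheme.Modules.pullback ι).obj (Twist.twistProjSpace n k m))
        (Coh.structureModule X) =
      Module.finrank k k' * @FGA.intNum k' _ X ⟨ι' ≫ CohB1.ProjSpace.toSpec n k'⟩ r r
        (fun _ : Fin r => (Scheme.Modules.pullback ι').obj (Twist.twistProjSpace n k' m))
        (Coh.structureModule X) := by
  letI : X.Over (Spec (CommRingCat.of k')) := ⟨ι' ≫ CohB1.ProjSpace.toSpec n k'⟩
  letI : X.Over (Spec (CommRingCat.of k)) := ⟨ι ≫ CohB1.ProjSpace.toSpec n k⟩
  have hs : X ↘ Spec (CommRingCat.of k) =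
      (X ↘ Spec (CommRingCat.of k')) ≫ Spec.map (CommRingCat.ofHom (algebraMap k k')) := by
    change ι ≫ CohB1.ProjSpace.toSpec n k = (ι' ≫ CohB1.ProjSpace.toSpec n k') ≫ _
    rw [h, Category.assoc, Category.assoc, (isPullback_pmap (algebraMap k k') n).w]
  rw [intNum_const k k' X hs]
  congr 1
  refine intNum_congr k' X (fun _ => ?_) (Iso.refl _) r
  obtain ⟨e⟩ := nonempty_pull_twist (algebraMap k k') (ι := ι) (ι' := ι') (g := 𝟙 X)
    (by rw [Category.id_comp, h]) m
  exact ⟨((Scheme.Modules.pullbackId X).app _).symm ≪≫ e⟩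

end Proj

end K468.IntBC
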