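import Groth.Agent.Zeta.K468.Absc
import Groth.Agent.VarietyB.DimTop

/-!
# Lower bounds for the abscissa of convergence: formal part
-/

set_option autoImplicit false
universe u

open Filter Topology

namespace K468.EP

variable {P : Type*}

theorem summable_mon_of_LSeriesSummable {N : P → ℕ} (hN : ∀ x, 2 ≤ N x)
    (hfin : ∀ n, {x | N x ≤ n}.Finite) {σ : ℝ}
    (h : LSeriesSummable (fun n => (aN N n : ℂ)) σ) :
    Summable fun α : P →₀ ℕ => ((mon N α : ℕ) : ℝ) ^ (-σ) := by
  classical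
  rw [← (Equiv.sigmaFiberEquiv (mon N)).summable_iff]
  have hnn : ∀ z, 0 ≤ ((fun α : P →₀ ℕ => ((mon N α : ℕ) : ℝ) ^ (-σ)) ∘
      (Equiv.sigmaFiberEquiv (mon N))) z := fun z => Real.rpow_nonneg (Nat.cast_nonneg _) _
  rw [summable_sigma_of_nonneg hnn]
  have hc : ∀ (n : ℕ) (y : {α : P →₀ ℕ // mon N α = n}),
      ((fun α : P →₀ ℕ => ((mon N α : ℕ) : ℝ) ^ (-σ)) ∘ (Equiv.sigmaFiberEquiv (mon N))) ⟨n, y⟩ =
        (n : ℝ) ^ (-σ) := by
    intro n y
    simp only [Function.comp_apply, Equiv.sigmaFiberEquiv_apply]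
    rw [y.2]
  constructor
  · intro n
    have := finite_cycles hN hfin n
    exact Summable.of_finite
  · have h2 := h.norm
    refine h2.congr fun n => ?_
    rw [tsum_congr (hc n), tsum_const]
    by_cases hn : n = 0
    · subst hn
      have h4 : IsEmpty {α : P →₀ ℕ // mon N α = 0} := ⟨fun b => mon_ne_zero hN b.1 b.2⟩
      rw [LSeries.term_zero, norm_zero, Nat.card_of_isEmpty, zero_smul]
    · rw [LSeries.term_of_ne_zero hn, norm_div, Complex.norm_natCast,
        Complex.norm_natCast_cpow_of_pos (Nat.pos_of_ne_zero hn), Complex.ofReal_re,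
        nsmul_eq_mul, Real.rpow_neg (Nat.cast_nonneg _), div_eq_mul_inv]
      rfl

/-- Convergence of the Dirichlet series of effective cycles at a real point implies convergence of
its logarithm. -/
theorem summable_cN {N : P → ℕ} (hN : ∀ x, 2 ≤ N x) (hfin : ∀ n, {x | N x ≤ n}.Finite) {σ : ℝ}
    (h : LSeriesSummable (fun n => (aN N n : ℂ)) σ) :
    Summable fun n : ℕ => cN N n * (n : ℝ) ^ (-σ) := by
  classical
  have h1 := summable_mon_of_LSeriesSummable hN hfin h
  have hinj1 : Function.Injective (fun z : P × ℕ => Finsupp.single z.1 (z.2 + 1)) := by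
    rintro ⟨x, j⟩ ⟨y, k⟩ hxy
    have h2 := (Finsupp.single_eq_single_iff _ _ _ _).mp hxy
    rcases h2 with ⟨h3, h4⟩ | ⟨h3, _⟩
    · simp only at h3 h4
      rw [h3, Nat.succ_injective h4]
    · exact absurd h3 (Nat.succ_ne_zero j)
  have h2 := h1.comp_injective hinj1
  let i : P × ℕ → P × ℕ := fun z => (z.1, N z.1 ^ (z.2 + 1))
  have hinj : Function.Injective i := by
    rintro ⟨x, j⟩ ⟨y, k⟩ h
    simp only [i, Prod.mk.injEq] at h
    obtain ⟨rfl, h2⟩ := h
    have := Nat.pow_right_injective (hN x) h2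
    simp only [Prod.mk.injEq, true_and]
    omega
  have h3 : ∀ z ∉ Set.range i, w (N z.1) z.2 * (z.2 : ℝ) ^ (-σ) = 0 := by
    rintro ⟨x, n⟩ hn
    rw [w_eq_zero, zero_mul]
    intro j hj
    exact hn ⟨(x, j), by simp only [i, hj]⟩
  have h4 : Summable fun z : P × ℕ => w (N z.1) z.2 * (z.2 : ℝ) ^ (-σ) := by
    rw [← hinj.summable_iff h3]
    refine Summable.of_nonneg_of_le (fun z => mul_nonneg (w_nonneg _ _)
      (Real.rpow_nonneg (Nat.cast_nonneg _) _)) (fun z => ?_) h2
    obtain ⟨x, j⟩ := z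
    simp only [Function.comp_apply, i, mon_single]
    exact mul_le_of_le_one_left (Real.rpow_nonneg (Nat.cast_nonneg _) _) (w_le_one _ _)
  have h5 : Summable fun z : ℕ × P => w (N z.2) z.1 * (z.1 : ℝ) ^ (-σ) :=
    (Equiv.prodComm ℕ P).summable_iff.mpr h4
  have h6 := ((summable_prod_of_nonneg (fun z => mul_nonneg (w_nonneg _ _)
    (Real.rpow_nonneg (Nat.cast_nonneg _) _))).1 h5).2
  refine h6.congr fun n => ?_
  change ∑' y : P, w (N y) n * (n : ℝ) ^ (-σ) = (∑' y : P, w (N y) n) * (n : ℝ) ^ (-σ)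
  rw [tsum_mul_right]

theorem summable_w {N : P → ℕ} (hfin : ∀ n, {x | N x ≤ n}.Finite) (n : ℕ) :
    Summable fun x => w (N x) n := by
  refine summable_of_ne_finset_zero (s := (hfin n).toFinset) fun x hx => ?_
  rw [Set.Finite.mem_toFinset] at hx
  apply w_eq_zero
  intro j hj
  apply hx
  change N x ≤ n
  rw [← hj]
  exact Nat.le_self_pow (Nat.succ_ne_zero j) _

theorem cN_le_of_inj {Q : Type*} {N : P → ℕ} {M : Q → ℕ} (φ : Q → P) (hφ : Function.Injective φ)
    (hM : ∀ y, N (φ y) = M y) (hfin : ∀ n, {x | N x ≤ n}.Finite) (n : ℕ) : cN M n ≤ cN N n := by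
  have h1 := summable_w hfin n
  have h2 : cN M n = ∑' y, w (N (φ y)) n := by
    unfold cN
    exact tsum_congr fun y => by rw [hM]
  rw [h2]
  exact tsum_comp_le_tsum_of_inj h1 (fun x => w_nonneg _ _) hφ

end K468.EP

namespace K468.Arith

open K468.EP CategoryTheory AlgebraicGeometry TopologicalSpace

variable {X : Scheme.{u}} {R : Type u} [CommRing R] [Algebra.FiniteType ℤ R]
  (t : X ⟶ Spec (CommRingCat.of R)) [LocallyOfFiniteType t] [QuasiCompact t]

include t in
/-- Northcott finiteness. -/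
theorem northcott (r : ℕ) (hr : topologicalKrullDim X ≤ r) (n : ℕ) :
    {x : Pt X | nX X x ≤ n}.Finite := by
  have h1 := summable_pt t r hr (r + 1) (by linarith)
  have h2 := two_le_nX t
  have h3 := h1.tendsto_cofinite_zero
  have hn : (0 : ℝ) < ((n : ℝ) + 1) ^ (-((r : ℝ) + 1)) := by positivity
  have h4 := h3.eventually (gt_mem_nhds hn)
  refine Set.Finite.subset h4 fun x hx => ?_
  change ¬ ((nX X x : ℝ) ^ (-((r : ℝ) + 1)) < ((n : ℝ) + 1) ^ (-((r : ℝ) + 1)))
  have h5 : nX X x ≤ n := hx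
  have h6 : (0 : ℝ) < nX X x := by
    have := h2 x
    exact_mod_cast (by omega : 0 < nX X x)
  rw [not_lt]
  refine Real.rpow_le_rpow_of_nonpos h6 ?_ ?_
  · have : (nX X x : ℝ) ≤ n := by exact_mod_cast h5
    linarith
  · have : (0 : ℝ) ≤ r := Nat.cast_nonneg r
    linarith

theorem exists_eq_of_iSup {ι : Sort*} (f : ι → WithBot ℕ∞) (r : ℕ) (h : ⨆ i, f i = r) :
    ∃ i, f i = r := by
  by_contra hne
  push Not at hne
  have h1 : ∀ i, f i < r := fun i => lt_of_le_of_ne (h ▸ le_iSup f i) (hne i)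
  rcases r with _ | r
  · have h2 : ∀ i, f i = ⊥ := fun i => by
      have := h1 i
      rw [Nat.cast_zero] at this
      exact WithBot.lt_coe_bot.mp this
    have h3 : ⨆ i, f i = ⊥ := by simp [h2]
    rw [h3] at h
    exact absurd h (by simp)
  · have h2 : ∀ i, f i ≤ (r : ℕ) := fun i => by
      have h3 := h1 i
      have h4 : f i < (r : WithBot ℕ∞) + 1 := by
        rw [Nat.cast_succ] at h3
        exact h3
      exact ENat.WithBot.lt_add_one_iff.mp h4
    have h3 : ⨆ i, f i ≤ (r : ℕ) := iSup_le h2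
    rw [h] at h3
    have : r + 1 ≤ r := by exact_mod_cast h3
    omega

theorem exists_prime_dim (A : Type u) [CommRing A] (r : ℕ) (h : ringKrullDim A = r) :
    ∃ p : Ideal A, p.IsPrime ∧ ringKrullDim (A ⧸ p) = r := by
  obtain ⟨l, hl⟩ := Order.le_krullDim_iff.mp h.ge
  refine ⟨l.head.asIdeal, l.head.isPrime, le_antisymm ?_ ?_⟩
  · rw [← h]
    exact ringKrullDim_le_of_surjective _ Ideal.Quotient.mk_surjective
  · rw [ringKrullDim_quotient, Order.le_krullDim_iff]
    refine ⟨⟨l.length, fun i => ⟨l i, ?_⟩, fun i => l.step i⟩, hl⟩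
    exact l.monotone (Fin.zero_le i)

omit [QuasiCompact t] in
include t in
/-- A domain of finite type over `ℤ` of dimension `dim X` whose points are points of `X`. -/
theorem exists_affine_domain (r : ℕ) (hr : topologicalKrullDim X = r) :
    ∃ (B : Type u) (_ : CommRing B) (_ : IsDomain B) (_ : Algebra.FiniteType ℤ B)
      (_ : Spec (CommRingCat.of B) ⟶ X)
      (φ : MaximalSpectrum B → Pt X), Function.Injective φ ∧ (∀ 𝔪, nX X (φ 𝔪) = nm B 𝔪) ∧
      ringKrullDim B = r := by
  have hJ := Groth.Agent.UnramA.MonoEndo.jacobsonSpace t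
  have hcov : ∀ x : X, ∃ i : X.affineOpens, x ∈ (i : X.Opens) := fun x => by
    obtain ⟨V, hV, hxV, -⟩ := exists_isAffineOpen_mem_and_subset (x := x) (U := ⊤) trivial
    exact ⟨⟨V, hV⟩, hxV⟩
  have h1 := Groth.Agent.VarietyB.DimTop.topologicalKrullDim_eq_iSup_of_cover
    (fun i : X.affineOpens => (i : X.Opens)) hcov
  rw [hr] at h1
  obtain ⟨⟨V, hV⟩, h2⟩ := exists_eq_of_iSup _ r h1.symm
  let A := Γ(X, V)
  have hdimA : ringKrullDim A = r := by
    rw [← PrimeSpectrum.topologicalKrullDim_eq_ringKrullDim]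
    have e1 : IsHomeomorph (hV.fromSpec.isEmbedding.toHomeomorph) :=
      hV.fromSpec.isEmbedding.toHomeomorph.isHomeomorph
    change topologicalKrullDim (Spec A) = r
    rw [IsHomeomorph.topologicalKrullDim_eq _ e1, hV.range_fromSpec]
    exact h2
  obtain ⟨p, hp, hdim⟩ := exists_prime_dim A r hdimA
  have ftA : Algebra.FiniteType ℤ A := finiteType_of_spec (hV.fromSpec ≫ t)
  let B := A ⧸ p
  have ftB : Algebra.FiniteType ℤ B := Algebra.FiniteType.of_surjective
    (Ideal.Quotient.mkₐ ℤ p) Ideal.Quotient.mk_surjective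
  let π : CommRingCat.of A ⟶ CommRingCat.of B := CommRingCat.ofHom (Ideal.Quotient.mk p)
  have hπ : Function.Surjective π.hom := Ideal.Quotient.mk_surjective
  have hci : IsClosedImmersion (Spec.map π) := IsClosedImmersion.spec_of_surjective π hπ
  have c1 : ∀ y, IsClosed ({Spec.map π y} : Set (Spec (CommRingCat.of A))) ↔
      IsClosed ({y} : Set (Spec (CommRingCat.of B))) := by
    have hJ' : JacobsonSpace (Spec (CommRingCat.of A)) := by
      have := Groth.Agent.UnramA.MonoEndo.jacobsonSpace (hV.fromSpec ≫ t)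
      exact this
    exact isClosed_iff_of_isClosedImmersion (Spec.map π)
  have c2 := isClosed_iff_of_isOpenImmersion hV.fromSpec
  refine ⟨B, inferInstance, Ideal.Quotient.isDomain p, ftB, Spec.map π ≫ hV.fromSpec,
    fun 𝔪 => ptMap hV.fromSpec c2 (ptMap (Spec.map π) c1 (specEquiv B 𝔪)), ?_, ?_, hdim⟩
  · exact (ptMap_injective hV.fromSpec c2 hV.fromSpec.isOpenEmbedding.injective).comp
      ((ptMap_injective (Spec.map π) c1 (Spec.map π).isClosedEmbedding.injective).comp
        (specEquiv B).injective)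
  · intro 𝔪
    rw [nX_ptMap, nX_ptMap, nX_specEquiv]

end K468.Arith
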