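import Groth.Agent.Zeta.K468.Birat
import Mathlib.Algebra.Polynomial.Bivariate
import Mathlib.FieldTheory.PrimitiveElement

/-!
# Plane models of function fields of relative dimension one
-/

set_option autoImplicit false
universe u v w

open Polynomial IntermediateField

namespace K468.Cnt

theorem frac_iff {R L : Type*} [CommRing R] [Field L] [Algebra R L] (A : Subalgebra R L) :
    (∀ x : L, ∃ a ∈ A, ∃ b ∈ A, b ≠ 0 ∧ x = a / b) ↔ Subfield.closure (A : Set L) = ⊤ := by
  have hA : Subring.closure (A : Set L) = A.toSubring := Subring.closure_eq A.toSubring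
  constructor
  · intro h
    rw [eq_top_iff]
    intro x _
    obtain ⟨a, ha, b, hb, _, rfl⟩ := h x
    exact div_mem (Subfield.subset_closure ha) (Subfield.subset_closure hb)
  · intro h x
    have hx : x ∈ Subfield.closure (A : Set L) := h ▸ Subfield.mem_top x
    rw [Subfield.mem_closure_iff, hA] at hx
    obtain ⟨a, ha, b, hb, hab⟩ := hx
    by_cases hb0 : b = 0
    · exact ⟨0, A.zero_mem, 1, A.one_mem, one_ne_zero, by rw [← hab, hb0]; simp⟩
    · exact ⟨a, ha, b, hb, hb0, hab.symm⟩

/-- A plane model, with a monic equation, of a function field in one variable. -/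
theorem exists_model {B M L : Type*} [CommRing B] [IsDomain B] [Field M] [Field L] [Algebra B M]
    [IsFractionRing B M] [Algebra B L] [Algebra M L] [IsScalarTower B M L] (x : L)
    (hx : Transcendental M x) [FiniteDimensional M⟮x⟯ L] [Algebra.IsSeparable M⟮x⟯ L] :
    ∃ (y : L) (f : B[X][X]), f.Monic ∧
      (∀ g : B[X][X], eval₂ (aeval x : B[X] →ₐ[B] L).toRingHom y g = 0 ↔ f ∣ g) ∧
      Subfield.closure (Set.range (eval₂ (aeval x : B[X] →ₐ[B] L).toRingHom y)) = ⊤ := by
  classical
  let S : B[X] →+* L := (aeval x : B[X] →ₐ[B] L).toRingHom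
  let S' : B[X] →+* M⟮x⟯ := eval₂RingHom ((algebraMap M M⟮x⟯).comp (algebraMap B M))
    (AdjoinSimple.gen M x)
  have hSS' : ∀ p, algebraMap M⟮x⟯ L (S' p) = S p := by
    intro p
    change algebraMap M⟮x⟯ L (eval₂ _ _ p) = eval₂ _ _ p
    rw [hom_eval₂, AdjoinSimple.algebraMap_gen]
    congr 1
    ext b
    change _ = algebraMap B L b
    rw [IsScalarTower.algebraMap_apply B M L]
    rfl
  have hSM : ∀ p : B[X], S p = aeval x (p.map (algebraMap B M)) := fun p => by
    rw [aeval_map_algebraMap]; rfl
  have hS : Function.Injective S := by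
    rw [injective_iff_map_eq_zero]
    intro p hp
    rw [hSM] at hp
    have h1 := (transcendental_iff.mp hx) _ hp
    exact (Polynomial.map_eq_zero_iff (IsFractionRing.injective B M)).mp h1
  have hS'0 : ∀ p, S' p = 0 → p = 0 := by
    intro p hp
    apply (injective_iff_map_eq_zero S).mp hS
    rw [← hSS', hp, map_zero]
  -- elements of `M(x)` as fractions
  have hE : ∀ e : M⟮x⟯, ∃ p q : B[X], q ≠ 0 ∧ S' q * e = S' p := by
    intro e
    obtain ⟨r, s, hrs⟩ := (mem_adjoin_simple_iff M (e : L)).mp e.2
    by_cases hs : aeval x s = 0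
    · rw [hs, div_zero] at hrs
      refine ⟨0, 1, one_ne_zero, ?_⟩
      have : e = 0 := Subtype.ext hrs
      rw [this, mul_zero, map_zero]
    · obtain ⟨b, hbm, hb⟩ := IsLocalization.integerNormalization_spec (nonZeroDivisors B) r
      obtain ⟨c, hcm, hc⟩ := IsLocalization.integerNormalization_spec (nonZeroDivisors B) s
      set r' := IsLocalization.integerNormalization (nonZeroDivisors B) r
      set s' := IsLocalization.integerNormalization (nonZeroDivisors B) s
      have hb0 : (b : B) ≠ 0 := nonZeroDivisors.ne_zero hbm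
      have hc0 : (c : B) ≠ 0 := nonZeroDivisors.ne_zero hcm
      have inj : Function.Injective (algebraMap B L) := by
        rw [IsScalarTower.algebraMap_eq B M L]
        exact (algebraMap M L).injective.comp (IsFractionRing.injective B M)
      have hb0' : algebraMap B L b ≠ 0 := (map_ne_zero_iff _ inj).mpr hb0
      have hc0' : algebraMap B L c ≠ 0 := (map_ne_zero_iff _ inj).mpr hc0
      have hr' : S r' = algebraMap B L b * aeval x r := by
        rw [hSM, hb, ← algebraMap_smul M b r, map_smul, Algebra.smul_def,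
          ← IsScalarTower.algebraMap_apply]
      have hs' : S s' = algebraMap B L c * aeval x s := by
        rw [hSM, hc, ← algebraMap_smul M c s, map_smul, Algebra.smul_def,
          ← IsScalarTower.algebraMap_apply]
      have hSC : ∀ b : B, S (C b) = algebraMap B L b := fun b => aeval_C x b
      refine ⟨r' * C (c : B), s' * C (b : B), ?_, ?_⟩
      · intro h0
        have h1 : S (s' * C (b : B)) = 0 := by rw [h0, map_zero]
        rw [map_mul, hs', hSC] at h1
        exact (mul_ne_zero (mul_ne_zero hc0' hs) hb0') h1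
      · apply (algebraMap M⟮x⟯ L).injective
        rw [map_mul, hSS', hSS', map_mul, map_mul, hs', hr', hSC, hSC]
        change _ * (e : L) = _
        rw [hrs]
        field_simp
  obtain ⟨y0, hy0⟩ := Field.exists_primitive_element M⟮x⟯ L
  let p0 := minpoly M⟮x⟯ y0
  have hint : IsIntegral M⟮x⟯ y0 := Algebra.IsIntegral.isIntegral y0
  have hp0 : p0.Monic := minpoly.monic hint
  let d := p0.natDegree
  choose P Q hQ hPQ using hE
  let c : B[X] := ∏ i ∈ Finset.range d, Q (p0.coeff i)
  let n : ℕ → B[X] := fun i => P (p0.coeff i) * ∏ j ∈ (Finset.range d).erase i, Q (p0.coeff j)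
  have hc0 : c ≠ 0 := Finset.prod_ne_zero_iff.mpr fun i _ => hQ _
  have hn : ∀ i ∈ Finset.range d, S' (n i) = S' c * p0.coeff i := by
    intro i hi
    have h1 : c = Q (p0.coeff i) * ∏ j ∈ (Finset.range d).erase i, Q (p0.coeff j) :=
      (Finset.mul_prod_erase _ _ hi).symm
    rw [h1, map_mul, map_mul, ← hPQ]
    ring
  let f : B[X][X] := X ^ d + ∑ i ∈ Finset.range d, C (c ^ (d - i - 1) * n i) * X ^ i
  let y : L := S c * y0
  have hdeg : degree (∑ i ∈ Finset.range d, C (c ^ (d - i - 1) * n i) * X ^ i) < (d : WithBot ℕ) := by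
    rw [Finset.sum_range]
    exact degree_sum_fin_lt _
  have hf : f.Monic := monic_X_pow_add hdeg
  have hfd : f.degree = d := by
    rw [← degree_X_pow (R := B[X]) d]
    exact degree_add_eq_left_of_degree_lt (by rw [degree_X_pow]; exact hdeg)
  have hfy : eval₂ S y f = 0 := by
    have h1 : aeval y0 p0 = 0 := minpoly.aeval _ _
    rw [hp0.as_sum, map_add, map_pow, aeval_X, map_sum] at h1
    simp only [map_mul, aeval_C, map_pow, aeval_X] at h1
    simp only [f, eval₂_add, eval₂_X_pow, eval₂_finsetSum, eval₂_mul, eval₂_C, eval₂_X_pow]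
    have h2 : y ^ d + ∑ i ∈ Finset.range d, S (c ^ (d - i - 1) * n i) * y ^ i =
        S c ^ d * (y0 ^ p0.natDegree + ∑ i ∈ Finset.range p0.natDegree,
          (algebraMap M⟮x⟯ L) (p0.coeff i) * y0 ^ i) := by
      rw [mul_add, Finset.mul_sum]
      congr 1
      · exact mul_pow _ _ _
      · refine Finset.sum_congr rfl fun i hi => ?_
        have h3 : S (n i) = S c * algebraMap M⟮x⟯ L (p0.coeff i) := by
          rw [← hSS', ← hSS', hn i hi, map_mul]
        have h4 : d = (d - i - 1) + 1 + i := by
          have := Finset.mem_range.mp hi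
          omega
        rw [map_mul, h3, map_pow, mul_pow]
        conv_rhs => rw [h4]
        rw [pow_add, pow_add, pow_one]
        ring
    rw [h2, h1, mul_zero]
  refine ⟨y, f, hf, fun g => ⟨fun hg => ?_, ?_⟩, ?_⟩
  · rw [← Polynomial.modByMonic_eq_zero_iff_dvd hf]
    have h1 : eval₂ S y (g %ₘ f) = 0 := by
      have h2 := Polynomial.modByMonic_add_div g f
      have h3 := congrArg (eval₂ S y) h2
      rw [eval₂_add, eval₂_mul, hfy, zero_mul, add_zero] at h3
      exact h3.trans hg
    set r := g %ₘ f with hr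
    have hrd : r.degree < d := by
      rw [← hfd]
      exact degree_modByMonic_lt g hf
    let G : M⟮x⟯[X] := (r.map S').comp (C (S' c) * X)
    have hG : aeval y0 G = 0 := by
      rw [← h1]
      change aeval y0 ((r.map S').comp (C (S' c) * X)) = _
      rw [aeval_def, eval₂_comp, eval₂_mul, eval₂_C, eval₂_X, hSS', eval₂_map]
      congr 1
      ext p <;> simp [hSS']
    have hG0 : G = 0 := by
      by_contra hne
      have h2 := minpoly.degree_le_of_ne_zero M⟮x⟯ y0 hne hG
      have h3 : G.degree < d := by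
        rw [degree_lt_iff_coeff_zero]
        intro m hm
        rw [comp_C_mul_X_coeff, coeff_map]
        rw [(degree_lt_iff_coeff_zero _ _).mp hrd m hm, map_zero, zero_mul]
      rw [degree_eq_natDegree hp0.ne_zero] at h2
      exact absurd (h2.trans_lt h3) (lt_irrefl _)
    ext1 i
    have h2 : G.coeff i = 0 := by rw [hG0, coeff_zero]
    rw [comp_C_mul_X_coeff, coeff_map, mul_eq_zero] at h2
    rcases h2 with h2 | h2
    · rw [hS'0 _ h2, coeff_zero]
    · exact absurd h2 (pow_ne_zero i fun h => hc0 (hS'0 _ h))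
  · rintro ⟨k, rfl⟩
    change eval₂ S y (f * k) = 0
    rw [eval₂_mul, hfy, zero_mul]
  · set T := Subfield.closure (Set.range (eval₂ S y)) with hT
    have hST : ∀ p, S p ∈ T := fun p => Subfield.subset_closure ⟨C p, eval₂_C _ _⟩
    have hET : ∀ e : M⟮x⟯, algebraMap M⟮x⟯ L e ∈ T := by
      intro e
      have h1 := congrArg (algebraMap M⟮x⟯ L) (hPQ e)
      rw [map_mul, hSS', hSS'] at h1
      have h2 : S (Q e) ≠ 0 := (map_ne_zero_iff _ hS).mpr (hQ e)
      rw [eq_div_of_mul_eq h2 ((mul_comm _ _).trans h1)]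
      exact div_mem (hST _) (hST _)
    have hy0T : y0 ∈ T := by
      have h1 : y ∈ T := Subfield.subset_closure ⟨X, eval₂_X _ _⟩
      have h2 : S c ≠ 0 := (map_ne_zero_iff _ hS).mpr hc0
      have h3 : y0 = y / S c := by
        rw [eq_div_iff h2, mul_comm]
      rw [h3]
      exact div_mem h1 (hST _)
    let T' : IntermediateField M⟮x⟯ L := T.toIntermediateField hET
    have h1 : M⟮x⟯⟮y0⟯ ≤ T' := adjoin_simple_le_iff.mpr hy0T
    rw [hy0, top_le_iff] at h1
    rw [eq_top_iff]
    intro z _
    have h2 : z ∈ T' := h1 ▸ mem_top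
    exact h2

end K468.Cnt
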