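import Groth.Agent.Zeta.K468.Absc

/-!
# Multiplicativity of the zeta function of an arithmetic scheme
-/

set_option autoImplicit false
universe u v w

open CategoryTheory AlgebraicGeometry TopologicalSpace Topology

namespace K468.Arith

open K468.EP

section

variable {X : Scheme.{u}} {ι : Type*} (Y : ι → Scheme.{u}) (g : ∀ i, Y i ⟶ X)
  (hinj : ∀ i, Function.Injective (g i))
  (hcl : ∀ i, ∀ y, IsClosed ({g i y} : Set X) ↔ IsClosed ({y} : Set (Y i)))
  (hpart : ∀ x : X, IsClosed ({x} : Set X) → ∃! i, x ∈ Set.range (g i))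

include hinj hcl hpart in
/-- Closed points of a partition. -/
theorem bijective_sigma :
    Function.Bijective (fun z : Σ i, Pt (Y i) => ptMap (g z.1) (hcl z.1) z.2) := by
  constructor
  · rintro ⟨i, y⟩ ⟨i', y'⟩ h
    have h1 : g i y.1 = g i' y'.1 := congrArg Subtype.val h
    obtain ⟨j, -, hj⟩ := hpart (g i y.1) ((hcl i y.1).mpr y.2)
    have h2 : i = j := hj i ⟨y.1, rfl⟩
    have h3 : i' = j := hj i' ⟨y'.1, h1.symm⟩
    obtain rfl := h2.trans h3.symm
    have h4 : y = y' := Subtype.ext (hinj i h1)
    rw [h4]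
  · intro x
    obtain ⟨i, ⟨y, hy⟩, -⟩ := hpart x.1 x.2
    exact ⟨⟨i, y, (hcl i y).mp (by rw [hy]; exact x.2)⟩, Subtype.ext hy⟩

variable {R : Type u} [CommRing R] [Algebra.FiniteType ℤ R]
  (t : X ⟶ Spec (CommRingCat.of R)) [LocallyOfFiniteType t] [QuasiCompact t]

include hinj hcl hpart t in
/-- **Multiplicativity** over a finite partition into locally closed pieces. -/
theorem LSeries_prod [Fintype ι] [∀ i, SurjectiveOnStalks (g i)] (r : ℕ)
    (hr : topologicalKrullDim X ≤ r) (s : ℂ) (hs : (r : ℝ) < s.re) :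
    LSeries (Zeta.arithCoeff X) s = ∏ i, LSeries (Zeta.arithCoeff (Y i)) s := by
  classical
  obtain ⟨σ, h1, h2⟩ := exists_between hs
  have hσ : 0 < σ := lt_of_le_of_lt (Nat.cast_nonneg r) h1
  have hsum := summable_pt t r hr σ h1
  have hN := two_le_nX t
  have hN' : ∀ i, ∀ y : Pt (Y i), 2 ≤ nX (Y i) y := fun i y => by
    rw [← nX_ptMap (g i) (hcl i)]; exact hN _
  have hsum' : ∀ i, Summable fun y : Pt (Y i) => (nX (Y i) y : ℝ) ^ (-σ) := fun i => by
    refine (hsum.comp_injective (ptMap_injective (g i) (hcl i) (hinj i))).congr fun y => ?_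
    rw [Function.comp_apply, nX_ptMap]
  rw [arithCoeff_eq, (LSeries_aN hN hσ hsum h2.le).2]
  have h3 : ∀ i, LSeries (Zeta.arithCoeff (Y i)) s =
      Complex.exp (∑' y : Pt (Y i), -Complex.log (1 - (nX (Y i) y : ℂ) ^ (-s))) := fun i => by
    rw [arithCoeff_eq, (LSeries_aN (hN' i) hσ (hsum' i) h2.le).2]
  simp only [h3]
  rw [← Complex.exp_sum]
  congr 1
  let e : (Σ i, Pt (Y i)) ≃ Pt X := Equiv.ofBijective _ (bijective_sigma Y g hinj hcl hpart)
  have h4 : ∀ z : Σ i, Pt (Y i), nX X (e z) = nX (Y z.1) z.2 := fun z =>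
    nX_ptMap (g z.1) (hcl z.1) z.2
  have h5 : Summable fun x : Pt X => -Complex.log (1 - (nX X x : ℂ) ^ (-s)) := by
    have h6 : Summable fun x : Pt X => Complex.log (1 + -(nX X x : ℂ) ^ (-s)) :=
      Complex.summable_log_one_add_of_summable
        (by simpa using (summable_norm_cpow hN hsum h2.le).of_norm.neg)
    simpa [sub_eq_add_neg] using h6.neg
  rw [← e.tsum_eq]
  have h7 : Summable fun z : Σ i, Pt (Y i) => -Complex.log (1 - (nX X (e z) : ℂ) ^ (-s)) :=
    h5.comp_injective e.injective
  simp only [h4] at h7 ⊢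
  rw [h7.tsum_sigma, tsum_fintype]

include t in
/-- Multiplicativity for an open subscheme and a closed complement. -/
theorem LSeries_open_closed {U Z : Scheme.{u}} (j : U ⟶ X) (i : Z ⟶ X) [IsOpenImmersion j]
    [IsClosedImmersion i] (h : Set.range i = (Set.range j)ᶜ) (r : ℕ)
    (hr : topologicalKrullDim X ≤ r) (s : ℂ) (hs : (r : ℝ) < s.re) :
    LSeries (Zeta.arithCoeff X) s =
      LSeries (Zeta.arithCoeff U) s * LSeries (Zeta.arithCoeff Z) s := by
  have hJ := Groth.Agent.UnramA.MonoEndo.jacobsonSpace t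
  let Y : Bool → Scheme.{u} := fun b => bif b then U else Z
  let g : ∀ b, Y b ⟶ X := fun b => match b with
    | true => j
    | false => i
  have surj : ∀ b, SurjectiveOnStalks (g b) := fun b => match b with
    | true => (inferInstance : SurjectiveOnStalks j)
    | false => (inferInstance : SurjectiveOnStalks i)
  have h1 := LSeries_prod Y g
    (fun b => match b with
      | true => j.isOpenEmbedding.injective
      | false => i.isClosedEmbedding.injective)
    (fun b => match b with
      | true => isClosed_iff_of_isOpenImmersion j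
      | false => isClosed_iff_of_isClosedImmersion i)
    (fun x _ => by
      by_cases hx : x ∈ Set.range j
      · refine ⟨true, hx, fun b hb => ?_⟩
        cases b
        · have : x ∈ Set.range i := hb
          rw [h] at this
          exact absurd hx this
        · rfl
      · refine ⟨false, ?_, fun b hb => ?_⟩
        · change x ∈ Set.range i
          rw [h]; exact hx
        · cases b
          · rfl
          · exact absurd hb hx)
    t r hr s hs
  rw [h1, Fintype.prod_bool]
  rfl

end

end K468.Arith
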