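import Groth.Agent.Zeta.K468.Summ2
import Groth.Agent.Zeta.K468.Basic

/-!
# Closed points of arithmetic schemes and their norms
-/

set_option autoImplicit false
universe u v w

open CategoryTheory AlgebraicGeometry TopologicalSpace Topology

namespace K468.Arith

open K468.EP

/-- The closed points. -/
def Pt (X : Scheme.{u}) : Type u := {x : X // IsClosed ({x} : Set X)}

/-- The norm of a closed point. -/
noncomputable def nX (X : Scheme.{u}) (x : Pt X) : ℕ := Nat.card (X.residueField x.1)

theorem cycleNormCount_eq (X : Scheme.{u}) (n : ℕ) : Zeta.cycleNormCount X n = aN (nX X) n := by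
  classical
  let S : Set X := {x | IsClosed ({x} : Set X)}
  let e := Finsupp.restrictSupportEquiv S ℕ
  have key : ∀ f : {f : X →₀ ℕ // (f.support : Set X) ⊆ S},
      mon (nX X) (e f : S →₀ ℕ) = f.1.prod (fun x m => Nat.card (X.residueField x) ^ m) := by
    intro f
    exact Finsupp.prod_subtypeDomain_index (p := fun x => x ∈ S)
      (h := fun x m => Nat.card (X.residueField x) ^ m) fun x hx => f.2 hx
  refine Nat.card_congr ?_
  exact
    { toFun := fun f => ⟨e ⟨f.1, fun x hx => f.2.1 x hx⟩, by rw [key]; exact f.2.2⟩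
      invFun := fun α => ⟨(e.symm α.1).1, fun x hx => (e.symm α.1).2 hx, by
        rw [← key, Equiv.apply_symm_apply]; exact α.2⟩
      left_inv := fun f => by
        apply Subtype.ext
        change (e.symm (e _)).1 = f.1
        rw [Equiv.symm_apply_apply]
      right_inv := fun α => by
        apply Subtype.ext
        change e ⟨(e.symm α.1).1, _⟩ = α.1
        exact Equiv.apply_symm_apply e α.1 }

theorem arithCoeff_eq (X : Scheme.{u}) : Zeta.arithCoeff X = fun n => (aN (nX X) n : ℂ) := by
  funext n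
  rw [Zeta.arithCoeff, cycleNormCount_eq]

section Affine

variable (A : Type u) [CommRing A]

/-- Closed points of an affine scheme. -/
def specEquiv : MaximalSpectrum A ≃ Pt (Spec (CommRingCat.of A)) where
  toFun 𝔪 := ⟨⟨𝔪.asIdeal, 𝔪.isMaximal.isPrime⟩,
    (PrimeSpectrum.isClosed_singleton_iff_isMaximal _).mpr 𝔪.isMaximal⟩
  invFun x := ⟨x.1.asIdeal, (PrimeSpectrum.isClosed_singleton_iff_isMaximal x.1).mp x.2⟩
  left_inv 𝔪 := rfl
  right_inv x := rfl

theorem nX_specEquiv (𝔪 : MaximalSpectrum A) :
    nX (Spec (CommRingCat.of A)) (specEquiv A 𝔪) = nm A 𝔪 := by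
  have := 𝔪.isMaximal
  rw [nX, nm]
  have e1 := (Scheme.Spec.residueFieldIso (CommRingCat.of A)
    (specEquiv A 𝔪).1).commRingCatIsoToRingEquiv
  rw [Nat.card_congr e1.toEquiv]
  symm
  exact Nat.card_congr (Equiv.ofBijective _ 𝔪.asIdeal.bijective_algebraMap_quotient_residueField)

end Affine

section Map

variable {X Y : Scheme.{u}} (g : Y ⟶ X)

theorem isClosed_iff_of_isOpenImmersion [IsOpenImmersion g] [JacobsonSpace X] (y : Y) :
    IsClosed ({g y} : Set X) ↔ IsClosed ({y} : Set Y) := by
  have h := g.isOpenEmbedding.preimage_closedPoints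
  exact Set.ext_iff.mp h y

theorem isClosed_iff_of_isClosedImmersion [IsClosedImmersion g] (y : Y) :
    IsClosed ({g y} : Set X) ↔ IsClosed ({y} : Set Y) := by
  have h := g.isClosedEmbedding.preimage_closedPoints
  exact Set.ext_iff.mp h y

/-- The induced map on closed points. -/
def ptMap (hg : ∀ y, IsClosed ({g y} : Set X) ↔ IsClosed ({y} : Set Y)) (y : Pt Y) : Pt X :=
  ⟨g y.1, (hg y.1).mpr y.2⟩

theorem ptMap_injective (hg : ∀ y, IsClosed ({g y} : Set X) ↔ IsClosed ({y} : Set Y))
    (hinj : Function.Injective g) : Function.Injective (ptMap g hg) := fun y y' h =>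
  Subtype.ext (hinj (congrArg Subtype.val h))

theorem range_ptMap (hg : ∀ y, IsClosed ({g y} : Set X) ↔ IsClosed ({y} : Set Y)) :
    Set.range (ptMap g hg) = {x | x.1 ∈ Set.range g} := by
  ext x
  constructor
  · rintro ⟨y, rfl⟩
    exact ⟨y.1, rfl⟩
  · rintro ⟨y, hy⟩
    refine ⟨⟨y, (hg y).mp ?_⟩, Subtype.ext hy⟩
    rw [hy]; exact x.2

theorem nX_ptMap [SurjectiveOnStalks g]
    (hg : ∀ y, IsClosed ({g y} : Set X) ↔ IsClosed ({y} : Set Y)) (y : Pt Y) :
    nX X (ptMap g hg y) = nX Y y :=
  Nat.card_congr (Equiv.ofBijective _ (K468.Basic.residueFieldMap_bijective g y.1))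

end Map

section Arith

variable {X : Scheme.{u}} {R : Type u} [CommRing R] [Algebra.FiniteType ℤ R]
  (t : X ⟶ Spec (CommRingCat.of R)) [LocallyOfFiniteType t]

include t in
theorem two_le_nX (x : Pt X) : 2 ≤ nX X x := by
  have : Finite (X.residueField x.1) :=
    Groth.Agent.UnramA.MonoEndo.finite_residueField t x.1 x.2
  exact Finite.one_lt_card

theorem finiteType_of_spec {A : CommRingCat.{u}} (g : Spec A ⟶ Spec (CommRingCat.of R))
    [LocallyOfFiniteType g] : Algebra.FiniteType ℤ A := by
  obtain ⟨φ, hφ⟩ := Spec.map_surjective g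
  have h2 : LocallyOfFiniteType (Spec.map φ) := by rw [hφ]; infer_instance
  rw [HasRingHomProperty.Spec_iff (P := @LocallyOfFiniteType)] at h2
  exact Groth.Agent.UnramA.MonoEndo.finiteType_int_comp _ h2

include t in
/-- **Absolute convergence**: `∑ N(x) ^ (-σ)` converges for `σ > dim X`. -/
theorem summable_pt [QuasiCompact t] (r : ℕ) (hr : topologicalKrullDim X ≤ r) (σ : ℝ)
    (hσ : r < σ) : Summable fun x : Pt X => (nX X x : ℝ) ^ (-σ) := by
  have hJ := Groth.Agent.UnramA.MonoEndo.jacobsonSpace t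
  have hc : CompactSpace X := (quasiCompact_iff_compactSpace (f := t)).mp inferInstance
  let 𝒰 := X.affineCover.finiteSubcover
  have hfin : Fintype 𝒰.I₀ := Fintype.ofFinite _
  let f : Pt X → ℝ := fun x => (nX X x : ℝ) ^ (-σ)
  have hf : ∀ x, 0 ≤ f x := fun x => Real.rpow_nonneg (Nat.cast_nonneg _) _
  let T : 𝒰.I₀ → Set (Pt X) := fun i => {x | x.1 ∈ Set.range (𝒰.f i)}
  have key : ∀ i, Summable ((T i).indicator f) := by
    intro i
    have : IsAffine (𝒰.X i) := by dsimp [𝒰]; infer_instance
    let A : CommRingCat := Γ(𝒰.X i, ⊤)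
    let j : Spec A ⟶ X := (𝒰.X i).isoSpec.inv ≫ 𝒰.f i
    have ftA : Algebra.FiniteType ℤ A := finiteType_of_spec (j ≫ t)
    have hrange : Set.range j = Set.range (𝒰.f i) := by
      simp only [j, Scheme.Hom.comp_base, TopCat.coe_comp, Set.range_comp]
      rw [Set.range_eq_univ.mpr, Set.image_univ]
      exact (𝒰.X i).isoSpec.inv.surjective
    have hdim : ringKrullDim A ≤ r := by
      rw [← PrimeSpectrum.topologicalKrullDim_eq_ringKrullDim]
      exact (j.isOpenEmbedding.isInducing.topologicalKrullDim_le).trans hr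
    have h1 := summable_maxSpec A r hdim σ hσ
    have hg := isClosed_iff_of_isOpenImmersion j
    have h2 : Set.range (ptMap j hg) = T i := by
      rw [range_ptMap, hrange]
    have h3 : Function.Injective ((ptMap j hg) ∘ (specEquiv A)) :=
      (ptMap_injective j hg j.isOpenEmbedding.injective).comp (specEquiv A).injective
    have h4 : ∀ x ∉ Set.range ((ptMap j hg) ∘ (specEquiv A)), (T i).indicator f x = 0 := by
      intro x hx
      apply Set.indicator_of_notMem
      rwa [(specEquiv A).surjective.range_comp, h2] at hx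
    rw [← h3.summable_iff h4]
    refine h1.congr fun 𝔪 => ?_
    have h5 : (ptMap j hg ∘ specEquiv A) 𝔪 ∈ T i := by
      rw [← h2]; exact ⟨specEquiv A 𝔪, rfl⟩
    rw [Function.comp_apply, Set.indicator_of_mem h5]
    simp only [f, Function.comp_apply]
    rw [nX_ptMap, nX_specEquiv]
  refine Summable.of_nonneg_of_le hf (fun x => ?_) (summable_sum (s := Finset.univ)
    fun i _ => key i)
  obtain ⟨i, y, hy⟩ := 𝒰.exists_eq x.1
  have h6 : x ∈ T i := ⟨y, hy⟩
  calc f x = (T i).indicator f x := (Set.indicator_of_mem h6 f).symm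
    _ ≤ _ := Finset.single_le_sum (f := fun i => (T i).indicator f x)
        (fun i _ => Set.indicator_nonneg (fun x _ => hf x) x) (Finset.mem_univ i)

end Arith

end K468.Arith
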