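import Groth.Agent.Zeta.K468.Model
import Groth.Agent.Ega41.SepExt
import Groth.Agent.FlatB.GenFibDom
import Groth.Agent.VarietyA.GeomIrrF
import Mathlib.RingTheory.TensorProduct.Quotient
import Mathlib.RingTheory.TensorProduct.MvPolynomial
import Mathlib.RingTheory.Smooth.Field

/-!
# The Lang–Weil estimate in relative dimension one
-/

set_option autoImplicit false
universe u v w

open IntermediateField
open scoped TensorProduct

namespace K468.Cnt

/-- The uniform point bound for plane curves of bounded degree. -/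
def PCB : Prop := ∀ d : ℕ, ∃ C : ℝ, ∀ (F : Type u) [Field F] [Finite F] (f : MvPolynomial (Fin 2) F),
  f.totalDegree ≤ d → Irreducible (f.map (algebraMap F (AlgebraicClosure F))) →
    |(Nat.card {x : Fin 2 → F // MvPolynomial.eval x f = 0} : ℝ) - Nat.card F| ≤
      C * Real.sqrt (Nat.card F)

theorem irreducible_of_isDomain_tensor {B Ω σ : Type*} [CommRing B] [Field Ω] [Algebra B Ω]
    (f : MvPolynomial σ B) (hf : MvPolynomial.map (algebraMap B Ω) f ≠ 0)
    [h : IsDomain (Ω ⊗[B] (MvPolynomial σ B ⧸ Ideal.span {f}))] :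
    Irreducible (MvPolynomial.map (algebraMap B Ω) f) := by
  let e := Algebra.TensorProduct.tensorQuotientEquiv (R := B) Ω (MvPolynomial σ B) Ω (Ideal.span {f})
  have h1 : IsDomain ((Ω ⊗[B] MvPolynomial σ B) ⧸ (Ideal.span {f}).map
      (Algebra.TensorProduct.includeRight (A := Ω) (R := B))) := e.symm.toMulEquiv.isDomain _
  rw [Ideal.Quotient.isDomain_iff_prime, Ideal.map_span, Set.image_singleton] at h1
  have h2 : MvPolynomial.algebraTensorAlgEquiv B Ω
      (Algebra.TensorProduct.includeRight (A := Ω) (R := B) f) =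
      MvPolynomial.map (algebraMap B Ω) f := by
    rw [Algebra.TensorProduct.includeRight_apply, MvPolynomial.algebraTensorAlgEquiv_tmul, one_smul]
  have h3 : (Algebra.TensorProduct.includeRight (A := Ω) (R := B) f) ≠ 0 := by
    intro h0
    rw [h0, map_zero] at h2
    exact hf h2.symm
  have h4 := (Ideal.span_singleton_prime h3).mp h1
  have h5 : Prime (MvPolynomial.map (algebraMap B Ω) f) := by
    rw [← h2]
    exact (MulEquiv.prime_iff (MvPolynomial.algebraTensorAlgEquiv (σ := σ) B Ω).toMulEquiv).mpr h4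
  exact h5.irreducible

theorem N_quot {B F σ : Type*} [CommRing B] [Field F] (ψ : B →+* F) (f : MvPolynomial σ B) :
    N (MvPolynomial σ B ⧸ Ideal.span {f}) ψ =
      Nat.card {x : σ → F // MvPolynomial.eval x (MvPolynomial.map ψ f) = 0} := by
  refine Nat.card_congr ?_
  have key : ∀ χ : (MvPolynomial σ B ⧸ Ideal.span {f}) →+* F,
      χ.comp (algebraMap B _) = ψ → ∀ p : MvPolynomial σ B, χ (Ideal.Quotient.mk _ p) =
        MvPolynomial.eval (fun i => χ (Ideal.Quotient.mk _ (MvPolynomial.X i)))
          (MvPolynomial.map ψ p) := by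
    intro χ hχ p
    rw [MvPolynomial.eval_map]
    have h1 : χ.comp (Ideal.Quotient.mk (Ideal.span {f})) = MvPolynomial.eval₂Hom ψ
        (fun i => χ (Ideal.Quotient.mk _ (MvPolynomial.X i))) := by
      apply MvPolynomial.ringHom_ext
      · intro b
        rw [MvPolynomial.coe_eval₂Hom, MvPolynomial.eval₂_C, ← hχ]
        rfl
      · intro i
        rw [MvPolynomial.coe_eval₂Hom, MvPolynomial.eval₂_X]
        rfl
    exact RingHom.congr_fun h1 p
  exact
    { toFun := fun χ => ⟨fun i => χ.1 (Ideal.Quotient.mk _ (MvPolynomial.X i)), by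
        rw [← key χ.1 χ.2, Ideal.Quotient.eq_zero_iff_mem.mpr (Ideal.mem_span_singleton_self f),
          map_zero]⟩
      invFun := fun x => ⟨Ideal.Quotient.lift _ (MvPolynomial.eval₂Hom ψ x.1) (fun a ha => by
        obtain ⟨b, rfl⟩ := Ideal.mem_span_singleton'.mp ha
        rw [map_mul, MvPolynomial.coe_eval₂Hom, ← MvPolynomial.eval_map,
          ← MvPolynomial.eval_map, x.2, mul_zero]), by
        ext b
        exact MvPolynomial.eval₂_C _ _ _⟩
      left_inv := fun χ => by
        apply Subtype.ext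
        apply Ideal.Quotient.ringHom_ext
        apply MvPolynomial.ringHom_ext
        · intro b
          simp only [RingHom.comp_apply, Ideal.Quotient.lift_mk]
          rw [MvPolynomial.coe_eval₂Hom, MvPolynomial.eval₂_C]
          exact (RingHom.congr_fun χ.2 b).symm
        · intro i
          simp only [RingHom.comp_apply, Ideal.Quotient.lift_mk]
          rw [MvPolynomial.coe_eval₂Hom, MvPolynomial.eval₂_X]
      right_inv := fun x => by
        apply Subtype.ext
        funext i
        simp only [Ideal.Quotient.lift_mk]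
        rw [MvPolynomial.coe_eval₂Hom, MvPolynomial.eval₂_X] }

theorem isTranscendenceBasis_of_isAlgebraic_adjoin {F E ι : Type*} [Field F] [Field E] [Algebra F E]
    {v : ι → E} (hv : AlgebraicIndependent F v)
    [Algebra.IsAlgebraic (IntermediateField.adjoin F (Set.range v)) E] :
    IsTranscendenceBasis F v := by
  rw [hv.isTranscendenceBasis_iff_isAlgebraic]
  open scoped IntermediateField.algebraAdjoinAdjoin in
  exact Algebra.IsAlgebraic.trans (Algebra.adjoin F (Set.range v))
    (IntermediateField.adjoin F (Set.range v)) E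

theorem trdeg_of_basis {B M L : Type u} [CommRing B] [IsDomain B] [Field M] [Field L] [Algebra B M]
    [IsFractionRing B M] [Algebra B L] [Algebra M L] [IsScalarTower B M L] {n : ℕ} {v : Fin n → L}
    (hv : IsTranscendenceBasis M v) : Algebra.trdeg B L = n := by
  have h1 : FaithfulSMul B M := (faithfulSMul_iff_algebraMap_injective _ _).mpr
    (IsFractionRing.injective B M)
  have h2 : Algebra.IsAlgebraic B M := IsLocalization.isAlgebraic _ (nonZeroDivisors B)
  have h3 := _root_.trdeg_add_eq B M (A := L)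
  rw [_root_.trdeg_eq_zero (R := B) (A := M), zero_add] at h3
  rw [← h3]
  have h4 := hv.lift_cardinalMk_eq_trdeg
  simpa using h4.symm

/-- The generic fibre of a relative curve is geometrically a domain. -/
theorem isDomain_tensor_algClosure {M L : Type u} [Field M] [Field L] [Algebra M L]
    (hM : ∀ a : L, IsSeparable M a → a ∈ (algebraMap M L).range) {ι : Type*} {v : ι → L}
    (hv : AlgebraicIndependent M v)
    [Algebra.IsSeparable (IntermediateField.adjoin M (Set.range v)) L] :
    IsDomain (AlgebraicClosure M ⊗[M] L) := by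
  have h1 : Algebra.FormallySmooth M L := .of_algebraicIndependent_of_isSeparable hv
  have h2 : Algebra.IsGeometricallyReduced M L :=
    (Groth.Agent.Ega41.SepExt.formallySmooth_iff_isGeometricallyReduced (k := M) (K := L)).mp h1
  have h3 : IsReduced (AlgebraicClosure M ⊗[M] L) :=
    (Algebra.isGeometricallyReduced_field_iff M L).mp h2
  rw [Groth.Agent.FlatB.GenFibDom.isDomain_iff]
  exact ⟨Groth.Agent.VarietyA.GeomIrr.irreducibleSpace_of_sepClosed_in M L (AlgebraicClosure M) hM, h3⟩

theorem isDomain_tensor_of_injective {B M L Ω D : Type*} [CommRing B] [IsDomain B] [Field M] [Field L]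
    [Algebra B M] [IsFractionRing B M] [Algebra B L] [Algebra M L] [IsScalarTower B M L]
    [Field Ω] [Algebra B Ω] [Algebra M Ω] [IsScalarTower B M Ω]
    [IsDomain (Ω ⊗[M] L)] [CommRing D] [Algebra B D] (g : D →ₐ[B] L) (hg : Function.Injective g) :
    IsDomain (Ω ⊗[B] D) := by
  have f1 : Module.Flat B M := IsLocalization.flat M (nonZeroDivisors B)
  have f2 : Module.Flat B Ω := Module.Flat.trans B M Ω
  let φ : Ω ⊗[B] D →ₐ[Ω] Ω ⊗[B] L := Algebra.TensorProduct.map (AlgHom.id Ω Ω) g
  have hφ : Function.Injective φ := Module.Flat.lTensor_preserves_injective_linearMap (M := Ω)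
    g.toLinearMap hg
  let e := IsLocalization.algebraTensorEquiv (nonZeroDivisors B) M Ω L
  have : Function.Injective (fun z => e.symm (φ z)) := e.symm.injective.comp hφ
  exact Function.Injective.isDomain (e.symm.toRingEquiv.toRingHom.comp φ.toRingHom) this

theorem aeval_equivMvPolynomial {B L : Type*} [CommRing B] [CommRing L] [Algebra B L] (x y : L)
    (g : Polynomial (Polynomial B)) :
    MvPolynomial.aeval ![x, y] (Polynomial.Bivariate.equivMvPolynomial B g) =
      Polynomial.eval₂ (Polynomial.aeval x : Polynomial B →ₐ[B] L).toRingHom y g := by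
  have : ((MvPolynomial.aeval ![x, y] : MvPolynomial (Fin 2) B →ₐ[B] L).toRingHom.comp
      (Polynomial.Bivariate.equivMvPolynomial B).toRingEquiv.toRingHom) =
      Polynomial.eval₂RingHom (Polynomial.aeval x : Polynomial B →ₐ[B] L).toRingHom y := by
    apply Polynomial.ringHom_ext'
    · apply Polynomial.ringHom_ext'
      · ext b
        simp
      · simp
    · simp
  exact RingHom.congr_fun this g

theorem map_equivMvPolynomial_ne_zero {B Ω : Type*} [CommRing B] [Field Ω] (φ : B →+* Ω)
    {f : Polynomial (Polynomial B)} (hf : f.Monic) :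
    MvPolynomial.map φ (Polynomial.Bivariate.equivMvPolynomial B f) ≠ 0 := by
  intro h0
  have h1 : (f.map (Polynomial.eval₂RingHom φ 0)).Monic := hf.map _
  have h2 : (MvPolynomial.eval₂Hom (Polynomial.C : Ω →+* Polynomial Ω) ![0, Polynomial.X]).comp
      ((MvPolynomial.map φ).comp (Polynomial.Bivariate.equivMvPolynomial B).toRingEquiv.toRingHom) =
      Polynomial.mapRingHom (Polynomial.eval₂RingHom φ 0) := by
    apply Polynomial.ringHom_ext'
    · apply Polynomial.ringHom_ext'
      · ext b
        simp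
      · simp
    · simp
  have h3 := RingHom.congr_fun h2 f
  apply h1.ne_zero
  rw [Polynomial.coe_mapRingHom] at h3
  rw [← h3]
  simp only [RingHom.comp_apply]
  refine Eq.trans (congrArg _ ?_) (map_zero _)
  exact h0

/-- **Relative dimension one**: the Lang–Weil estimate for a relative curve. -/
theorem RD1 (hPC : PCB.{u}) {B M L : Type u} [CommRing B] [IsDomain B] [Field M] [Field L]
    [Algebra B M] [IsFractionRing B M] [Algebra B L] [Algebra M L] [IsScalarTower B M L]
    (hM : ∀ a : L, IsSeparable M a → a ∈ (algebraMap M L).range) (x : L) (hx : Transcendental M x)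
    [FiniteDimensional M⟮x⟯ L] [Algebra.IsSeparable M⟮x⟯ L] (A : Subalgebra B L) (hA : A.FG)
    (hAL : ∀ x : L, ∃ a ∈ A, ∃ b ∈ A, b ≠ 0 ∧ x = a / b) : LW.{u, u, u} B A 1 := by
  classical
  obtain ⟨y, f, hf, hker, hclos⟩ := exists_model (B := B) (M := M) x hx
  let e := Polynomial.Bivariate.equivMvPolynomial B
  let f' := e f
  let Φ : MvPolynomial (Fin 2) B →ₐ[B] L := MvPolynomial.aeval ![x, y]
  have hΦ : ∀ g, Φ (e g) =
      Polynomial.eval₂ (Polynomial.aeval x : Polynomial B →ₐ[B] L).toRingHom y g :=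
    aeval_equivMvPolynomial x y
  have hkerΦ : RingHom.ker Φ = Ideal.span {f'} := by
    ext p
    obtain ⟨g, rfl⟩ := e.surjective p
    rw [RingHom.mem_ker, Ideal.mem_span_singleton]
    change Φ (e g) = 0 ↔ _
    rw [hΦ, hker]
    exact (map_dvd_iff e).symm
  have inj : Function.Injective (algebraMap B L) := by
    rw [IsScalarTower.algebraMap_eq B M L]
    exact (algebraMap M L).injective.comp (IsFractionRing.injective B M)
  have : FaithfulSMul B L := (faithfulSMul_iff_algebraMap_injective _ _).mpr inj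
  have hD : Φ.range.FG := by
    rw [Subalgebra.fg_iff_finiteType]
    exact Algebra.FiniteType.of_surjective Φ.rangeRestrict Φ.rangeRestrict_surjective
  have hDL : ∀ x : L, ∃ a ∈ Φ.range, ∃ b ∈ Φ.range, b ≠ 0 ∧ x = a / b := by
    rw [frac_iff, ← hclos]
    congr 1
    ext z
    constructor
    · rintro ⟨p, rfl⟩
      obtain ⟨g, rfl⟩ := e.surjective p
      exact ⟨g, (hΦ g).symm⟩
    · rintro ⟨g, rfl⟩
      exact ⟨e g, hΦ g⟩
  have hv : AlgebraicIndependent M ![x] := by
    rw [algebraicIndependent_unique_type_iff]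
    exact hx
  have hr : Set.range ![x] = {x} := by simp
  have fd : FiniteDimensional (IntermediateField.adjoin M (Set.range ![x])) L := by rw [hr]; infer_instance
  have sp : Algebra.IsSeparable (IntermediateField.adjoin M (Set.range ![x])) L := by
    rw [hr]; infer_instance
  have htr : Algebra.trdeg B L = (0 + 1 : ℕ) :=
    trdeg_of_basis (isTranscendenceBasis_of_isAlgebraic_adjoin hv)
  obtain ⟨h₁, hh₁, C₁, hC₁, H₁⟩ := bir.{u, u} hA hD hAL hDL htr
  have hdom : IsDomain (AlgebraicClosure M ⊗[M] L) := isDomain_tensor_algClosure hM hv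
  let E : (MvPolynomial (Fin 2) B ⧸ Ideal.span {f'}) ≃ₐ[B] Φ.range :=
    (Ideal.quotientEquivAlgOfEq B (by
      rw [← hkerΦ]; ext p; rw [RingHom.mem_ker, RingHom.mem_ker]
      exact ⟨fun h => Subtype.ext h, fun h => congrArg Subtype.val h⟩)).trans
      (Ideal.quotientKerAlgEquivOfSurjective Φ.rangeRestrict_surjective)
  have hdom' : IsDomain (AlgebraicClosure M ⊗[B] (MvPolynomial (Fin 2) B ⧸ Ideal.span {f'})) :=
    isDomain_tensor_of_injective (M := M) (L := L) (Φ.range.val.comp E.toAlgHom)
      (Subtype.val_injective.comp E.injective)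
  have injΩ : Function.Injective (algebraMap B (AlgebraicClosure M)) := by
    rw [IsScalarTower.algebraMap_eq B M (AlgebraicClosure M)]
    exact (algebraMap M _).injective.comp (IsFractionRing.injective B M)
  obtain ⟨a, ha, Ha⟩ := Groth.Agent.FlatB.GenFibDom.exists_isDomain
    (MvPolynomial (Fin 2) B ⧸ Ideal.span {f'}) (AlgebraicClosure M) injΩ
  obtain ⟨C₂, H₂⟩ := hPC f'.totalDegree
  refine ⟨h₁ * a, mul_ne_zero hh₁ ha, C₁ + |C₂|, add_nonneg hC₁ (abs_nonneg _), ?_⟩
  intro F _ _ ψ hψ
  rw [map_mul] at hψ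
  have b1 := H₁ F ψ (left_ne_zero_of_mul hψ)
  have hψa := right_ne_zero_of_mul hψ
  let : Algebra B (AlgebraicClosure F) := ((algebraMap F (AlgebraicClosure F)).comp ψ).toAlgebra
  have hda := Ha (AlgebraicClosure F) (by
    change (algebraMap F (AlgebraicClosure F)) (ψ a) ≠ 0
    simpa using hψa)
  have hirr := irreducible_of_isDomain_tensor (Ω := AlgebraicClosure F) f'
    (map_equivMvPolynomial_ne_zero _ hf)
  have b2 := H₂ F (MvPolynomial.map ψ f') (Finset.sup_mono (MvPolynomial.support_map_subset _ _)) (by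
    rw [MvPolynomial.map_map]; exact hirr)
  rw [← N_quot, N_congr ψ E] at b2
  have hq1 : (1 : ℝ) ≤ Nat.card F := by
    exact_mod_cast Nat.card_pos
  have hs : (Nat.card F : ℝ) ^ 1 / Real.sqrt (Nat.card F) = Real.sqrt (Nat.card F) := by
    rw [pow_one]
    exact Real.div_sqrt
  rw [hs, pow_one]
  rw [pow_zero, mul_one] at b1
  have hs1 : 1 ≤ Real.sqrt (Nat.card F) := Real.one_le_sqrt.mpr hq1
  have b3 : C₂ * Real.sqrt (Nat.card F) ≤ |C₂| * Real.sqrt (Nat.card F) :=
    mul_le_mul_of_nonneg_right (le_abs_self _) (Real.sqrt_nonneg _)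
  have b4 : C₁ ≤ C₁ * Real.sqrt (Nat.card F) := le_mul_of_one_le_right hC₁ hs1
  calc |(N A ψ : ℝ) - Nat.card F|
      = |((N A ψ : ℝ) - N Φ.range ψ) + ((N Φ.range ψ : ℝ) - Nat.card F)| := by congr 1; ring
    _ ≤ |(N A ψ : ℝ) - N Φ.range ψ| + |(N Φ.range ψ : ℝ) - Nat.card F| := abs_add_le _ _
    _ ≤ (C₁ + |C₂|) * Real.sqrt (Nat.card F) := by rw [add_mul]; linarith

end K468.Cnt
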