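import Groth.Agent.Zeta.K468.ArithPts
import Mathlib.RingTheory.KrullDimension.Basic
import Mathlib.RingTheory.Localization.BaseChange
import Mathlib.Analysis.PSeries

/-!
# Absolute convergence for finitely generated rings
-/

set_option autoImplicit false
universe u v w

open Filter Topology
open scoped TensorProduct nonZeroDivisors

namespace K468.Arith

open K468.EP

/-- A chain of primes of a localization can be prolonged if no maximal ideal survives. -/
theorem succ_length_le {B BM : Type*} [CommRing B] [CommRing BM] [Algebra B BM] (M : Submonoid B)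
    [IsLocalization M BM] (h : ∀ 𝔪 : Ideal B, 𝔪.IsMaximal → ∃ x ∈ M, x ∈ 𝔪)
    (l : LTSeries (PrimeSpectrum BM)) : ((l.length + 1 : ℕ) : WithBot ℕ∞) ≤ ringKrullDim B := by
  let f : PrimeSpectrum BM → PrimeSpectrum B := PrimeSpectrum.comap (algebraMap B BM)
  have hf : StrictMono f := by
    refine Monotone.strictMono_of_injective (fun p q hpq => Ideal.comap_mono hpq) ?_
    exact PrimeSpectrum.localization_comap_injective BM M
  let l' := l.map f hf
  obtain ⟨𝔪, hm, hle⟩ := Ideal.exists_le_maximal l'.last.asIdeal l'.last.2.ne_top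
  have hlt : l'.last < ⟨𝔪, hm.isPrime⟩ := by
    refine lt_of_le_of_ne hle fun heq => ?_
    obtain ⟨x, hxM, hx𝔪⟩ := h 𝔪 hm
    have h1 : x ∈ l'.last.asIdeal := by rw [heq]; exact hx𝔪
    rw [LTSeries.last_map] at h1
    have h2 : algebraMap B BM x ∈ l.last.asIdeal := h1
    exact l.last.2.ne_top (Ideal.eq_top_of_isUnit_mem _ h2 (IsLocalization.map_units BM ⟨x, hxM⟩))
  rw [ringKrullDim, Order.le_krullDim_iff]
  refine ⟨l'.snoc ⟨𝔪, hm.isPrime⟩ hlt, ?_⟩
  simp [l']

theorem ringKrullDim_loc_le {B BM : Type*} [CommRing B] [CommRing BM] [Algebra B BM]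
    (M : Submonoid B) [IsLocalization M BM]
    (h : ∀ 𝔪 : Ideal B, 𝔪.IsMaximal → ∃ x ∈ M, x ∈ 𝔪) {r : ℕ}
    (hr : ringKrullDim B ≤ (r + 1 : ℕ)) : ringKrullDim BM ≤ r := by
  rw [ringKrullDim, Order.krullDim]
  refine iSup_le fun l => ?_
  have h1 := (succ_length_le M h l).trans hr
  have h2 : l.length + 1 ≤ r + 1 := by exact_mod_cast h1
  exact_mod_cast Nat.le_of_succ_le_succ h2

theorem pos_of_ringKrullDim_le {B BM : Type*} [CommRing B] [CommRing BM] [Nontrivial BM]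
    [Algebra B BM] (M : Submonoid B) [IsLocalization M BM]
    (h : ∀ 𝔪 : Ideal B, 𝔪.IsMaximal → ∃ x ∈ M, x ∈ 𝔪) {r : ℕ}
    (hr : ringKrullDim B ≤ r) : 0 < r := by
  obtain ⟨p⟩ : Nonempty (PrimeSpectrum BM) := inferInstance
  have h1 := (succ_length_le M h (RelSeries.singleton _ p)).trans hr
  have h2 : (RelSeries.singleton _ p : LTSeries (PrimeSpectrum BM)).length + 1 ≤ r := by
    exact_mod_cast h1
  exact lt_of_lt_of_le (Nat.succ_pos _) h2

section Count

variable {P : Type*}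

/-- Convergence from a bound for the number of points of norm `n`. -/
theorem summable_indicator (N : P → ℕ) (T : Set P) (B : ℕ → ℝ) (σ : ℝ)
    (hfin : ∀ n, Finite {x // x ∈ T ∧ N x = n})
    (hB : ∀ n, (Nat.card {x // x ∈ T ∧ N x = n} : ℝ) ≤ B n)
    (hsum : Summable fun n : ℕ => B n * (n : ℝ) ^ (-σ)) :
    Summable (T.indicator fun x => (N x : ℝ) ^ (-σ)) := by
  rw [← summable_subtype_iff_indicator]
  rw [← (Equiv.sigmaFiberEquiv (fun x : T => N x)).summable_iff]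
  have hnn : ∀ z, 0 ≤ (((fun x => (N x : ℝ) ^ (-σ)) ∘ ((↑) : T → P)) ∘
      (Equiv.sigmaFiberEquiv (fun x : T => N x))) z := fun z =>
    Real.rpow_nonneg (Nat.cast_nonneg _) _
  rw [summable_sigma_of_nonneg hnn]
  have e : ∀ n, {x : T // N x = n} ≃ {x // x ∈ T ∧ N x = n} := fun n =>
    { toFun := fun x => ⟨x.1.1, x.1.2, x.2⟩
      invFun := fun x => ⟨⟨x.1, x.2.1⟩, x.2.2⟩
      left_inv := fun x => rfl
      right_inv := fun x => rfl }
  have hc : ∀ (n : ℕ) (y : {x : T // N x = n}),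
      (((fun x => (N x : ℝ) ^ (-σ)) ∘ ((↑) : T → P)) ∘
        (Equiv.sigmaFiberEquiv (fun x : T => N x))) ⟨n, y⟩ = (n : ℝ) ^ (-σ) := by
    intro n y
    simp only [Function.comp_apply, Equiv.sigmaFiberEquiv_apply]
    rw [y.2]
  constructor
  · intro n
    have := hfin n
    have : Finite {x : T // N x = n} := Finite.of_equiv _ (e n).symm
    exact Summable.of_finite
  · refine Summable.of_nonneg_of_le (fun n => tsum_nonneg fun y => hnn _) (fun n => ?_) hsum
    rw [tsum_congr (hc n), tsum_const, nsmul_eq_mul, Nat.card_congr (e n)]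
    exact mul_le_mul_of_nonneg_right (hB n) (Real.rpow_nonneg (Nat.cast_nonneg _) _)

end Count

section Ring

theorem exists_field_card {n : ℕ} (hn : IsPrimePow n) :
    ∃ (F : Type) (_ : Field F) (_ : Finite F), Nat.card F = n := by
  obtain ⟨p, m, hp, hm, rfl⟩ := hn
  have : Fact p.Prime := ⟨Nat.prime_iff.mpr hp⟩
  exact ⟨GaloisField p m, inferInstance, inferInstance, GaloisField.card p m hm.ne'⟩

theorem nonempty_ringEquiv (K L : Type*) [Field K] [Finite K] [Field L] [Finite L]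
    (h : Nat.card K = Nat.card L) : Nonempty (K ≃+* L) := by
  have := Fintype.ofFinite K
  have := Fintype.ofFinite L
  exact ⟨FiniteField.ringEquivOfCardEq (by
    rwa [Nat.card_eq_fintype_card, Nat.card_eq_fintype_card] at h)⟩

theorem finite_ringHom (B F : Type*) [CommRing B] [inst : Algebra ℤ B] [h : Algebra.FiniteType ℤ B]
    [CommRing F] [Finite F] : Finite (B →+* F) := by
  obtain rfl : inst = Ring.toIntAlgebra B := Subsingleton.elim _ _
  exact @Groth.Agent.UnramA.MonoEndo.finite_ringHom_of_finiteType_int B F _ _ h _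

variable (A : Type u) [CommRing A] [Algebra.FiniteType ℤ A]

theorem card_T_le (I : Ideal A) (h : ℤ) (F : Type w) [Field F] [Finite F] :
    Finite {𝔪 : MaximalSpectrum A // 𝔪 ∈ {𝔪 : MaximalSpectrum A | I ≤ 𝔪.asIdeal ∧
      (h : A) ∉ 𝔪.asIdeal} ∧ nm A 𝔪 = Nat.card F} ∧
    ((h : F) = 0 → Nat.card {𝔪 : MaximalSpectrum A // 𝔪 ∈ {𝔪 : MaximalSpectrum A | I ≤ 𝔪.asIdeal ∧
      (h : A) ∉ 𝔪.asIdeal} ∧ nm A 𝔪 = Nat.card F} = 0) ∧
    Nat.card {𝔪 : MaximalSpectrum A // 𝔪 ∈ {𝔪 : MaximalSpectrum A | I ≤ 𝔪.asIdeal ∧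
      (h : A) ∉ 𝔪.asIdeal} ∧ nm A 𝔪 = Nat.card F} ≤ Nat.card (A ⧸ I →+* F) := by
  set X := {𝔪 : MaximalSpectrum A // 𝔪 ∈ {𝔪 : MaximalSpectrum A | I ≤ 𝔪.asIdeal ∧
      (h : A) ∉ 𝔪.asIdeal} ∧ nm A 𝔪 = Nat.card F} with hX
  have he : ∀ 𝔪 : X, Nonempty (A ⧸ 𝔪.1.asIdeal ≃+* F) := by
    intro 𝔪
    have := 𝔪.1.isMaximal
    have := finite_quot A 𝔪.1.asIdeal
    let _ := Ideal.Quotient.field 𝔪.1.asIdeal
    exact nonempty_ringEquiv _ F 𝔪.2.2
  let e := fun 𝔪 => (he 𝔪).some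
  let ι : X → (A ⧸ I →+* F) := fun 𝔪 => (e 𝔪).toRingHom.comp (Ideal.Quotient.factor 𝔪.2.1.1)
  have hker : ∀ 𝔪 : X, ∀ a : A, ι 𝔪 (Ideal.Quotient.mk I a) = 0 ↔ a ∈ 𝔪.1.asIdeal := by
    intro 𝔪 a
    have h1 : ι 𝔪 (Ideal.Quotient.mk I a) = e 𝔪 (Ideal.Quotient.mk 𝔪.1.asIdeal a) := rfl
    rw [h1, map_eq_zero_iff _ (e 𝔪).injective, Ideal.Quotient.eq_zero_iff_mem]
  have hinj : Function.Injective ι := by
    intro 𝔪 𝔪' h1
    apply Subtype.ext
    apply MaximalSpectrum.ext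
    ext a
    rw [← hker 𝔪, ← hker 𝔪', h1]
  have : Algebra.FiniteType ℤ (A ⧸ I) := Algebra.FiniteType.of_surjective
    (Ideal.Quotient.mkₐ ℤ I) Ideal.Quotient.mk_surjective
  have hfin : Finite (A ⧸ I →+* F) := finite_ringHom (A ⧸ I) F
  refine ⟨Finite.of_injective ι hinj, fun h0 => ?_, Nat.card_le_card_of_injective ι hinj⟩
  have : IsEmpty X := by
    refine ⟨fun 𝔪 => 𝔪.2.1.2 ?_⟩
    rw [← hker 𝔪]
    simpa using h0
  exact Nat.card_of_isEmpty

theorem card_T_eq_zero (I : Ideal A) (h : ℤ) {n : ℕ} (hn : ¬ IsPrimePow n) :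
    IsEmpty {𝔪 : MaximalSpectrum A // 𝔪 ∈ {𝔪 : MaximalSpectrum A | I ≤ 𝔪.asIdeal ∧
      (h : A) ∉ 𝔪.asIdeal} ∧ nm A 𝔪 = n} :=
  ⟨fun 𝔪 => hn (𝔪.2.2 ▸ isPrimePow_nm A 𝔪.1)⟩

theorem ft_quot (A : Type*) [CommRing A] [Algebra.FiniteType ℤ A] (I : Ideal A) :
    @Algebra.FiniteType ℤ (A ⧸ I) _ _ (Ring.toIntAlgebra (A ⧸ I)) := by
  have h := Algebra.FiniteType.of_surjective (Ideal.Quotient.mkₐ ℤ I) Ideal.Quotient.mk_surjective
  have e : Ideal.instAlgebraQuotient ℤ I = Ring.toIntAlgebra (A ⧸ I) := Subsingleton.elim _ _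
  rw [← e]
  exact h

theorem N_int_eq (B : Type*) [CommRing B] (F : Type*) [Field F] (φ : ℤ →+* F) :
    Cnt.N B φ = Nat.card (B →+* F) :=
  Nat.card_congr (Equiv.subtypeUnivEquiv fun _ => Subsingleton.elim _ _)

theorem maximal_meets_int (B : Type*) [CommRing B] [Algebra.FiniteType ℤ B] (𝔪 : Ideal B)
    (hm : 𝔪.IsMaximal) : ∃ x ∈ Algebra.algebraMapSubmonoid B (nonZeroDivisors ℤ), x ∈ 𝔪 := by
  have := finite_quot B 𝔪
  have := Fintype.ofFinite (B ⧸ 𝔪)
  have hc : (Nat.card (B ⧸ 𝔪) : B ⧸ 𝔪) = 0 := by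
    rw [Nat.card_eq_fintype_card]; exact Nat.cast_card_eq_zero _
  refine ⟨algebraMap ℤ B (Nat.card (B ⧸ 𝔪)), ⟨_, ?_, rfl⟩, ?_⟩
  · have : 0 < Nat.card (B ⧸ 𝔪) := Nat.card_pos
    exact mem_nonZeroDivisors_of_ne_zero (by exact_mod_cast this.ne')
  · rw [← Ideal.Quotient.eq_zero_iff_mem]
    simp

theorem exists_bound (B : Type u) [CommRing B] [IsDomain B] [Algebra.FiniteType ℤ B] (r : ℕ)
    (hr : ringKrullDim B ≤ r) (σ : ℝ) (hσ : r < σ) :
    ∃ h : ℤ, (h : B) ≠ 0 ∧ ∃ b : ℕ → ℝ, (Summable fun n : ℕ => b n * (n : ℝ) ^ (-σ)) ∧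
      (∀ n, 0 ≤ b n) ∧ ∀ (F : Type w) [Field F] [Finite F], (h : F) ≠ 0 →
        (Nat.card (B →+* F) : ℝ) ≤ b (Nat.card F) := by
  classical
  obtain ⟨p, hp⟩ := CharP.exists B
  rcases CharP.char_is_prime_or_zero B p with hp' | rfl
  · have : Fact p.Prime := ⟨hp'⟩
    let _ : Algebra (ZMod p) B := ZMod.algebra B p
    have ft : Algebra.FiniteType (ZMod p) B :=
      Algebra.FiniteType.of_restrictScalars_finiteType ℤ (ZMod p) B
    have hdim : ringKrullDim (ZMod p ⊗[ZMod p] B) ≤ r := by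
      rw [ringKrullDim_eq_of_ringEquiv (Algebra.TensorProduct.lid (ZMod p) B).toRingEquiv]
      exact hr
    obtain ⟨h, hh, C, hC, H⟩ := Cnt.UBd.of_dim.{0, u, w} (R := ZMod p) (A := B) (ZMod p) hdim
    let b : ℕ → ℝ := fun n => if n ∈ Set.range (fun m : ℕ => p ^ m) then C * (n : ℝ) ^ r else 0
    refine ⟨1, by simp, b, ?_, fun n => ?_, fun F _ _ _ => ?_⟩
    · have hinj : Function.Injective (fun m : ℕ => p ^ m) := Nat.pow_right_injective hp'.two_le
      have h3 : ∀ n ∉ Set.range (fun m : ℕ => p ^ m), b n * (n : ℝ) ^ (-σ) = 0 := by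
        intro n hn
        simp only [b]
        rw [if_neg hn, zero_mul]
      rw [← hinj.summable_iff h3]
      have hp0 : (0 : ℝ) < p := by exact_mod_cast hp'.pos
      have hlt : (p : ℝ) ^ ((r : ℝ) - σ) < 1 :=
        Real.rpow_lt_one_of_one_lt_of_neg (by exact_mod_cast hp'.one_lt) (by linarith)
      refine ((summable_geometric_of_lt_one (by positivity) hlt).mul_left C).congr fun m => ?_
      simp only [Function.comp_apply, b]
      rw [if_pos ⟨m, rfl⟩]
      push_cast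
      rw [← Real.rpow_natCast (p : ℝ) m, ← Real.rpow_natCast ((p : ℝ) ^ ((r : ℝ) - σ)) m,
        ← Real.rpow_natCast (((p : ℝ) ^ (m : ℝ))) r, ← Real.rpow_mul hp0.le, ← Real.rpow_mul hp0.le,
        ← Real.rpow_mul hp0.le, mul_assoc, ← Real.rpow_add hp0]
      congr 2
      ring
    · simp only [b]
      split_ifs
      · positivity
      · exact le_rfl
    · by_cases hne : Nonempty (B →+* F)
      · obtain ⟨f⟩ := hne
        have hFp : CharP F p := charP_of_injective_ringHom (R := ZMod p) (A := F)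
          (f := f.comp (algebraMap (ZMod p) B)) (RingHom.injective _) p
        let _ : Algebra (ZMod p) F := ZMod.algebra F p
        have h1 := H F (algebraMap (ZMod p) F) ((map_ne_zero _).mpr hh)
        have h2 : Cnt.N B (algebraMap (ZMod p) F) = Nat.card (B →+* F) :=
          Nat.card_congr (Equiv.subtypeUnivEquiv fun _ => Subsingleton.elim _ _)
        have h4 : Nat.card F = p ^ Module.finrank (ZMod p) F := by
          rw [Module.natCard_eq_pow_finrank (K := ZMod p), Nat.card_zmod]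
        simp only [b]
        rw [if_pos ⟨_, h4.symm⟩, ← h2]
        exact h1
      · rw [not_nonempty_iff] at hne
        rw [Nat.card_of_isEmpty, Nat.cast_zero]
        simp only [b]
        split_ifs
        · positivity
        · exact le_rfl
  · have c0 : CharZero B := CharP.charP_to_charZero B
    let _ : Algebra B (ℚ ⊗[ℤ] B) := Algebra.TensorProduct.rightAlgebra
    have inj : Function.Injective (algebraMap ℤ B) := by
      rw [algebraMap_int_eq]; exact Int.cast_injective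
    have hle : Algebra.algebraMapSubmonoid B (nonZeroDivisors ℤ) ≤ B⁰ := by
      rintro _ ⟨c, hc, rfl⟩
      rw [mem_nonZeroDivisors_iff_ne_zero]
      exact (map_ne_zero_iff _ inj).mpr (nonZeroDivisors.ne_zero hc)
    have loc : IsLocalization (Algebra.algebraMapSubmonoid B (nonZeroDivisors ℤ)) (ℚ ⊗[ℤ] B) :=
      inferInstance
    have nt : Nontrivial (ℚ ⊗[ℤ] B) :=
      (IsLocalization.injective (M := Algebra.algebraMapSubmonoid B (nonZeroDivisors ℤ))
        (ℚ ⊗[ℤ] B) hle).nontrivial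
    have hpos : 0 < r := pos_of_ringKrullDim_le (BM := ℚ ⊗[ℤ] B)
      (Algebra.algebraMapSubmonoid B (nonZeroDivisors ℤ)) (maximal_meets_int B) hr
    obtain ⟨r, rfl⟩ := Nat.exists_eq_succ_of_ne_zero hpos.ne'
    have hdim : ringKrullDim (ℚ ⊗[ℤ] B) ≤ r := ringKrullDim_loc_le
      (Algebra.algebraMapSubmonoid B (nonZeroDivisors ℤ)) (maximal_meets_int B) hr
    obtain ⟨h, hh, C, hC, H⟩ := Cnt.UBd.of_dim.{0, u, w} (R := ℤ) (A := B) ℚ hdim
    refine ⟨h, by exact_mod_cast hh, fun n => C * (n : ℝ) ^ r, ?_, fun n => by positivity,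
      fun F _ _ hF => ?_⟩
    · have h1 : Summable fun n : ℕ => C * (n : ℝ) ^ ((r : ℝ) - σ) := by
        refine Summable.mul_left C ?_
        rw [Real.summable_nat_rpow]
        push_cast at hσ
        linarith
      refine h1.congr_cofinite ?_
      have : ∀ᶠ n : ℕ in cofinite, n ≠ 0 := (Set.finite_singleton 0).compl_mem_cofinite
      filter_upwards [this] with n hn
      have hn0 : (0 : ℝ) < n := by exact_mod_cast Nat.pos_of_ne_zero hn
      rw [mul_assoc, ← Real.rpow_natCast (n : ℝ) r, ← Real.rpow_add hn0]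
      congr 2
    · have h1 := H F (Int.castRingHom F) (by simpa using hF)
      rw [N_int_eq] at h1
      exact h1

end Ring

end K468.Arith
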