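import Groth.Agent.Zeta.K468.Summ

/-!
# Absolute convergence for finitely generated rings: Noetherian induction
-/

set_option autoImplicit false
universe u v w

open Filter Topology
open scoped nonZeroDivisors

namespace K468.Arith

open K468.EP

theorem summable_indicator_of_subset_union {P : Type*} (f : P → ℝ) (hf : ∀ x, 0 ≤ f x)
    {T T₁ T₂ : Set P} (h : T ⊆ T₁ ∪ T₂) (h₁ : Summable (T₁.indicator f))
    (h₂ : Summable (T₂.indicator f)) : Summable (T.indicator f) := by
  refine Summable.of_nonneg_of_le (fun x => Set.indicator_nonneg (fun x _ => hf x) x)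
    (fun x => ?_) (h₁.add h₂)
  by_cases hx : x ∈ T
  · rw [Set.indicator_of_mem hx]
    rcases h hx with h1 | h1
    · rw [Set.indicator_of_mem h1]
      linarith [Set.indicator_nonneg (s := T₂) (fun x _ => hf x) x]
    · rw [Set.indicator_of_mem h1]
      linarith [Set.indicator_nonneg (s := T₁) (fun x _ => hf x) x]
  · rw [Set.indicator_of_notMem hx]
    exact add_nonneg (Set.indicator_nonneg (fun x _ => hf x) x)
      (Set.indicator_nonneg (fun x _ => hf x) x)

theorem summable_ge (A : Type u) [CommRing A] [Algebra.FiniteType ℤ A] (r : ℕ)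
    (hr : ringKrullDim A ≤ r) (σ : ℝ) (hσ : r < σ) (I : Ideal A) :
    Summable ({𝔪 : MaximalSpectrum A | I ≤ 𝔪.asIdeal}.indicator
      fun 𝔪 => (nm A 𝔪 : ℝ) ^ (-σ)) := by
  have hA : IsNoetherianRing A := Algebra.FiniteType.isNoetherianRing ℤ A
  have hf : ∀ 𝔪 : MaximalSpectrum A, 0 ≤ (nm A 𝔪 : ℝ) ^ (-σ) := fun 𝔪 =>
    Real.rpow_nonneg (Nat.cast_nonneg _) _
  induction I using WellFoundedGT.induction with
  | _ I ih =>
  have hlt : ∀ c, c ∉ I → I < I ⊔ Ideal.span {c} := fun c hc =>
    lt_of_le_of_ne le_sup_left fun heq => hc (heq ▸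
      Ideal.mem_sup_right (Ideal.mem_span_singleton_self c))
  by_cases hI : I.IsPrime
  · have dom : IsDomain (A ⧸ I) := (Ideal.Quotient.isDomain_iff_prime I).mpr hI
    have ft := ft_quot A I
    obtain ⟨h, hh, b, hb1, hb2, H⟩ := exists_bound.{u, 0} (A ⧸ I) r
      ((ringKrullDim_quotient_le I).trans hr) σ hσ
    have hhI : (h : A) ∉ I := fun hmem => hh (by
      have := Ideal.Quotient.eq_zero_iff_mem.mpr hmem
      simpa using this)
    refine summable_indicator_of_subset_union _ hf
      (T₁ := {𝔪 : MaximalSpectrum A | I ≤ 𝔪.asIdeal ∧ (h : A) ∉ 𝔪.asIdeal})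
      (T₂ := {𝔪 : MaximalSpectrum A | I ⊔ Ideal.span {(h : A)} ≤ 𝔪.asIdeal}) ?_ ?_
      (ih _ (hlt _ hhI))
    · intro 𝔪 h𝔪
      by_cases h1 : (h : A) ∈ 𝔪.asIdeal
      · exact Or.inr (sup_le h𝔪 ((Ideal.span_singleton_le_iff_mem _).mpr h1))
      · exact Or.inl ⟨h𝔪, h1⟩
    · refine summable_indicator (nm A) _ b σ (fun n => ?_) (fun n => ?_) hb1
      · by_cases hn : IsPrimePow n
        · obtain ⟨F, _, _, rfl⟩ := exists_field_card hn
          exact (card_T_le A I h F).1
        · have := card_T_eq_zero A I h hn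
          infer_instance
      · by_cases hn : IsPrimePow n
        · obtain ⟨F, _, _, rfl⟩ := exists_field_card hn
          obtain ⟨-, h1, h2⟩ := card_T_le A I h F
          by_cases h0 : (h : F) = 0
          · rw [h1 h0, Nat.cast_zero]
            exact hb2 _
          · refine le_trans ?_ (H F h0)
            exact_mod_cast h2
        · have := card_T_eq_zero A I h hn
          rw [Nat.card_of_isEmpty, Nat.cast_zero]
          exact hb2 _
  · by_cases htop : I = ⊤
    · have h1 : {𝔪 : MaximalSpectrum A | I ≤ 𝔪.asIdeal} = ∅ := by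
        ext 𝔪
        simp only [Set.mem_ofPred_eq, Set.mem_empty_iff_false, iff_false]
        intro h
        rw [htop, top_le_iff] at h
        exact 𝔪.isMaximal.ne_top h
      rw [h1, Set.indicator_empty]
      exact summable_zero
    · rw [Ideal.isPrime_iff] at hI
      push Not at hI
      obtain ⟨a, b, hab, ha, hb⟩ := hI htop
      refine summable_indicator_of_subset_union _ hf ?_ (ih _ (hlt a ha)) (ih _ (hlt b hb))
      intro 𝔪 h𝔪
      have h1 : a * b ∈ 𝔪.asIdeal := h𝔪 hab
      rcases 𝔪.isMaximal.isPrime.mem_or_mem h1 with h2 | h2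
      · exact Or.inl (sup_le h𝔪 ((Ideal.span_singleton_le_iff_mem _).mpr h2))
      · exact Or.inr (sup_le h𝔪 ((Ideal.span_singleton_le_iff_mem _).mpr h2))

/-- **Absolute convergence**: `∑ N(𝔪) ^ (-σ)` converges for `σ > dim A`. -/
theorem summable_maxSpec (A : Type u) [CommRing A] [Algebra.FiniteType ℤ A] (r : ℕ)
    (hr : ringKrullDim A ≤ r) (σ : ℝ) (hσ : r < σ) :
    Summable fun 𝔪 : MaximalSpectrum A => (nm A 𝔪 : ℝ) ^ (-σ) := by
  have h := summable_ge A r hr σ hσ ⊥
  have h1 : {𝔪 : MaximalSpectrum A | (⊥ : Ideal A) ≤ 𝔪.asIdeal} = Set.univ := by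
    ext 𝔪; simp
  rwa [h1, Set.indicator_univ] at h

theorem exists_ringKrullDim_le (A : Type u) [CommRing A] [Algebra.FiniteType ℤ A] :
    ∃ r : ℕ, ringKrullDim A ≤ r := by
  obtain ⟨n, f, hf⟩ := Algebra.FiniteType.iff_quotient_mvPolynomial''.mp
    (inferInstance : Algebra.FiniteType ℤ A)
  refine ⟨1 + n, (ringKrullDim_le_of_surjective f.toRingHom hf).trans ?_⟩
  rw [MvPolynomial.ringKrullDim_of_isNoetherianRing]
  have : ringKrullDim ℤ ≤ (1 : ℕ) := by
    rw [← Ring.krullDimLE_iff]
    infer_instance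
  push_cast at this ⊢
  exact add_le_add this (by simp)

end K468.Arith
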