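import Groth.Agent.Zeta.K468.RD1
import Groth.Agent.Flat2E.FinSepClosure
import Mathlib.FieldTheory.SeparablyGenerated

/-!
# Cutting a separably generated extension into a relative curve over a smaller one
-/

set_option autoImplicit false
universe u v w

open IntermediateField
open scoped TensorProduct

namespace K468.Cnt

/-- One step of the tower. -/
theorem exists_tower {K L : Type u} [Field K] [Field L] [Algebra K L] {r : ℕ} (v : Fin (r + 1) → L)
    (hv : AlgebraicIndependent K v) [FiniteDimensional (adjoin K (Set.range v)) L]
    [Algebra.IsSeparable (adjoin K (Set.range v)) L] :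
    ∃ (M : IntermediateField K L) (v' : Fin r → M), AlgebraicIndependent K v' ∧
      FiniteDimensional (adjoin K (Set.range v')) M ∧
      Algebra.IsSeparable (adjoin K (Set.range v')) M ∧
      (∀ a : L, IsSeparable M a → a ∈ (algebraMap M L).range) ∧
      ∃ x : L, Transcendental M x ∧ FiniteDimensional M⟮x⟯ L ∧ Algebra.IsSeparable M⟮x⟯ L := by
  classical
  have ess : Algebra.EssFiniteType K L := by
    have h1 : Algebra.EssFiniteType K (adjoin K (Set.range v)) :=
      essFiniteType_iff.mpr (fg_adjoin_of_finite (Set.finite_range v))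
    exact .comp K (adjoin K (Set.range v)) L
  let w : Fin r → L := v ∘ Fin.castSucc
  let E : IntermediateField K L := adjoin K (Set.range w)
  have essE : Algebra.EssFiniteType E L := .of_comp K E L
  let E' : IntermediateField E L := separableClosure E L
  have fE' : FiniteDimensional E E' :=
    Groth.Agent.Flat2E.FinSepClosure.finiteDimensional_separableClosure
  let M : IntermediateField K L := E'.restrictScalars K
  have hEM : E ≤ M := fun x hx => E'.algebraMap_mem ⟨x, hx⟩
  let v' : Fin r → M := fun i => ⟨w i, hEM (subset_adjoin K _ ⟨i, rfl⟩)⟩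
  have hvv : (algebraMap M L) ∘ v' = w := rfl
  have hw : AlgebraicIndependent K w := hv.comp _ (Fin.castSucc_injective r)
  let E₁ : IntermediateField K M := adjoin K (Set.range v')
  have hE₁ : E₁.map M.val = E := by
    rw [adjoin_map]
    congr 1
    rw [← Set.range_comp]
    rfl
  let e₁ : E ≃ₐ[K] E₁ := ((E₁.equivMap M.val).trans (equivOfEq hE₁)).symm
  have he₁ : ∀ z : E, ((e₁ z : M) : L) = z := by
    intro z
    obtain ⟨y, rfl⟩ := e₁.symm.surjective z
    rw [AlgEquiv.apply_symm_apply]
    rfl
  have he : RingHom.comp (algebraMap E₁ M) (e₁.toRingEquiv : E →+* E₁) =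
      RingHom.comp ((RingEquiv.refl M : M ≃+* M) : M →+* M) (algebraMap E E') := by
    ext z
    exact he₁ z
  refine ⟨M, v', AlgebraicIndependent.of_comp M.val hw, ?_, ?_, ?_, ?_⟩
  · exact Module.Finite.of_equiv_equiv (A₁ := E) (B₁ := E') e₁.toRingEquiv (RingEquiv.refl M) he
  · exact Algebra.IsSeparable.of_equiv_equiv (A₁ := E) (B₁ := E') e₁.toRingEquiv (RingEquiv.refl M) he
  · intro a ha
    have h1 : a ∈ separableClosure E' L := mem_separableClosure_iff.mpr ha
    have h2 : separableClosure E' L = ⊥ := separableClosure.separableClosure_eq_bot E L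
    rw [h2] at h1
    obtain ⟨b, hb⟩ := mem_bot.mp h1
    exact ⟨b, hb⟩
  · let x : L := v (Fin.last r)
    refine ⟨x, ?_, ?_⟩
    · have h1 := hv.transcendental_adjoin (s := Set.range Fin.castSucc) (i := Fin.last r) (by
        rintro ⟨j, hj⟩
        exact absurd hj (Fin.castSucc_lt_last j).ne)
      rw [← Set.range_comp] at h1
      have h2 : Transcendental E x := transcendental_adjoin_iff.mpr h1
      intro h3
      have h4 : IsAlgebraic E' x := h3
      have h5 : IsScalarTower E E' L := E'.isScalarTower_mid'
      exact h2 (h4.restrictScalars E)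
    · let G : IntermediateField K L := adjoin K (Set.range v)
      have hG : G ≤ (M⟮x⟯).restrictScalars K := by
        rw [adjoin_le_iff]
        rintro _ ⟨i, rfl⟩
        refine Fin.lastCases ?_ (fun j => ?_) i
        · exact mem_adjoin_simple_self M x
        · exact (M⟮x⟯).algebraMap_mem (v' j)
      let H : IntermediateField G L := extendScalars hG
      have h1 : FiniteDimensional H L := FiniteDimensional.right G H L
      have h2 : Algebra.IsSeparable H L := Algebra.isSeparable_tower_top_of_isSeparable G H L
      exact ⟨h1, h2⟩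

end K468.Cnt
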