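import Groth.Agent.Zeta.K468.NS
import Groth.Agent.Zeta.K466.PlaneCurve

/-!
# Unconditional forms of the Lang–Weil estimate
-/

set_option autoImplicit false
universe u

namespace K468.Cnt

/-- The plane curve bound. -/
theorem pcb : PCB.{u} := fun d => K466.PlaneCurve.planeCurve d

end K468.Cnt
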